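import Mathlib.RingTheory.HopfAlgebra.Basic
import Mathlib.RingTheory.HopfAlgebra.Convolution
import Mathlib.RingTheory.Bialgebra.Equiv
import Mathlib.RingTheory.FiniteType
import Mathlib.RingTheory.Ideal.Quotient.Operations

/-!
# Universe-small models of finitely generated Hopf algebras

A Hopf algebra structure moves along an algebra equivalence, so a finitely generated Hopf algebra
over `k : Type u` is isomorphic to one in `Type u`.
-/

universe u v w

open TensorProduct

namespace GrothLib.HopfAG

variable {k : Type u} [CommRing k] {A : Type v} [CommRing A] {A' : Type w} [CommRing A'] [Algebra k A']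

section

variable [HopfAlgebra k A] (e : A' ≃ₐ[k] A)

/-- The transported comultiplication. -/
noncomputable def comul' : A' →ₐ[k] A' ⊗[k] A' :=
  (Algebra.TensorProduct.map e.symm.toAlgHom e.symm.toAlgHom).comp
    ((Bialgebra.comulAlgHom k A).comp e.toAlgHom)

theorem map_comul' (x : A') :
    Algebra.TensorProduct.map e.toAlgHom e.toAlgHom (comul' e x) = Coalgebra.comul (R := k) (e x) := by
  change Algebra.TensorProduct.map e.toAlgHom e.toAlgHom
    (Algebra.TensorProduct.map e.symm.toAlgHom e.symm.toAlgHom (Coalgebra.comul (R := k) (e x))) = _
  induction Coalgebra.comul (R := k) (e x) using TensorProduct.induction_on with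
  | zero => simp
  | tmul p q => simp
  | add p q hp hq => simp only [map_add, hp, hq]

/-- The transported bialgebra structure. -/
@[reducible] noncomputable def bialgebra : Bialgebra k A' := by
  refine Bialgebra.ofAlgHom (comul' e) ((Bialgebra.counitAlgHom k A).comp e.toAlgHom) ?_ ?_ ?_
  · refine AlgHom.ext fun x => ?_
    have k1 : ∀ t : A ⊗[k] A, (Algebra.TensorProduct.assoc k k k A' A' A')
          (Algebra.TensorProduct.map (comul' e) (.id k A')
            (Algebra.TensorProduct.map e.symm.toAlgHom e.symm.toAlgHom t)) =
        TensorProduct.map e.symm.toLinearMap (TensorProduct.map e.symm.toLinearMap e.symm.toLinearMap)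
          (TensorProduct.assoc k A A A (Coalgebra.comul.rTensor A t)) := fun t => by
      induction t using TensorProduct.induction_on with
      | zero => simp
      | tmul p q =>
        simp only [Algebra.TensorProduct.map_tmul, AlgHom.id_apply, LinearMap.rTensor_tmul, comul',
          AlgHom.comp_apply, AlgEquiv.coe_algHom, AlgEquiv.apply_symm_apply, Bialgebra.comulAlgHom_apply]
        induction Coalgebra.comul (R := k) p using TensorProduct.induction_on with
        | zero => simp
        | tmul a b => simp
        | add a b ha hb => simp only [map_add, TensorProduct.add_tmul, ha, hb]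
      | add p q hp hq => simp only [map_add, hp, hq]
    have k2 : ∀ t : A ⊗[k] A, Algebra.TensorProduct.map (.id k A') (comul' e)
          (Algebra.TensorProduct.map e.symm.toAlgHom e.symm.toAlgHom t) =
        TensorProduct.map e.symm.toLinearMap (TensorProduct.map e.symm.toLinearMap e.symm.toLinearMap)
          (Coalgebra.comul.lTensor A t) := fun t => by
      induction t using TensorProduct.induction_on with
      | zero => simp
      | tmul p q =>
        simp only [Algebra.TensorProduct.map_tmul, AlgHom.id_apply, LinearMap.lTensor_tmul, comul',
          AlgHom.comp_apply, AlgEquiv.coe_algHom, AlgEquiv.apply_symm_apply, Bialgebra.comulAlgHom_apply]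
        induction Coalgebra.comul (R := k) q using TensorProduct.induction_on with
        | zero => simp
        | tmul a b => simp
        | add a b ha hb => simp only [map_add, TensorProduct.tmul_add, ha, hb]
      | add p q hp hq => simp only [map_add, hp, hq]
    refine (k1 _).trans (Eq.trans ?_ (k2 _).symm)
    exact congrArg _ (Coalgebra.coassoc_apply _)
  · refine AlgHom.ext fun x => ?_
    change Algebra.TensorProduct.map _ _ (Algebra.TensorProduct.map e.symm.toAlgHom e.symm.toAlgHom
      (Coalgebra.comul (R := k) (e x))) = (1 : k) ⊗ₜ[k] x
    have k1 : ∀ t : A ⊗[k] A,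
        Algebra.TensorProduct.map ((Bialgebra.counitAlgHom k A).comp e.toAlgHom) (.id k A')
          (Algebra.TensorProduct.map e.symm.toAlgHom e.symm.toAlgHom t) =
        LinearMap.lTensor k e.symm.toLinearMap (Coalgebra.counit.rTensor A t) := fun t => by
      induction t using TensorProduct.induction_on with
      | zero => simp
      | tmul p q => simp
      | add p q hp hq => simp only [map_add, hp, hq]
    rw [k1, Coalgebra.rTensor_counit_comul]
    simp
  · refine AlgHom.ext fun x => ?_
    change Algebra.TensorProduct.map _ _ (Algebra.TensorProduct.map e.symm.toAlgHom e.symm.toAlgHom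
      (Coalgebra.comul (R := k) (e x))) = x ⊗ₜ[k] (1 : k)
    have k1 : ∀ t : A ⊗[k] A,
        Algebra.TensorProduct.map (.id k A') ((Bialgebra.counitAlgHom k A).comp e.toAlgHom)
          (Algebra.TensorProduct.map e.symm.toAlgHom e.symm.toAlgHom t) =
        LinearMap.rTensor k e.symm.toLinearMap (Coalgebra.counit.lTensor A t) := fun t => by
      induction t using TensorProduct.induction_on with
      | zero => simp
      | tmul p q => simp
      | add p q hp hq => simp only [map_add, hp, hq]
    rw [k1, Coalgebra.lTensor_counit_comul]
    simp

/-- The transported Hopf algebra structure. -/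
@[reducible] noncomputable def hopfAlgebra : HopfAlgebra k A' :=
  letI := bialgebra e
  HopfAlgebra.ofAlgHom (e.symm.toAlgHom.comp ((HopfAlgebra.antipodeAlgHom k A).comp e.toAlgHom))
    (by
      refine AlgHom.ext fun x => e.injective ?_
      change e ((Algebra.TensorProduct.lift
        (e.symm.toAlgHom.comp ((HopfAlgebra.antipodeAlgHom k A).comp e.toAlgHom)) (.id k A')
          fun _ ↦ Commute.all _) (comul' e x)) = e (algebraMap k A' (Coalgebra.counit (R := k) (e x)))
      rw [AlgEquiv.commutes, ← HopfAlgebra.mul_antipode_rTensor_comul_apply (R := k) (e x), ← map_comul' e x]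
      induction comul' e x using TensorProduct.induction_on with
      | zero => simp
      | tmul p q => simp
      | add p q hp hq => simp only [map_add, hp, hq])
    (by
      refine AlgHom.ext fun x => e.injective ?_
      change e ((Algebra.TensorProduct.lift (.id k A')
        (e.symm.toAlgHom.comp ((HopfAlgebra.antipodeAlgHom k A).comp e.toAlgHom))
          fun _ _ ↦ Commute.all _ _) (comul' e x)) = e (algebraMap k A' (Coalgebra.counit (R := k) (e x)))
      rw [AlgEquiv.commutes, ← HopfAlgebra.mul_antipode_lTensor_comul_apply (R := k) (e x), ← map_comul' e x]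
      induction comul' e x using TensorProduct.induction_on with
      | zero => simp
      | tmul p q => simp
      | add p q hp hq => simp only [map_add, hp, hq])

/-- The equivalence, as an isomorphism of bialgebras. -/
noncomputable def bialgEquiv : letI := hopfAlgebra e; A' ≃ₐc[k] A :=
  letI := hopfAlgebra e
  BialgEquiv.ofAlgEquiv e rfl (AlgHom.ext fun x => map_comul' e x)

end

/-- A finitely generated Hopf algebra is isomorphic to one in the universe of the base. -/
theorem exists_model (k : Type u) [CommRing k] (A : Type v) [CommRing A] [HopfAlgebra k A]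
    [Algebra.FiniteType k A] :
    ∃ (A' : Type u) (_ : CommRing A') (_ : HopfAlgebra k A') (_ : A' ≃ₐc[k] A),
      Algebra.FiniteType k A' := by
  obtain ⟨n, f, hf⟩ := Algebra.FiniteType.iff_quotient_mvPolynomial''.mp ‹Algebra.FiniteType k A›
  let e := Ideal.quotientKerAlgEquivOfSurjective hf
  letI := hopfAlgebra e
  exact ⟨_, inferInstance, hopfAlgebra e, bialgEquiv e,
    Algebra.FiniteType.of_surjective (Ideal.Quotient.mkₐ k _) (Ideal.Quotient.mkₐ_surjective k _)⟩

end GrothLib.HopfAG
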