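import Groth.Prelude.Def_SGA3
import Groth.Agent.Lib.Hopf.Translate
import Mathlib.FieldTheory.IsAlgClosed.Basic
import Mathlib.RingTheory.Jacobson.Ring
import Groth.Agent.Lib.HopfAG.Model
import Groth.Agent.Lib.Hopf.Faithful
import Groth.Agent.Lib.Hopf.Sub
import Mathlib.RingTheory.RingHom.FaithfullyFlat
import Mathlib.RingTheory.Flat.FaithfullyFlat.Algebra
import Mathlib.RingTheory.Bialgebra.Equiv

/-!
# Faithful flatness for finitely generated Hopf algebras, any universes
-/

universe u v w

open TensorProduct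

set_option linter.style.haveILetI false

namespace GrothLib.HopfAG

variable {k : Type u} [Field k] {A : Type v} {B : Type w} [CommRing A] [CommRing B] [HopfAlgebra k A]
  [HopfAlgebra k B] [Algebra.FiniteType k A] [Algebra.FiniteType k B]

theorem comp_ff {R S T : Type*} [CommRing R] [CommRing S] [CommRing T] {f : R →+* S} {g : S →+* T}
    (hf : f.FaithfullyFlat) (hg : g.FaithfullyFlat) : (g.comp f).FaithfullyFlat := by
  algebraize [f, g, g.comp f]
  exact Module.FaithfullyFlat.trans R S T

/-- An injective bialgebra map of finitely generated Hopf algebras is faithfully flat. -/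
theorem faithfullyFlat_of_injective (f : A →ₐc[k] B) (hf : Function.Injective f) :
    (f : A →+* B).FaithfullyFlat := by
  obtain ⟨A', _, _, eA, -⟩ := exists_model k A
  obtain ⟨B', _, _, eB, -⟩ := exists_model k B
  let φ : A' →ₐc[k] B' := (eB.symm : B →ₐc[k] B').comp (f.comp (eA : A' →ₐc[k] A))
  have hφ : Function.Injective φ := eB.symm.injective.comp (hf.comp eA.injective)
  letI := ((φ : A' →ₐ[k] B') : A' →+* B').toAlgebra
  have h : (algebraMap A' B').FaithfullyFlat :=
    RingHom.faithfullyFlat_algebraMap_iff.mpr (GrothLib.Hopf.faithfullyFlat φ (fun _ => rfl) hφ)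
  have he : (f : A →+* B) = ((eB : B' →ₐc[k] B) : B' →+* B).comp
      ((algebraMap A' B').comp ((eA.symm : A →ₐc[k] A') : A →+* A')) := by
    ext a
    change f a = eB (eB.symm (f (eA (eA.symm a))))
    simp
  have h1 : ((eA.symm : A →ₐc[k] A') : A →+* A').FaithfullyFlat :=
    RingHom.FaithfullyFlat.of_bijective eA.symm.bijective
  have h2 : ((eB : B' →ₐc[k] B) : B' →+* B).FaithfullyFlat :=
    RingHom.FaithfullyFlat.of_bijective eB.bijective
  rw [he]
  exact comp_ff (comp_ff h1 h) h2

/-- The image of a bialgebra map is a sub-Hopf algebra. -/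
theorem isHopfSubalgebra_range {A' B' : Type u} [CommRing A'] [HopfAlgebra k A'] [CommRing B']
    [HopfAlgebra k B'] (f : A' →ₐc[k] B') :
    SGA3.IsHopfSubalgebra k B' (f : A' →ₐ[k] B').range := by
  refine ⟨?_, ?_⟩ <;> rintro b ⟨a, rfl⟩
  · change Coalgebra.comul (R := k) (f a) ∈ _
    rw [← CoalgHomClass.map_comp_comul_apply f a]
    induction Coalgebra.comul (R := k) a using TensorProduct.induction_on with
    | zero => simp
    | tmul p q => exact ⟨⟨_, p, rfl⟩ ⊗ₜ ⟨_, q, rfl⟩, rfl⟩
    | add p q hp hq => rw [map_add]; exact add_mem hp hq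
  · exact ⟨HopfAlgebra.antipode k a, (GrothLib.Hopf.bialgHom_antipode f a).symm⟩

/-- A finitely generated Hopf algebra is faithfully flat over the image of a bialgebra map. -/
theorem faithfullyFlat_range_val (f : A →ₐc[k] B) :
    ((f : A →ₐ[k] B).range.val : (f : A →ₐ[k] B).range →+* B).FaithfullyFlat := by
  obtain ⟨A', _, _, eA, hA'⟩ := exists_model k A
  obtain ⟨B', _, _, eB, hB'⟩ := exists_model k B
  let φ : A' →ₐc[k] B' := (eB.symm : B →ₐc[k] B').comp (f.comp (eA : A' →ₐc[k] A))
  have hS := isHopfSubalgebra_range φ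
  letI := GrothLib.Hopf.Sub.hopfAlgebra hS
  haveI : Algebra.FiniteType k ↥(φ : A' →ₐ[k] B').range :=
    Algebra.FiniteType.of_surjective _ (φ : A' →ₐ[k] B').rangeRestrict_surjective
  have h := faithfullyFlat_of_injective (GrothLib.Hopf.Sub.valHom hS) Subtype.val_injective
  let j : ↥(f : A →ₐ[k] B).range →+* ↥(φ : A' →ₐ[k] B').range :=
    ((eB.symm : B →+* B').comp (Subalgebra.val (f : A →ₐ[k] B).range : _ →+* B)).codRestrict _ fun x => by
      obtain ⟨a, ha⟩ := x.2
      refine ⟨eA.symm a, ?_⟩
      change eB.symm (f (eA (eA.symm a))) = eB.symm (x : B)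
      rw [BialgEquiv.apply_symm_apply, ← ha]
      rfl
  have hj : Function.Bijective j := by
    refine ⟨fun x y hxy => Subtype.ext (eB.symm.injective (congrArg Subtype.val hxy)), ?_⟩
    rintro ⟨y, a, rfl⟩
    exact ⟨⟨f (eA a), ⟨eA a, rfl⟩⟩, rfl⟩
  have he : ((f : A →ₐ[k] B).range.val : (f : A →ₐ[k] B).range →+* B) =
      ((eB : B' →ₐc[k] B) : B' →+* B).comp (((GrothLib.Hopf.Sub.valHom hS : _ →ₐc[k] B') : _ →+* B').comp j) := by
    ext x
    change (x : B) = eB (eB.symm (x : B))
    simp
  have h2 : ((eB : B' →ₐc[k] B) : B' →+* B).FaithfullyFlat :=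
    RingHom.FaithfullyFlat.of_bijective eB.bijective
  rw [he]
  exact comp_ff (comp_ff (RingHom.FaithfullyFlat.of_bijective hj) h) h2

/-- Divisibility descends along an injective bialgebra map. -/
theorem dvd_of_map_dvd (f : A →ₐc[k] B) (hf : Function.Injective f) (a c : A) (h : f c ∣ f a) :
    c ∣ a := by
  letI := (f : A →+* B).toAlgebra
  haveI : Module.FaithfullyFlat A B :=
    RingHom.faithfullyFlat_algebraMap_iff.mp (faithfullyFlat_of_injective f hf)
  rw [← Ideal.mem_span_singleton, ← Ideal.comap_map_eq_self_of_faithfullyFlat (B := B) (Ideal.span {c}),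
    Ideal.mem_comap, Ideal.map_span, Set.image_singleton]
  exact Ideal.mem_span_singleton.mpr h

/-- Points with values in an algebraically closed field lift along an injective bialgebra map. -/
theorem exists_algHom_comp_eq (f : A →ₐc[k] B) (hf : Function.Injective f) (K : Type*) [Field K]
    [IsAlgClosed K] [Algebra k K] (q : A →ₐ[k] K) :
    ∃ g : B →ₐ[k] K, g.comp (f : A →ₐ[k] B) = q := by
  letI := (f : A →+* B).toAlgebra
  haveI : IsScalarTower k A B := IsScalarTower.of_algebraMap_eq fun r => ((f : A →ₐ[k] B).commutes r).symm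
  letI := (q : A →+* K).toAlgebra
  haveI : IsScalarTower k A K := IsScalarTower.of_algebraMap_eq fun r => (q.commutes r).symm
  haveI : Module.FaithfullyFlat A B :=
    RingHom.faithfullyFlat_algebraMap_iff.mp (faithfullyFlat_of_injective f hf)
  haveI : Algebra.FiniteType A B := .of_restrictScalars_finiteType k A B
  haveI : Nontrivial (K ⊗[A] B) := Module.FaithfullyFlat.rTensor_nontrivial A B K
  obtain ⟨m, hm⟩ := Ideal.exists_maximal (K ⊗[A] B)
  letI := Ideal.Quotient.field m
  haveI : Algebra.FiniteType K ((K ⊗[A] B) ⧸ m) :=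
    Algebra.FiniteType.of_surjective (Ideal.Quotient.mkₐ K m) (Ideal.Quotient.mkₐ_surjective K m)
  haveI : Module.Finite K ((K ⊗[A] B) ⧸ m) := finite_of_finite_type_of_isJacobsonRing K _
  let e : K ≃ₐ[K] (K ⊗[A] B) ⧸ m := AlgEquiv.ofBijective (Algebra.ofId K _)
    IsAlgClosed.algebraMap_bijective_of_isIntegral
  let g : B →ₐ[A] K := (e.symm.toAlgHom.restrictScalars A).comp
    (((Ideal.Quotient.mkₐ K m).restrictScalars A).comp Algebra.TensorProduct.includeRight)
  refine ⟨g.restrictScalars k, AlgHom.ext fun a => ?_⟩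
  exact g.commutes a

end GrothLib.HopfAG
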