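import Mathlib.RingTheory.HopfAlgebra.Convolution
import Mathlib.RingTheory.HopfAlgebra.Quotient
import Mathlib.RingTheory.Bialgebra.Convolution
import Mathlib.LinearAlgebra.TensorProduct.Basis
import Mathlib.LinearAlgebra.Basis.VectorSpace
import Groth.Agent.Lib.ArtAC.Basic

/-!
# Closed subgroups cut out by sets of rational points
-/

universe u v w

open TensorProduct WithConv

namespace GrothLib.HopfAG

variable {k : Type u} [Field k]

/-- A tensor killed by enough pairs of points vanishes. -/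
theorem eq_zero_of_forall_pair {C : Type v} {D : Type w} [CommRing C] [Algebra k C] [CommRing D]
    [Algebra k D] {S : Set (C →ₐ[k] k)} {T : Set (D →ₐ[k] k)}
    (hC : ∀ c : C, (∀ g ∈ S, g c = 0) → c = 0) (hD : ∀ d : D, (∀ h ∈ T, h d = 0) → d = 0)
    (t : C ⊗[k] D) (ht : ∀ g ∈ S, ∀ h ∈ T, Algebra.TensorProduct.lift g h (fun _ _ => .all _ _) t = 0) :
    t = 0 := by
  classical
  let b := Module.Basis.ofVectorSpace k D
  obtain ⟨c, rfl⟩ := TensorProduct.eq_repr_basis_right b t
  have h0 : ∀ g ∈ S, ∀ i, g (c i) = 0 := by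
    intro g hg
    have hd : (c.sum fun i x => g x • b i) = 0 := hD _ fun h hh => by
      rw [← ht g hg h hh, Finsupp.sum, Finsupp.sum, map_sum, map_sum]
      exact Finset.sum_congr rfl fun i _ => by simp
    intro i
    by_cases hi : i ∈ c.support
    · exact linearIndependent_iff'.mp b.linearIndependent c.support (fun i => g (c i)) hd i hi
    · rw [Finsupp.notMem_support_iff.mp hi, map_zero]
  have hc : c = 0 := Finsupp.ext fun i => hC _ fun g hg => h0 g hg i
  simp [hc]

variable {A : Type v} [CommRing A] [HopfAlgebra k A]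

/-- The functions vanishing on a subgroup of rational points form a Hopf ideal. -/
theorem isHopfIdeal_iInf_ker (S : Subgroup (WithConv (A →ₐ[k] k))) :
    Ideal.IsHopfIdeal k (⨅ g ∈ S, RingHom.ker (ofConv g : A →ₐ[k] k)) := by
  set I := ⨅ g ∈ S, RingHom.ker (ofConv g : A →ₐ[k] k)
  have hI : ∀ {a}, a ∈ I ↔ ∀ g ∈ S, (ofConv g : A →ₐ[k] k) a = 0 := fun {a} => by
    simp [I, Submodule.mem_iInf, RingHom.mem_ker]
  have hle : ∀ g : S, I ≤ RingHom.ker (ofConv g.1 : A →ₐ[k] k) := fun g a ha => hI.mp ha _ g.2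
  let q : S → ((A ⧸ I) →ₐ[k] k) := fun g => Ideal.Quotient.liftₐ I (ofConv g.1) (hle g)
  have hsep : ∀ c : A ⧸ I, (∀ f ∈ Set.range q, f c = 0) → c = 0 := fun c hc => by
    obtain ⟨a, rfl⟩ := Ideal.Quotient.mk_surjective c
    rw [Ideal.Quotient.eq_zero_iff_mem, hI]
    intro g hg
    simpa [q] using hc _ ⟨⟨g, hg⟩, rfl⟩
  exact
  { counit_eq_zero := fun a ha => by
      have h := hI.mp ha 1 S.one_mem
      simpa using h
    map_mkQ_comul_eq_zero := fun a ha => by
      change Algebra.TensorProduct.map (Ideal.Quotient.mkₐ k I) (Ideal.Quotient.mkₐ k I)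
        (Coalgebra.comul (R := k) a) = 0
      refine eq_zero_of_forall_pair hsep hsep _ ?_
      rintro _ ⟨g, rfl⟩ _ ⟨h, rfl⟩
      rw [← hI.mp ha _ (S.mul_mem g.2 h.2)]
      change _ = (g.1 * h.1) a
      rw [AlgHom.convMul_apply]
      induction Coalgebra.comul (R := k) a using TensorProduct.induction_on with
      | zero => simp
      | tmul x y => simp [q]
      | add x y hx hy => simp only [map_add, hx, hy]
    antipode_mem := fun a ha => hI.mpr fun g hg => hI.mp ha _ (S.inv_mem hg) }

variable [IsAlgClosed k] [Module.Finite k A] [IsReduced A]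

theorem sep_points (a : A) (h : ∀ g : A →ₐ[k] k, g a = 0) : a = 0 :=
  (GrothLib.ArtAC.eval_bijective_of_isReduced k).1 (funext fun g => (h g).trans (map_zero g).symm)

/-- Distinct closed subgroups of points cut out distinct ideals. -/
theorem mem_of_iInf_ker_le {S : Subgroup (WithConv (A →ₐ[k] k))} {g : A →ₐ[k] k}
    (h : (⨅ s ∈ S, RingHom.ker (ofConv s : A →ₐ[k] k)) ≤ RingHom.ker g) : toConv g ∈ S := by
  classical
  by_contra hg
  obtain ⟨a, ha⟩ := GrothLib.ArtAC.eval_surjective k (A := A) (Pi.single g 1)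
  have h1 : ∀ f : A →ₐ[k] k, f a = Pi.single (M := fun _ : A →ₐ[k] k => k) g 1 f := congrFun ha
  have ha' : a ∈ RingHom.ker g := h (by
    simp only [Submodule.mem_iInf, RingHom.mem_ker]
    intro s hs
    rw [h1, Pi.single_eq_of_ne]
    rintro rfl
    exact hg hs)
  rw [RingHom.mem_ker, h1, Pi.single_eq_same] at ha'
  exact one_ne_zero ha'

end GrothLib.HopfAG
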