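import Groth.Agent.Lib.HopfAG.UnipFun
import Groth.Agent.Lib.Comod.Semi
import Mathlib.LinearAlgebra.Eigenspace.Triangularizable
import Mathlib.LinearAlgebra.FiniteDimensional.Lemmas

/-!
# Trigonalizable groups
-/

universe u v v' w

set_option linter.style.haveILetI false

open TensorProduct HopfRep

namespace GrothLib.Trig

variable {k : Type u} [Field k] {A : Type v} [CommRing A] [Bialgebra k A]

/-- A full flag of a finite comodule of a trigonalizable group. -/
theorem exists_flag {V : Type v} [AddCommGroup V] [Module k V] [HopfRep.Comod k A V] [Module.Finite k V]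
    (hT : IsTrigonalizable k A) :
    ∃ F : ℕ → Submodule k V, Monotone F ∧ F 0 = ⊥ ∧ (∀ i, IsSubcomod (k := k) (A := A) (F i)) ∧
      (∀ i, ∃ v, F (i + 1) ≤ F i ⊔ Submodule.span k {v}) ∧
      ∀ i, i ≤ Module.finrank k V → Module.finrank k (F i) = i := by
  classical
  let P : Submodule k V → Submodule k V → Prop := fun U U' =>
    IsSubcomod (k := k) (A := A) U' ∧ ∃ v, v ∉ U ∧ U' = U ⊔ Submodule.span k {v}
  let G : Submodule k V → Submodule k V := fun U => if h : ∃ U', P U U' then h.choose else U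
  have hex : ∀ U, IsSubcomod (k := k) (A := A) U → U ≠ ⊤ → ∃ U', P U U' := by
    intro U hU hne
    let cq := ComodSub.Comod.quot ‹HopfRep.Comod k A V› U hU
    letI := cq
    haveI : Nontrivial (V ⧸ U) := Submodule.Quotient.nontrivial_iff.mpr hne
    obtain ⟨S, -, hS⟩ := Comodule.exists_simpleSub_le (C := A) (V := V ⧸ U) (Comodule.isSubcomod_top (k := k) (C := A) (V := V ⧸ U)) top_ne_bot
    have hs := (Comodule.isSimpleSub_iff_restr cq S hS.1).mp hS
    letI := ComodSub.Comod.restr cq S hS.1
    have h1 : Module.finrank k S = 1 := hT S inferInstance hs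
    obtain ⟨q, hq0, hq⟩ := finrank_eq_one_iff'.mp h1
    obtain ⟨v, hv⟩ := U.mkQ_surjective (q : V ⧸ U)
    have hvU : v ∉ U := fun hvU => hq0 (Subtype.ext (hv.symm.trans ((Submodule.Quotient.mk_eq_zero U).mpr hvU)))
    refine ⟨S.comap U.mkQ, ?_, v, hvU, ?_⟩
    · exact Comodule.IsComodHom.comap_isSubcomod (ComodSub.isComodHom_mkQ _ U hU) hS.1
    · have hS' : S = (Submodule.span k {v}).map U.mkQ := by
        rw [Submodule.map_span, Set.image_singleton, hv]
        refine le_antisymm (fun x hx => ?_) ((Submodule.span_singleton_le_iff_mem _ _).mpr q.2)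
        obtain ⟨c, hc⟩ := hq ⟨x, hx⟩
        exact Submodule.mem_span_singleton.mpr ⟨c, congrArg Subtype.val hc⟩
      rw [hS', Submodule.comap_map_eq, Submodule.ker_mkQ, sup_comm]
  have hG : ∀ U, IsSubcomod (k := k) (A := A) U →
      IsSubcomod (k := k) (A := A) (G U) ∧ U ≤ G U ∧ ∃ v, G U ≤ U ⊔ Submodule.span k {v} := fun U hU => by
    by_cases h : ∃ U', P U U'
    · have hGU : G U = h.choose := dif_pos h
      obtain ⟨hsub, v, -, he⟩ := h.choose_spec
      exact ⟨hGU ▸ hsub, by rw [hGU, he]; exact le_sup_left, v, (hGU.trans he).le⟩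
    · have hGU : G U = U := dif_neg h
      exact ⟨hGU.symm ▸ hU, hGU.ge, 0, hGU.le.trans le_sup_left⟩
  let F : ℕ → Submodule k V := fun n => G^[n] ⊥
  have hFs : ∀ i, F (i + 1) = G (F i) := fun i => Function.iterate_succ_apply' G i ⊥
  have hFc : ∀ i, IsSubcomod (k := k) (A := A) (F i) := fun i => by
    induction i with
    | zero => exact Comodule.isSubcomod_bot
    | succ i ih => rw [hFs]; exact (hG _ ih).1
  refine ⟨F, monotone_nat_of_le_succ fun i => hFs i ▸ (hG _ (hFc i)).2.1, rfl, hFc,
    fun i => hFs i ▸ (hG _ (hFc i)).2.2, fun i => ?_⟩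
  induction i with
  | zero => intro _; exact finrank_bot k V
  | succ i ih =>
    intro hi
    have h := ih (Nat.le_of_succ_le hi)
    have hne : F i ≠ ⊤ := fun e => by rw [e, finrank_top] at h; omega
    have hx := hex _ (hFc i) hne
    obtain ⟨-, v, hv, he⟩ := hx.choose_spec
    rw [(hFs i).trans ((dif_pos hx).trans he), Submodule.finrank_sup_span_singleton hv, h]

/-- A bialgebra covered by chains of subcomodules with steps of dimension at most one is trigonalizable. -/
theorem isTrigonalizable_of_chains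
    (h : ∀ a : A, ∃ (n : ℕ) (F : ℕ → Submodule k A), (∀ i, IsSubcomod (k := k) (A := A) (F i)) ∧
      F 0 = ⊥ ∧ a ∈ F n ∧ ∀ i, ∃ v, F (i + 1) ≤ F i ⊔ Submodule.span k {v}) :
    IsTrigonalizable k A := by
  intro V _ _ _ hfin hV
  classical
  obtain ⟨hnt, hsimp⟩ := hV
  obtain ⟨v₀, hv₀⟩ := exists_ne (0 : V)
  obtain ⟨φ, hφ⟩ : ∃ φ : Module.Dual k V, φ v₀ ≠ 0 := by
    by_contra! hall
    exact hv₀ ((Module.forall_dual_apply_eq_zero_iff k v₀).mp hall)
  set c := Comodule.cfMap (C := A) φ
  have hc := Comodule.isComodHom_cfMap (C := A) φ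
  have hker : LinearMap.ker c = ⊥ := by
    rcases hsimp _ (Comodule.IsComodHom.ker_isSubcomod hc) with h0 | h0
    · exact h0
    · exfalso
      have h1 := Comodule.counit_cfMap (C := A) φ v₀
      change Coalgebra.counit (R := k) (c v₀) = φ v₀ at h1
      have hz : c = 0 := LinearMap.ker_eq_top.mp h0
      rw [hz, LinearMap.zero_apply, map_zero] at h1
      exact hφ h1.symm
  obtain ⟨n, F, hFc, hF0, han, hstep⟩ := h (c v₀)
  have hex : ∃ i, (F (i + 1)).comap c ≠ ⊥ := by
    obtain ⟨j, rfl⟩ : ∃ j, n = j + 1 := Nat.exists_eq_succ_of_ne_zero fun hn => by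
      rw [hn, hF0, Submodule.mem_bot] at han
      exact hv₀ (LinearMap.ker_eq_bot'.mp hker _ han)
    exact ⟨j, (Submodule.ne_bot_iff _).mpr ⟨v₀, han, hv₀⟩⟩
  set i := Nat.find hex
  have htop : (F (i + 1)).comap c = ⊤ :=
    (hsimp _ (Comodule.IsComodHom.comap_isSubcomod hc (hFc _))).resolve_left (Nat.find_spec hex)
  have hbot : (F i).comap c = ⊥ := by
    rcases Nat.eq_zero_or_pos i with hi | hi
    · rw [hi, hF0, ← LinearMap.ker, hker]
    · by_contra hne
      exact Nat.find_min hex (m := i - 1) (by omega) (by rwa [show i - 1 + 1 = i by omega])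
  obtain ⟨v, hv⟩ := hstep i
  set q := (F i).mkQ ∘ₗ c
  have hq : Function.Injective q := LinearMap.ker_eq_bot.mp (by
    rw [LinearMap.ker_comp, Submodule.ker_mkQ, hbot])
  have hrange : LinearMap.range q ≤ Submodule.span k {(F i).mkQ v} := by
    rintro _ ⟨x, rfl⟩
    have hx : c x ∈ F (i + 1) := (htop.symm ▸ Submodule.mem_top : x ∈ (F (i + 1)).comap c)
    obtain ⟨a, ha, b, hb, hab⟩ := Submodule.mem_sup.mp (hv hx)
    obtain ⟨s, rfl⟩ := Submodule.mem_span_singleton.mp hb
    refine Submodule.mem_span_singleton.mpr ⟨s, ?_⟩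
    rw [LinearMap.comp_apply, ← hab, map_add, Submodule.mkQ_apply, Submodule.mkQ_apply,
      (Submodule.Quotient.mk_eq_zero _).mpr ha, zero_add]
    rfl
  have h1 : Module.finrank k V ≤ 1 := by
    rw [← LinearMap.finrank_range_of_inj hq]
    exact (Submodule.finrank_mono hrange).trans ((finrank_span_le_card _).trans (by simp))
  have h2 : 0 < Module.finrank k V := Module.finrank_pos
  omega

theorem exists_chain (hT : IsTrigonalizable k A) (a : A) :
    ∃ (n : ℕ) (F : ℕ → Submodule k A), (∀ i, IsSubcomod (k := k) (A := A) (F i)) ∧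
      F 0 = ⊥ ∧ a ∈ F n ∧ ∀ i, ∃ v, F (i + 1) ≤ F i ⊔ Submodule.span k {v} := by
  obtain ⟨U, hfin, haU, hUc⟩ := Comodule.exists_finite_subcomod (k := k) (C := A) a
  letI := ComodSub.Comod.restr (HopfRep.Comod.regular k A) U hUc
  obtain ⟨F, -, h0, hc, hstep, hrk⟩ := exists_flag (V := U) hT
  refine ⟨Module.finrank k U, fun i => (F i).map U.subtype, fun i => ?_, ?_, ?_, fun i => ?_⟩
  · exact Comodule.IsComodHom.map_isSubcomod (ComodSub.isComodHom_subtype _ U hUc) (hc i)
  · simp only [h0, Submodule.map_bot]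
  · refine ⟨⟨a, haU⟩, ?_, rfl⟩
    rw [Submodule.eq_top_of_finrank_eq (hrk _ le_rfl)]
    trivial
  · obtain ⟨v, hv⟩ := hstep i
    refine ⟨(v : A), (Submodule.map_mono hv).trans_eq ?_⟩
    rw [Submodule.map_sup, Submodule.map_span, Set.image_singleton]
    rfl

theorem isTrigonalizable_of_surjective {B : Type v'} [CommRing B] [Bialgebra k B] (φ : A →ₐc[k] B)
    (hφ : Function.Surjective φ) (hT : IsTrigonalizable k A) : IsTrigonalizable k B := by
  refine isTrigonalizable_of_chains fun b => ?_
  obtain ⟨a, rfl⟩ := hφ b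
  obtain ⟨n, F, hc, h0, han, hstep⟩ := exists_chain hT a
  set f : A →ₗ[k] B := (φ : A →ₐ[k] B).toLinearMap
  refine ⟨n, fun i => (F i).map f, fun i => ?_, ?_, ⟨a, han, rfl⟩, fun i => ?_⟩
  · rintro _ ⟨x, hx, rfl⟩
    obtain ⟨y, hy⟩ := hc i x hx
    change Coalgebra.comul (R := k) (φ x) ∈ _
    rw [← CoalgHomClass.map_comp_comul_apply φ x]
    have hy' : (F i).subtype.rTensor A y = Coalgebra.comul (R := k) x := hy
    rw [← hy']
    refine ⟨TensorProduct.map (f.restrict fun z hz => Submodule.mem_map_of_mem hz) f y, ?_⟩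
    rw [LinearMap.rTensor, LinearMap.rTensor, ← LinearMap.comp_apply, ← TensorProduct.map_comp,
      ← LinearMap.comp_apply, ← TensorProduct.map_comp]
    rfl
  · simp only [h0, Submodule.map_bot]
  · obtain ⟨v, hv⟩ := hstep i
    refine ⟨f v, (Submodule.map_mono hv).trans_eq ?_⟩
    rw [Submodule.map_sup, Submodule.map_span, Set.image_singleton]

theorem isTrigonalizable_of_injective {B : Type v} [CommRing B] [Bialgebra k B] (φ : B →ₐc[k] A)
    (hφ : Function.Injective φ) (hT : IsTrigonalizable k A) : IsTrigonalizable k B := by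
  intro V _ _ cB hfin hV
  letI cA : HopfRep.Comod k A V := Comodule.pushAlong (V := V) (φ : B →ₗc[k] A)
  refine hT V hfin ⟨hV.1, fun W hW => hV.2 W ?_⟩
  exact (Comodule.isSubcomod_iff_along (C := B) (D := A) (i := (φ : B →ₗc[k] A)) hφ rfl W).mpr hW

section BaseChange

variable (K : Type w) [Field K] [Algebra k K]

theorem isTrigonalizable_baseChange (hT : IsTrigonalizable k A) : IsTrigonalizable K (K ⊗[k] A) := by
  classical
  refine isTrigonalizable_of_chains fun z => ?_
  have hz : ∃ (s : Finset A), z ∈ Submodule.span K ((fun a : A => (1 : K) ⊗ₜ[k] a) '' (s : Set A)) := by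
    induction z using TensorProduct.induction_on with
    | zero => exact ⟨∅, zero_mem _⟩
    | tmul c a =>
      refine ⟨{a}, ?_⟩
      rw [show c ⊗ₜ[k] a = c • ((1 : K) ⊗ₜ[k] a) by rw [TensorProduct.smul_tmul', smul_eq_mul, mul_one]]
      exact Submodule.smul_mem _ _ (Submodule.subset_span ⟨a, by simp, rfl⟩)
    | add x y hx hy =>
      obtain ⟨s, hs⟩ := hx
      obtain ⟨t, ht⟩ := hy
      refine ⟨s ∪ t, add_mem (Submodule.span_mono ?_ hs) (Submodule.span_mono ?_ ht)⟩ <;>
        exact Set.image_mono (by simp)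
  obtain ⟨s, hs⟩ := hz
  obtain ⟨U, hU, hsU, -, hUfg⟩ :=
    GrothLib.Hopf.Comod.exists_smallest (k := k) (C := A) (V := A) (Submodule.span k (s : Set A))
  haveI : Module.Finite k U := Module.Finite.iff_fg.2 (hUfg ⟨s, rfl⟩)
  letI := ComodSub.Comod.restr (HopfRep.Comod.regular k A) U hU
  obtain ⟨F, -, h0, hc, hstep, hrk⟩ := exists_flag (V := U) hT
  set L : Submodule k A → Submodule K (K ⊗[k] A) := fun W =>
    Submodule.span K ((fun a : A => (1 : K) ⊗ₜ[k] a) '' (W : Set A)) with hL
  refine ⟨Module.finrank k U, fun i => L ((F i).map U.subtype), fun i => ?_, ?_, ?_, fun i => ?_⟩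
  · have hci := Comodule.IsComodHom.map_isSubcomod (ComodSub.isComodHom_subtype _ U hU) (hc i)
    intro x hx
    induction hx using Submodule.span_induction with
    | mem x hx =>
      obtain ⟨a, ha, rfl⟩ := hx
      obtain ⟨y, hy⟩ := hci a ha
      have e : Coalgebra.comul (R := K) ((1 : K) ⊗ₜ[k] a) =
          TensorProduct.AlgebraTensorModule.tensorTensorTensorComm k K k K K K A A
            (((1 : K) ⊗ₜ[K] (1 : K)) ⊗ₜ[k] Coalgebra.comul (R := k) a) := rfl
      change Coalgebra.comul (R := K) ((1 : K) ⊗ₜ[k] a) ∈ _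
      have hy' : ((F i).map U.subtype).subtype.rTensor A y = Coalgebra.comul (R := k) a := hy
      rw [e, ← hy']
      clear hy hy' e
      induction y using TensorProduct.induction_on with
      | zero => simp
      | tmul p q =>
        rw [LinearMap.rTensor_tmul, TensorProduct.AlgebraTensorModule.tensorTensorTensorComm_tmul]
        exact Unip.tmul_mem_range (U := L ((F i).map U.subtype)) (Submodule.subset_span ⟨p, p.2, rfl⟩) _
      | add p q hp hq => rw [map_add, TensorProduct.tmul_add, map_add]; exact add_mem hp hq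
    | zero => rw [map_zero]; exact zero_mem _
    | add x y _ _ hx hy => rw [map_add]; exact add_mem hx hy
    | smul c x _ hx => rw [map_smul]; exact Submodule.smul_mem _ c hx
  · simp only [h0, Submodule.map_bot]
    refine Submodule.span_eq_bot.mpr ?_
    rintro _ ⟨a, ha, rfl⟩
    change (1 : K) ⊗ₜ[k] a = 0
    rw [show a = 0 from ha, TensorProduct.tmul_zero]
  · simp only []
    rw [Submodule.eq_top_of_finrank_eq (hrk _ le_rfl), Submodule.map_top, Submodule.range_subtype]
    exact Submodule.span_mono (Set.image_mono fun a ha => hsU (Submodule.subset_span ha)) hs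
  · obtain ⟨v, hv⟩ := hstep i
    refine ⟨(1 : K) ⊗ₜ[k] (v : A), Submodule.span_le.mpr ?_⟩
    rintro _ ⟨a, ⟨u, hu, rfl⟩, rfl⟩
    obtain ⟨x, hx, y, hy, rfl⟩ := Submodule.mem_sup.mp (hv hu)
    obtain ⟨c, rfl⟩ := Submodule.mem_span_singleton.mp hy
    rw [SetLike.mem_coe]
    change (1 : K) ⊗ₜ[k] ((x : A) + c • (v : A)) ∈ _
    rw [TensorProduct.tmul_add, TensorProduct.tmul_smul, ← IsScalarTower.algebraMap_smul K c]
    exact add_mem (Submodule.mem_sup_left (Submodule.subset_span ⟨(x : A), ⟨x, hx, rfl⟩, rfl⟩))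
      (Submodule.mem_sup_right (Submodule.smul_mem _ _ (Submodule.mem_span_singleton_self _)))

end BaseChange

section Cocomm

variable {V : Type w} [AddCommGroup V] [Module k V] [HopfRep.Comod k A V]

/-- The coaction of an operator value. -/
theorem op_op (f g : Module.Dual k A) (v : V) :
    GrothLib.Hopf.Comod.op f (GrothLib.Hopf.Comod.op g v) =
      GrothLib.Hopf.Comod.op (LinearMap.mul' k k ∘ₗ TensorProduct.map f g ∘ₗ Coalgebra.comul) v := by
  have h := LinearMap.congr_fun (HopfRep.Comod.coassoc (k := k) (A := A) (V := V)) v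
  simp only [LinearMap.comp_apply, LinearEquiv.coe_coe] at h
  have e1 : ∀ z : V ⊗[k] A, GrothLib.Hopf.Comod.op f (TensorProduct.rid k V (g.lTensor V z)) =
      TensorProduct.rid k V ((LinearMap.mul' k k ∘ₗ TensorProduct.map f g).lTensor V
        (TensorProduct.assoc k V A A ((HopfRep.Comod.coact (k := k) (A := A)).rTensor A z))) := fun z => by
    induction z using TensorProduct.induction_on with
    | zero => simp
    | tmul a c =>
      rw [LinearMap.lTensor_tmul, TensorProduct.rid_tmul, map_smul, LinearMap.rTensor_tmul]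
      change g c • TensorProduct.rid k V (f.lTensor V (HopfRep.Comod.coact (k := k) (A := A) a)) = _
      induction HopfRep.Comod.coact (k := k) (A := A) a using TensorProduct.induction_on with
      | zero => simp
      | tmul p q => simp [smul_smul, mul_comm]
      | add p q hp hq => simp only [TensorProduct.add_tmul, map_add, smul_add, hp, hq]
    | add a c ha hc => simp only [map_add, ha, hc]
  change GrothLib.Hopf.Comod.op f (TensorProduct.rid k V (g.lTensor V _)) = _
  rw [e1, h, ← LinearMap.comp_apply (LinearMap.lTensor V _), ← LinearMap.lTensor_comp]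
  rfl

theorem op_comm [Coalgebra.IsCocomm k A] (f g : Module.Dual k A) (v : V) :
    GrothLib.Hopf.Comod.op f (GrothLib.Hopf.Comod.op g v) =
      GrothLib.Hopf.Comod.op g (GrothLib.Hopf.Comod.op f v) := by
  rw [op_op, op_op]
  congr 1
  refine congrArg _ (LinearMap.ext fun a => ?_)
  simp only [LinearMap.comp_apply]
  conv_lhs => rw [← Coalgebra.comm_comul k a]
  induction Coalgebra.comul (R := k) a using TensorProduct.induction_on with
  | zero => simp
  | tmul p q => simp [mul_comm]
  | add p q hp hq => simp only [map_add, hp, hq]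

end Cocomm

theorem isTrigonalizable_of_isCocomm [IsAlgClosed k] [Coalgebra.IsCocomm k A] : IsTrigonalizable k A := by
  intro V _ _ _ hfin hV
  obtain ⟨hnt, hsimp⟩ := hV
  have hscalar : ∀ f : Module.Dual k A, ∃ μ : k, ∀ v : V, GrothLib.Hopf.Comod.op f v = μ • v := by
    intro f
    obtain ⟨μ, hμ⟩ := Module.End.exists_eigenvalue (GrothLib.Hopf.Comod.op (V := V) f : Module.End k V)
    refine ⟨μ, fun v => ?_⟩
    have hsub : IsSubcomod (k := k) (A := A)
        (Module.End.eigenspace (GrothLib.Hopf.Comod.op (V := V) f : Module.End k V) μ) := by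
      refine Comodule.isSubcomod_iff_op.mpr fun g u hu => ?_
      rw [Module.End.mem_eigenspace_iff] at hu ⊢
      rw [op_comm, hu, map_smul]
    have h := (hsimp _ hsub).resolve_left hμ
    exact Module.End.mem_eigenspace_iff.mp (h.symm ▸ Submodule.mem_top : v ∈ _)
  obtain ⟨v₀, hv₀⟩ := exists_ne (0 : V)
  have hsub : IsSubcomod (k := k) (A := A) (Submodule.span k {v₀}) :=
    Comodule.isSubcomod_iff_op.mpr fun f u hu => by
      obtain ⟨μ, hμ⟩ := hscalar f
      rw [hμ]
      exact Submodule.smul_mem _ _ hu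
  have h := (hsimp _ hsub).resolve_left (by simpa using hv₀)
  rw [← finrank_top, ← h, finrank_span_singleton hv₀]

end GrothLib.Trig
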