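import Groth.Agent.Lib.Comod.Basic
import Groth.Agent.Lib.Comod.Coeff
import Groth.Agent.Lib.Comod.Semi
import Groth.Agent.Lib.HopfAG.Trig
import Groth.Prelude.Def_HopfRep
import Mathlib.RingTheory.Coalgebra.GroupLike
import Mathlib.LinearAlgebra.Semisimple
import Mathlib.FieldTheory.Separable
import Mathlib.LinearAlgebra.Eigenspace.Semisimple
import Mathlib.LinearAlgebra.Eigenspace.Triangularizable
import Mathlib.LinearAlgebra.Eigenspace.Pi
import Mathlib.RingTheory.Jacobson.Ring
import Mathlib.FieldTheory.IsAlgClosed.Basic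

/-!
# Representations and dense sets of points; diagonalisable groups
-/

universe u v w

set_option linter.style.haveILetI false

open TensorProduct HopfRep

namespace GrothLib.Dense

variable {k : Type u} [Field k]

section Coalgebra

variable {A : Type v} [AddCommGroup A] [Module k A] [Coalgebra k A]
  {V : Type w} [AddCommGroup V] [Module k V] [HopfRep.Comod k A V]

local notation "ρ" => (HopfRep.Comod.coact (k := k) (A := A))

theorem coact_op (f : Module.Dual k A) (v : V) :
    ρ (GrothLib.Hopf.Comod.op f v) = LinearMap.lTensor V ((TensorProduct.rid k A).toLinearMap ∘ₗ f.lTensor A)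
      (LinearMap.lTensor V (Coalgebra.comul (R := k) (A := A)) (ρ v)) := by
  have h := LinearMap.congr_fun (HopfRep.Comod.coassoc (k := k) (A := A) (V := V)) v
  simp only [LinearMap.comp_apply, LinearEquiv.coe_coe] at h
  have e1 : ∀ z : V ⊗[k] A, ρ (TensorProduct.rid k V (f.lTensor V z)) =
      LinearMap.lTensor V ((TensorProduct.rid k A).toLinearMap ∘ₗ f.lTensor A)
        (TensorProduct.assoc k V A A ((ρ).rTensor A z)) := fun z => by
    induction z using TensorProduct.induction_on with
    | zero => simp
    | tmul a c =>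
      rw [LinearMap.lTensor_tmul, TensorProduct.rid_tmul, map_smul, LinearMap.rTensor_tmul]
      induction ρ a using TensorProduct.induction_on with
      | zero => simp
      | tmul p q => simp [TensorProduct.smul_tmul']
      | add p q hp hq => simp only [TensorProduct.add_tmul, map_add, smul_add, hp, hq]
    | add a c ha hc => simp only [map_add, ha, hc]
  rw [← h, ← e1]
  rfl

/-- The standard resolution of a comodule is exact. -/
theorem exact_coact :
    Function.Exact (HopfRep.Comod.coact : V →ₗ[k] V ⊗[k] A)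
      ((TensorProduct.assoc k V A A).toLinearMap ∘ₗ (HopfRep.Comod.coact : V →ₗ[k] V ⊗[k] A).rTensor A -
        (CoalgebraStruct.comul (R := k) (A := A)).lTensor V) := by
  intro x
  refine ⟨fun hx => ?_, ?_⟩
  · rw [LinearMap.sub_apply, sub_eq_zero, LinearMap.comp_apply, LinearEquiv.coe_coe] at hx
    refine ⟨TensorProduct.rid k V (Coalgebra.counit.lTensor V x), ?_⟩
    have e1 : ∀ z : V ⊗[k] A, ρ (TensorProduct.rid k V (Coalgebra.counit.lTensor V z)) =
        LinearMap.lTensor V ((TensorProduct.rid k A).toLinearMap ∘ₗ Coalgebra.counit.lTensor A)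
          (TensorProduct.assoc k V A A ((ρ).rTensor A z)) := fun z => by
      induction z using TensorProduct.induction_on with
      | zero => simp
      | tmul a c =>
        rw [LinearMap.lTensor_tmul, TensorProduct.rid_tmul, map_smul, LinearMap.rTensor_tmul]
        induction ρ a using TensorProduct.induction_on with
        | zero => simp
        | tmul p q => simp [TensorProduct.smul_tmul']
        | add p q hp hq => simp only [TensorProduct.add_tmul, map_add, smul_add, hp, hq]
      | add a c ha hc => simp only [map_add, ha, hc]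
    rw [e1, hx, ← LinearMap.comp_apply, ← LinearMap.lTensor_comp,
      show ((TensorProduct.rid k A).toLinearMap ∘ₗ Coalgebra.counit.lTensor A) ∘ₗ
        Coalgebra.comul (R := k) (A := A) = LinearMap.id from LinearMap.ext fun a => by simp,
      LinearMap.lTensor_id]
    rfl
  · rintro ⟨v, rfl⟩
    rw [LinearMap.sub_apply, sub_eq_zero]
    exact LinearMap.congr_fun (HopfRep.Comod.coassoc (k := k) (A := A) (V := V)) v

/-- A vector spanning a line subcomodule has group-like weight. -/
theorem isGroupLikeElem_of_coact {v : V} (hv : v ≠ 0) {a : A} (h : ρ v = v ⊗ₜ[k] a) :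
    IsGroupLikeElem k a := by
  obtain ⟨φ, hφ⟩ : ∃ φ : Module.Dual k V, φ v = 1 := by
    by_contra! hno
    refine hv ((Module.forall_dual_apply_eq_zero_iff k v).mp fun φ => ?_)
    by_contra hne
    exact hno ((φ v)⁻¹ • φ) (by simp [hne])
  have hcf : Comodule.cfMap (C := A) φ v = a := by
    rw [Comodule.cfMap_apply, h]; simp [hφ]
  refine ⟨?_, ?_⟩
  · rw [← hcf, Comodule.counit_cfMap, hφ]
  · have h1 : Coalgebra.comul (R := k) (Comodule.cfMap (C := A) φ v) =
        (Comodule.cfMap (C := A) φ).rTensor A (ρ v) :=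
      Comodule.IsComodHom.apply (Comodule.isComodHom_cfMap φ) v
    rw [h, LinearMap.rTensor_tmul, hcf] at h1
    exact h1

end Coalgebra

section Bialgebra

variable {A : Type v} [CommRing A] [Bialgebra k A]
  {V : Type w} [AddCommGroup V] [Module k V] [HopfRep.Comod k A V]

local notation "ρ" => (HopfRep.Comod.coact (k := k) (A := A))

theorem dual_act {K : Type*} [CommRing K] [Algebra k K] (g : A →ₐ[k] K) (φ : Module.Dual k V) (v : V) :
    g (Comodule.cfMap (C := A) φ v) = TensorProduct.lid k K (φ.rTensor K (g.toLinearMap.lTensor V (ρ v))) := by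
  rw [Comodule.cfMap_apply]
  induction ρ v using TensorProduct.induction_on with
  | zero => simp
  | tmul p q => simp
  | add p q hp hq => simp only [map_add, hp, hq]

theorem dual_act' (g : A →ₐ[k] k) (φ : Module.Dual k V) (v : V) :
    g (Comodule.cfMap (C := A) φ v) = φ (HopfRep.Comod.act k A V g v) := by
  rw [Comodule.cfMap_apply]
  change _ = φ (TensorProduct.rid k V (g.toLinearMap.lTensor V (ρ v)))
  induction ρ v using TensorProduct.induction_on with
  | zero => simp
  | tmul p q => simp [mul_comm]
  | add p q hp hq => simp only [map_add, hp, hq]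

theorem mem_fixedPts_iff {K : Type*} [CommRing K] [Algebra k K]
    (hd : ∀ a : A, (∀ g : A →ₐ[k] K, g a = 0) → a = 0) (v : V) :
    v ∈ HopfRep.fixedPts k A V ↔ ∀ g : A →ₐ[k] K, g.toLinearMap.lTensor V (ρ v) = v ⊗ₜ[k] (1 : K) := by
  refine ⟨fun h g => ?_, fun h => ?_⟩
  · have h' : ρ v = v ⊗ₜ[k] (1 : A) := h
    rw [h', LinearMap.lTensor_tmul]
    exact congrArg (v ⊗ₜ[k] ·) (map_one g)
  · refine Comodule.ext_dual_left fun φ => ?_
    rw [← sub_eq_zero]
    refine hd _ fun g => ?_
    rw [map_sub, sub_eq_zero, ← Comodule.cfMap_apply, dual_act, h g]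
    simp

theorem isSubcomod_iff {S : Set (A →ₐ[k] k)} (hS : ∀ a : A, (∀ g ∈ S, g a = 0) → a = 0) (W : Submodule k V) :
    HopfRep.IsSubcomod (k := k) (A := A) W ↔
      ∀ g ∈ S, Submodule.map (HopfRep.Comod.act k A V g) W ≤ W := by
  refine ⟨fun h g _ => ?_, fun h => Comodule.isSubcomod_iff_mkQ.mpr fun w hw => ?_⟩
  · rintro _ ⟨w, hw, rfl⟩
    exact GrothLib.Hopf.Comod.rid_lTensor_mem (h w hw) _
  · refine Comodule.ext_dual_left fun φ => ?_
    have e : ∀ z : V ⊗[k] A, TensorProduct.lid k A (φ.rTensor A (W.mkQ.rTensor A z)) =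
        TensorProduct.lid k A ((φ ∘ₗ W.mkQ).rTensor A z) := fun z => by
      rw [LinearMap.rTensor_comp]; rfl
    rw [e, map_zero, map_zero, ← Comodule.cfMap_apply]
    refine hS _ fun g hg => ?_
    rw [dual_act', LinearMap.comp_apply, Submodule.mkQ_apply,
      (Submodule.Quotient.mk_eq_zero W).mpr (h g hg (Submodule.mem_map_of_mem hw)), map_zero]

/-- A character occurring in a representation of a subgroup occurs in the functions. -/
theorem exists_regular_eigen {B : Type*} [AddCommGroup B] [Module k B] (π : A →ₗ[k] B) (χ : B) {v : V}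
    (hv : v ≠ 0) (h : π.lTensor V (ρ v) = v ⊗ₜ[k] χ) :
    ∃ a : A, a ≠ 0 ∧ π.lTensor A (Coalgebra.comul (R := k) a) = a ⊗ₜ[k] χ := by
  obtain ⟨φ, hφ⟩ : ∃ φ : Module.Dual k V, φ v ≠ 0 := by
    by_contra! hno
    exact hv ((Module.forall_dual_apply_eq_zero_iff k v).mp hno)
  refine ⟨Comodule.cfMap (C := A) φ v, fun h0 => hφ ?_, ?_⟩
  · rw [← Comodule.counit_cfMap (C := A) φ v, h0, map_zero]
  · have h1 : Coalgebra.comul (R := k) (Comodule.cfMap (C := A) φ v) =
        (Comodule.cfMap (C := A) φ).rTensor A (ρ v) :=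
      Comodule.IsComodHom.apply (Comodule.isComodHom_cfMap φ) v
    rw [h1, ← LinearMap.comp_apply, LinearMap.lTensor_comp_rTensor, ← LinearMap.rTensor_comp_lTensor,
      LinearMap.comp_apply, h, LinearMap.rTensor_tmul]

/-- A representation of a diagonalisable group is spanned by eigenvectors. -/
theorem span_eigen_eq_top (h : HopfRep.IsDiagonalizable k A) :
    Submodule.span k {v : V | ∃ a : A, ρ v = v ⊗ₜ[k] a} = ⊤ := by
  classical
  let b : Module.Basis {a : A | IsGroupLikeElem k a} k A :=
    Module.Basis.mk (linearIndepOn_isGroupLikeElem (R := k) (A := A)) (by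
      rw [show Set.range (fun x : {a : A | IsGroupLikeElem k a} => id (x : A)) =
        {a : A | IsGroupLikeElem k a} from Subtype.range_coe]
      exact (show Submodule.span k _ = ⊤ from h).ge)
  refine eq_top_iff.mpr fun v _ => ?_
  have hb : ∀ g, b g = (g : A) := fun g => Module.Basis.mk_apply _ _ g
  have heig : ∀ g, ρ (GrothLib.Hopf.Comod.op (b.coord g) v) =
      GrothLib.Hopf.Comod.op (b.coord g) v ⊗ₜ[k] (g : A) := fun g => by
    rw [coact_op, ← LinearMap.comp_apply (LinearMap.lTensor V _), ← LinearMap.lTensor_comp]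
    have hT : ((TensorProduct.rid k A).toLinearMap ∘ₗ (b.coord g).lTensor A) ∘ₗ
        Coalgebra.comul (R := k) (A := A) = (b.coord g).smulRight (g : A) := by
      refine b.ext fun g' => ?_
      rw [LinearMap.comp_apply, LinearMap.comp_apply, hb,
        (show IsGroupLikeElem k (g' : A) from g'.2).comul_eq_tmul_self, LinearMap.lTensor_tmul, LinearEquiv.coe_coe,
        TensorProduct.rid_tmul, LinearMap.smulRight_apply, ← hb g', Module.Basis.coord_apply,
        Module.Basis.repr_self, Finsupp.single_apply]
      split_ifs with he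
      · subst he; simp [hb]
      · simp
    rw [hT]
    change _ = TensorProduct.rid k V ((b.coord g).lTensor V (ρ v)) ⊗ₜ[k] (g : A)
    induction ρ v using TensorProduct.induction_on with
    | zero => simp
    | tmul p q => simp [TensorProduct.smul_tmul]
    | add p q hp hq => simp only [map_add, TensorProduct.add_tmul, hp, hq]
  obtain ⟨c, hc⟩ := TensorProduct.eq_repr_basis_right b (ρ v)
  have hcv : ∀ g, c g = GrothLib.Hopf.Comod.op (b.coord g) v := fun g => by
    change _ = TensorProduct.rid k V ((b.coord g).lTensor V (ρ v))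
    rw [← hc, Finsupp.sum, map_sum, map_sum, Finset.sum_eq_single g]
    · simp
    · intro g' _ hne
      simp [Finsupp.single_apply, hne]
    · intro hg
      simp [Finsupp.notMem_support_iff.mp hg]
  have hv : v = c.sum fun g x => x := by
    conv_lhs => rw [← GrothLib.Hopf.Comod.op_counit (k := k) (C := A) v]
    change TensorProduct.rid k V (Coalgebra.counit.lTensor V (ρ v)) = _
    rw [← hc, Finsupp.sum, map_sum, map_sum, Finsupp.sum]
    refine Finset.sum_congr rfl fun g _ => ?_
    rw [LinearMap.lTensor_tmul, TensorProduct.rid_tmul, hb,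
      (show IsGroupLikeElem k (g : A) from g.2).counit_eq_one, one_smul]
  rw [hv]
  exact Submodule.sum_mem _ fun g _ => Submodule.subset_span ⟨g, by rw [hcv]; exact heig g⟩

/-- Spanning eigenvectors in every finite representation force diagonalisability. -/
theorem isDiagonalizable_of_forall
    (h : ∀ a : A, ∃ (U : Submodule k A), a ∈ U ∧ U ≤ Submodule.span k
      {x : A | ∃ g : A, Coalgebra.comul (R := k) x = x ⊗ₜ[k] g}) :
    HopfRep.IsDiagonalizable k A := by
  refine eq_top_iff.mpr fun a _ => ?_
  obtain ⟨U, ha, hU⟩ := h a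
  refine (Submodule.span_le.mpr ?_ : _ ≤ Submodule.span k {a : A | IsGroupLikeElem k a}) (hU ha)
  rintro x ⟨g, hg⟩
  rcases eq_or_ne x 0 with rfl | hx
  · exact zero_mem _
  have h1 := congrArg (TensorProduct.lid k A) (congrArg (Coalgebra.counit.rTensor A) hg)
  rw [Coalgebra.rTensor_counit_comul, LinearMap.rTensor_tmul, TensorProduct.lid_tmul,
    TensorProduct.lid_tmul, one_smul] at h1
  rw [h1]
  exact Submodule.smul_mem _ _ (Submodule.subset_span (isGroupLikeElem_of_coact (V := A) hx hg))

theorem isSemisimple_of_span_eigen [Module.Finite k V] {f : Module.End k V}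
    (h : Submodule.span k {v : V | ∃ μ : k, f v = μ • v} = ⊤) : f.IsSemisimple := by
  classical
  obtain ⟨g, hg, hsp, -⟩ := Submodule.exists_fun_fin_finrank_span_eq k {v : V | ∃ μ : k, f v = μ • v}
  set s : Finset V := Finset.univ.image g
  have hspan : Submodule.span k (s : Set V) = ⊤ := by
    rw [Finset.coe_image, Finset.coe_univ, Set.image_univ]
    exact hsp.trans h
  have hs : ∀ x ∈ s, ∃ μ : k, f x = μ • x := fun x hx => by
    obtain ⟨i, -, rfl⟩ := Finset.mem_image.mp hx
    exact hg i
  choose μ hμ using fun x : s => hs x.1 x.2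
  let P : Polynomial k := ∏ c ∈ Finset.univ.image μ, (Polynomial.X - Polynomial.C c)
  refine Module.End.isSemisimple_of_squarefree_aeval_eq_zero (p := P) ?_ ?_
  · exact (Polynomial.separable_prod_X_sub_C_iff' (f := fun c : k => c)).mpr
      (fun _ _ _ _ e => e) |>.squarefree
  · refine LinearMap.ext fun v => ?_
    have hv : v ∈ Submodule.span k (s : Set V) := hspan ▸ Submodule.mem_top
    induction hv using Submodule.span_induction with
    | mem x hx =>
      have hc : μ ⟨x, hx⟩ ∈ Finset.univ.image μ := Finset.mem_image_of_mem _ (Finset.mem_univ _)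
      rw [LinearMap.zero_apply, show P = _ from (Finset.mul_prod_erase _ _ hc).symm, mul_comm, map_mul, Module.End.mul_apply]
      have : Polynomial.aeval f (Polynomial.X - Polynomial.C (μ ⟨x, hx⟩)) x = 0 := by
        simp [hμ ⟨x, hx⟩]
      rw [this, map_zero]
    | zero => simp
    | add x y _ _ hx hy => simp only [map_add, hx, hy, LinearMap.zero_apply, add_zero]
    | smul c x _ hx => simp only [map_smul, hx, LinearMap.zero_apply, smul_zero]

theorem act_isSemisimple (h : HopfRep.IsDiagonalizable k A) [Module.Finite k V] (g : A →ₐ[k] k) :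
    Module.End.IsSemisimple (HopfRep.Comod.act k A V g) := by
  refine isSemisimple_of_span_eigen (eq_top_iff.mpr ((span_eigen_eq_top (V := V) h).ge.trans
    (Submodule.span_mono ?_)))
  rintro v ⟨a, ha⟩
  exact ⟨g a, by simp [HopfRep.Comod.act, ha]⟩

end Bialgebra

section Commutative

variable {A : Type v} [CommRing A] [HopfAlgebra k A] [IsAlgClosed k] [Algebra.FiniteType k A]
  [IsReduced A]

theorem eq_zero_of_forall_point (a : A) (h : ∀ g : A →ₐ[k] k, g a = 0) : a = 0 := by
  haveI : IsJacobsonRing A := isJacobsonRing_of_finiteType (A := k)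
  have h1 : a ∈ (⊥ : Ideal A).jacobson := by
    rw [Ideal.jacobson, Submodule.mem_sInf]
    rintro m ⟨-, hm⟩
    haveI : Ideal.IsMaximal m := hm
    letI := Ideal.Quotient.field m
    haveI : Module.Finite k (A ⧸ m) := finite_of_finite_type_of_isJacobsonRing k _
    let i : k ≃ₐ[k] A ⧸ m := AlgEquiv.ofBijective (Algebra.ofId k _)
      IsAlgClosed.algebraMap_bijective_of_isIntegral
    have h2 := h (i.symm.toAlgHom.comp (Ideal.Quotient.mkₐ k m))
    change i.symm (Ideal.Quotient.mk m a) = 0 at h2
    rwa [EmbeddingLike.map_eq_zero_iff, Ideal.Quotient.eq_zero_iff_mem] at h2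
  rw [← Ideal.radical_eq_jacobson] at h1
  exact IsReduced.eq_zero _ h1

theorem isDiagonalizable_of_semisimple [Coalgebra.IsCocomm k A]
    (h : ∀ (g : A →ₐ[k] k) (V : Type v) [AddCommGroup V] [Module k V] [HopfRep.Comod k A V],
      Module.Finite k V → Module.End.IsSemisimple (HopfRep.Comod.act k A V g)) :
    HopfRep.IsDiagonalizable k A := by
  classical
  refine isDiagonalizable_of_forall fun a => ?_
  obtain ⟨U, hfin, haU, hUc⟩ := Comodule.exists_finite_subcomod (k := k) (C := A) a
  letI cU := ComodSub.Comod.restr (HopfRep.Comod.regular k A) U hUc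
  refine ⟨U, haU, ?_⟩
  set T : (A →ₐ[k] k) → Module.End k U := fun g => HopfRep.Comod.act k A U g
  have hTc : Pairwise fun g g' => Commute (T g) (T g') := fun g g' _ => LinearMap.ext fun u => by
    exact GrothLib.Trig.op_comm g.toLinearMap g'.toLinearMap u
  have htop : ⨆ χ : (A →ₐ[k] k) → k, ⨅ g, (T g).maxGenEigenspace (χ g) = ⊤ :=
    Module.End.iSup_iInf_maxGenEigenspace_eq_top_of_iSup_maxGenEigenspace_eq_top_of_commute T hTc
      fun g => Module.End.iSup_maxGenEigenspace_eq_top (T g)
  intro x hx
  have hmem : (⟨x, hx⟩ : U) ∈ ⨆ χ : (A →ₐ[k] k) → k, ⨅ g, (T g).maxGenEigenspace (χ g) :=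
    htop ▸ Submodule.mem_top
  have hle : (⨆ χ : (A →ₐ[k] k) → k, ⨅ g, (T g).maxGenEigenspace (χ g)) ≤
      (Submodule.span k {x : A | ∃ g : A, Coalgebra.comul (R := k) x = x ⊗ₜ[k] g}).comap U.subtype := by
    refine iSup_le fun χ u hu => Submodule.mem_comap.mpr ?_
    rcases eq_or_ne u 0 with rfl | hu0
    · rw [map_zero]; exact zero_mem _
    have heig : ∀ g, T g u = χ g • u := fun g => by
      have h1 := Submodule.mem_iInf _ |>.mp hu g
      rw [(h g U hfin).isFinitelySemisimple.maxGenEigenspace_eq_eigenspace] at h1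
      exact Module.End.mem_eigenspace_iff.mp h1
    obtain ⟨φ, hφ⟩ : ∃ φ : Module.Dual k U, φ u = 1 := by
      by_contra! hno
      refine hu0 ((Module.forall_dual_apply_eq_zero_iff k u).mp fun φ => ?_)
      by_contra hne
      exact hno ((φ u)⁻¹ • φ) (by simp [hne])
    set c := Comodule.cfMap (C := A) φ u
    have hc : cU.coact u = u ⊗ₜ[k] c := by
      refine Comodule.ext_dual_left fun ψ => ?_
      rw [← Comodule.cfMap_apply, LinearMap.rTensor_tmul, TensorProduct.lid_tmul, ← sub_eq_zero]
      refine eq_zero_of_forall_point (k := k) _ fun g => ?_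
      rw [map_sub, map_smul, dual_act', dual_act', show HopfRep.Comod.act k A U g u = χ g • u from heig g,
        map_smul, map_smul, hφ, smul_eq_mul, smul_eq_mul, smul_eq_mul]
      ring
    refine Submodule.subset_span ⟨c, ?_⟩
    have h2 := ComodSub.restr_coact_coe (HopfRep.Comod.regular k A) U hUc u
    rw [hc, LinearMap.rTensor_tmul] at h2
    exact h2.symm
  exact hle hmem

end Commutative

end GrothLib.Dense
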