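import Groth.Agent.Lib.Comod.Basic
import Groth.Agent.Lib.Comod.Coeff
import Groth.Agent.Lib.Comod.Semi
import Groth.Prelude.Def_HopfRep
import Groth.Prelude.Def_ComodSub
import Mathlib.LinearAlgebra.FiniteDimensional.Basic

/-!
# Unipotent groups: the socle filtration of a comodule
-/

universe u v w w'

set_option linter.style.haveILetI false

open TensorProduct HopfRep

namespace GrothLib.Unip

variable {k : Type u} [Field k] {A : Type v} [CommRing A] [Bialgebra k A]
  {V : Type w} [AddCommGroup V] [Module k V] [HopfRep.Comod k A V]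
  {W : Type w'} [AddCommGroup W] [Module k W] [HopfRep.Comod k A W]

local notation "ρ" => (HopfRep.Comod.coact (k := k) (A := A))

variable (A) in
/-- The deviation `ρ v - v ⊗ 1` from being fixed. -/
noncomputable def dev : V →ₗ[k] V ⊗[k] A := ρ - (TensorProduct.mk k V A).flip 1

variable (A) in
theorem dev_apply (v : V) : dev A v = ρ v - v ⊗ₜ[k] (1 : A) := rfl

variable (A) in
/-- The vectors fixed modulo `U`. -/
noncomputable def next (U : Submodule k V) : Submodule k V :=
  (LinearMap.range (U.subtype.rTensor A)).comap (dev A)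

theorem mem_next {U : Submodule k V} {v : V} :
    v ∈ next A U ↔ ρ v - v ⊗ₜ[k] (1 : A) ∈ LinearMap.range (U.subtype.rTensor A) := Iff.rfl

theorem tmul_mem_range {U : Submodule k V} {v : V} (hv : v ∈ U) (a : A) :
    v ⊗ₜ[k] a ∈ LinearMap.range (U.subtype.rTensor A) :=
  ⟨(⟨v, hv⟩ : U) ⊗ₜ a, rfl⟩

theorem le_next {U : Submodule k V} (hU : IsSubcomod (k := k) (A := A) U) : U ≤ next A U :=
  fun v hv => mem_next.mpr (sub_mem (hU v hv) (tmul_mem_range hv 1))

theorem next_mono {U U' : Submodule k V} (h : U ≤ U') : next A U ≤ next A U' :=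
  fun _ hv => Comodule.range_subtype_rTensor_mono (C := A) h hv

/-- Everything between a subcomodule and its vectors fixed modulo it is a subcomodule. -/
theorem isSubcomod_between {U U' : Submodule k V} (h : U ≤ U') (h' : U' ≤ next A U) :
    IsSubcomod (k := k) (A := A) U' := fun v hv => by
  have := add_mem (Comodule.range_subtype_rTensor_mono (C := A) h (h' hv)) (tmul_mem_range hv (1 : A))
  rwa [dev_apply, sub_add_cancel] at this

theorem isSubcomod_next {U : Submodule k V} (hU : IsSubcomod (k := k) (A := A) U) :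
    IsSubcomod (k := k) (A := A) (next A U) :=
  isSubcomod_between (le_next hU) le_rfl

theorem next_bot : next A (⊥ : Submodule k V) = fixedPts k A V := by
  ext v
  rw [mem_next, show (⊥ : Submodule k V).subtype = 0 from
    LinearMap.ext fun x => (Submodule.mem_bot k).mp x.2, LinearMap.rTensor_zero, LinearMap.range_zero,
    Submodule.mem_bot, sub_eq_zero]
  rfl

variable (k A V) in
/-- The socle filtration. -/
noncomputable def soc : ℕ → Submodule k V
  | 0 => ⊥
  | n + 1 => next A (soc n)

theorem soc_zero : soc k A V 0 = ⊥ := rfl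

theorem soc_succ (n : ℕ) : soc k A V (n + 1) = next A (soc k A V n) := rfl

theorem soc_one : soc k A V 1 = fixedPts k A V := next_bot

theorem isSubcomod_soc : ∀ n, IsSubcomod (k := k) (A := A) (soc k A V n)
  | 0 => Comodule.isSubcomod_bot
  | n + 1 => isSubcomod_next (isSubcomod_soc n)

theorem soc_mono : Monotone (soc k A V) :=
  monotone_nat_of_le_succ fun n => le_next (isSubcomod_soc n)

/-- A flag with fixed successive quotients lies in the socle filtration. -/
theorem le_soc {F : ℕ → Submodule k V} (h0 : F 0 = ⊥)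
    (hF : ∀ i, F (i + 1) ≤ next A (F i)) : ∀ n, F n ≤ soc k A V n
  | 0 => h0.le
  | n + 1 => (hF n).trans (next_mono (le_soc h0 hF n))

section Hom

variable {g : V →ₗ[k] W} (hg : Hoch.IsComodHom A g)
include hg

theorem dev_map (v : V) : dev A (g v) = g.rTensor A (dev A v) := by
  rw [dev_apply, dev_apply, map_sub, LinearMap.rTensor_tmul, Comodule.IsComodHom.apply hg]

theorem map_range_subtype {U : Submodule k V} {U' : Submodule k W} (h : ∀ u ∈ U, g u ∈ U')
    {x : V ⊗[k] A} (hx : x ∈ LinearMap.range (U.subtype.rTensor A)) :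
    g.rTensor A x ∈ LinearMap.range (U'.subtype.rTensor A) := by
  obtain ⟨y, rfl⟩ := hx
  refine ⟨(g.restrict h).rTensor A y, ?_⟩
  rw [← LinearMap.comp_apply, ← LinearMap.rTensor_comp, ← LinearMap.comp_apply, ← LinearMap.rTensor_comp]
  rfl

/-- A comodule map killing the `d`-th step lowers the socle degree by `d`. -/
theorem map_soc_le {d : ℕ} (hd : ∀ v ∈ soc k A V d, g v = 0) :
    ∀ n, ∀ v ∈ soc k A V (n + d), g v ∈ soc k A W n := by
  intro n
  induction n with
  | zero => intro v hv; rw [zero_add] at hv; rw [hd v hv]; exact zero_mem _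
  | succ n ih =>
    intro v hv
    rw [Nat.add_right_comm] at hv
    refine (mem_next (A := A)).mpr ?_
    rw [← dev_apply, dev_map hg]
    exact map_range_subtype hg ih hv

theorem map_soc_le' (n : ℕ) {v : V} (hv : v ∈ soc k A V n) : g v ∈ soc k A W n :=
  map_soc_le hg (d := 0) (fun x hx => by rw [(Submodule.mem_bot k).mp hx, map_zero]) n v hv

end Hom

/-- Fixed vectors of the quotient by a subcomodule give new vectors fixed modulo it. -/
theorem exists_mem_next_notMem {U : Submodule k V} (hU : IsSubcomod (k := k) (A := A) U)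
    (h : @fixedPts k A _ _ _ (V ⧸ U) _ _ (ComodSub.Comod.quot ‹_› U hU) ≠ ⊥) : ∃ v ∈ next A U, v ∉ U := by
  letI := ComodSub.Comod.quot ‹HopfRep.Comod k A V› U hU
  obtain ⟨q, hq, hq0⟩ := (Submodule.ne_bot_iff _).mp h
  obtain ⟨v, rfl⟩ := U.mkQ_surjective q
  refine ⟨v, ?_, fun hv => hq0 ((Submodule.Quotient.mk_eq_zero U).mpr hv)⟩
  refine ((rTensor_exact A (LinearMap.exact_subtype_mkQ U) U.mkQ_surjective) _).mp ?_
  rw [dev_apply, map_sub, LinearMap.rTensor_tmul, sub_eq_zero, ← Comodule.IsComodHom.apply (ComodSub.isComodHom_mkQ _ U hU)]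
  exact hq


/-- For a unipotent group every proper subcomodule grows. -/
theorem exists_grow {V : Type v} [AddCommGroup V] [Module k V] [HopfRep.Comod k A V] [Module.Finite k V]
    (hU : IsUnipotent k A) {U : Submodule k V} (hUc : IsSubcomod (k := k) (A := A) U) (hne : U ≠ ⊤) :
    ∃ v ∈ next A U, v ∉ U := by
  haveI : Nontrivial (V ⧸ U) := Submodule.Quotient.nontrivial_iff.mpr hne
  letI := ComodSub.Comod.quot ‹HopfRep.Comod k A V› U hUc
  exact exists_mem_next_notMem hUc (hU (V ⧸ U) inferInstance inferInstance)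

/-- A finite comodule of a unipotent group has a full flag with fixed successive quotients. -/
theorem exists_full_flag {V : Type v} [AddCommGroup V] [Module k V] [HopfRep.Comod k A V]
    [Module.Finite k V] (hU : IsUnipotent k A) :
    ∃ F : ℕ → Submodule k V, Monotone F ∧ F 0 = ⊥ ∧ (∀ i, IsSubcomod (k := k) (A := A) (F i)) ∧
      (∀ i, F (i + 1) ≤ next A (F i)) ∧ ∀ i ≤ Module.finrank k V, Module.finrank k (F i) = i := by
  classical
  let G : Submodule k V → Submodule k V := fun U =>
    if h : ∃ v ∈ next A U, v ∉ U then U ⊔ Submodule.span k {h.choose} else U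
  let F : ℕ → Submodule k V := fun n => G^[n] ⊥
  have hFs : ∀ i, F (i + 1) = G (F i) := fun i => Function.iterate_succ_apply' G i ⊥
  have hGle : ∀ U, U ≤ G U := fun U => by
    simp only [G]
    split_ifs
    exacts [le_sup_left, le_rfl]
  have hGnext : ∀ U, IsSubcomod (k := k) (A := A) U → G U ≤ next A U := fun U hc => by
    simp only [G]
    split_ifs with h
    · exact sup_le (le_next hc) ((Submodule.span_singleton_le_iff_mem _ _).mpr h.choose_spec.1)
    · exact le_next hc
  have hFc : ∀ i, IsSubcomod (k := k) (A := A) (F i) := fun i => by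
    induction i with
    | zero => exact Comodule.isSubcomod_bot
    | succ i ih => rw [hFs]; exact isSubcomod_between (hGle _) (hGnext _ ih)
  refine ⟨F, monotone_nat_of_le_succ fun i => hFs i ▸ hGle _, rfl, hFc,
    fun i => hFs i ▸ hGnext _ (hFc i), fun i => ?_⟩
  induction i with
  | zero => intro _; exact finrank_bot k V
  | succ i ih =>
    intro hi
    have h := ih (Nat.le_of_succ_le hi)
    have hne : F i ≠ ⊤ := fun e => by rw [e, finrank_top] at h; omega
    have hex := exists_grow hU (hFc i) hne
    have hG : F (i + 1) = F i ⊔ Submodule.span k {hex.choose} := (hFs i).trans (dif_pos hex)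
    rw [hG, Submodule.finrank_sup_span_singleton hex.choose_spec.2, h]

/-- A finite comodule of a unipotent group is exhausted by its socle filtration. -/
theorem soc_finrank_eq_top {V : Type v} [AddCommGroup V] [Module k V] [HopfRep.Comod k A V]
    [Module.Finite k V] (hU : IsUnipotent k A) : soc k A V (Module.finrank k V) = ⊤ := by
  obtain ⟨F, -, h0, -, hF, hfin⟩ := exists_full_flag (V := V) hU
  exact eq_top_iff.mpr ((Submodule.eq_top_of_finrank_eq (hfin _ le_rfl)).ge.trans (le_soc h0 hF _))

/-- A nonzero comodule with a flag with fixed successive quotients has a fixed vector. -/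
theorem fixedPts_ne_bot_of_soc [Nontrivial V] {n : ℕ} (h : soc k A V n = ⊤) : fixedPts k A V ≠ ⊥ := by
  intro h1
  have : ∀ m, soc k A V m = ⊥ := fun m => by
    induction m with
    | zero => rfl
    | succ m ih => rw [soc_succ, ih, next_bot, h1]
  exact top_ne_bot (h.symm.trans (this n))

/-- A point moves every socle step one step down. -/
theorem act_sub_one_mem (g : A →ₐ[k] k) {U : Submodule k V} {v : V} (hv : v ∈ next A U) :
    HopfRep.Comod.act k A V g v - v ∈ U := by
  have h : HopfRep.Comod.act k A V g v - v =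
      TensorProduct.rid k V (g.toLinearMap.lTensor V (ρ v - v ⊗ₜ[k] (1 : A))) := by
    simp [HopfRep.Comod.act]
  rw [h]
  exact GrothLib.Hopf.Comod.rid_lTensor_mem (mem_next.mp hv) _

theorem pow_act_sub_one_eq_zero (g : A →ₐ[k] k) (n : ℕ) :
    ∀ v ∈ soc k A V n, ((HopfRep.Comod.act k A V g - 1) ^ n) v = 0 := by
  induction n with
  | zero => intro v hv; simpa using (Submodule.mem_bot k).mp hv
  | succ n ih =>
    intro v hv
    rw [pow_succ, Module.End.mul_apply]
    exact ih _ (act_sub_one_mem g hv)

section Regular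

/-- Every function lies in the socle filtration of the regular comodule of a unipotent group. -/
theorem exists_mem_soc (hU : IsUnipotent k A) (a : A) : ∃ n, a ∈ soc k A A n := by
  obtain ⟨U, hfin, haU, hUc⟩ := GrothLib.Comodule.exists_finite_subcomod (k := k) (C := A) a
  letI := ComodSub.Comod.restr (HopfRep.Comod.regular k A) U hUc
  exact ⟨_, map_soc_le' (ComodSub.isComodHom_subtype _ U hUc) _
    ((soc_finrank_eq_top (V := U) hU).symm ▸ Submodule.mem_top : (⟨a, haU⟩ : U) ∈ _)⟩

theorem soc_regular_one : soc k A A 1 = Submodule.span k {(1 : A)} := by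
  rw [soc_one]
  ext a
  refine ⟨fun ha => ?_, fun ha => ?_⟩
  · have h : Coalgebra.comul (R := k) a = a ⊗ₜ[k] (1 : A) := ha
    have h2 := congrArg (TensorProduct.lid k A) (congrArg (Coalgebra.counit.rTensor A) h)
    rw [Coalgebra.rTensor_counit_comul] at h2
    simp only [TensorProduct.lid_tmul, one_smul, LinearMap.rTensor_tmul] at h2
    rw [h2]
    exact Submodule.smul_mem _ _ (Submodule.mem_span_singleton_self 1)
  · obtain ⟨c, rfl⟩ := Submodule.mem_span_singleton.mp ha
    refine Submodule.smul_mem _ _ ?_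
    change Coalgebra.comul (R := k) (1 : A) = (1 : A) ⊗ₜ[k] (1 : A)
    rw [Bialgebra.comul_one, Algebra.TensorProduct.one_def]

/-- A functional killing the `d`-th step lowers degrees by `d`. -/
theorem cfMap_mem_soc {φ : Module.Dual k A} {d : ℕ} (hφ : ∀ a ∈ soc k A A d, φ a = 0) (n : ℕ) {a : A}
    (ha : a ∈ soc k A A (n + d)) : Comodule.cfMap (C := A) φ a ∈ soc k A A n := by
  refine map_soc_le (Comodule.isComodHom_cfMap φ) (fun b hb => ?_) n a ha
  obtain ⟨y, hy⟩ := isSubcomod_soc d b hb
  rw [Comodule.cfMap_apply, ← hy, ← LinearMap.comp_apply, ← LinearMap.rTensor_comp,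
    show φ ∘ₗ (soc k A A d).subtype = 0 from LinearMap.ext fun x => hφ x x.2]
  simp

/-- Splitting a tensor along two filtrations. -/
theorem mem_iSup_mapIncl {M : Type*} [AddCommGroup M] [Module k M] {N : Type*} [AddCommGroup N]
    [Module k N] (X : ℕ → Submodule k M) (hX : Monotone X) (Y : ℕ → Submodule k N) (hY : Monotone Y) (r : ℕ) :
    ∀ m ≤ r, ∀ t : M ⊗[k] N, t ∈ LinearMap.range ((X m).subtype.rTensor N) →
      (∀ i ≤ m, ∀ φ : Module.Dual k M, (∀ j < i, ∀ x ∈ X j, φ x = 0) →
        TensorProduct.lid k N (φ.rTensor N t) ∈ Y (r - i)) →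
      t ∈ ⨆ i ∈ Finset.range (r + 1), LinearMap.range (TensorProduct.mapIncl (X i) (Y (r - i))) := by
  have piece : ∀ m ≤ r, ∀ (P : M →ₗ[k] M), (∀ x ∈ X m, P x ∈ X m) → ∀ t : M ⊗[k] N,
      t ∈ LinearMap.range ((X m).subtype.rTensor N) →
      (∀ φ : Module.Dual k M, TensorProduct.lid k N ((φ ∘ₗ P).rTensor N t) ∈ Y (r - m)) →
      P.rTensor N t ∈ ⨆ i ∈ Finset.range (r + 1), LinearMap.range (TensorProduct.mapIncl (X i) (Y (r - i))) := by
    intro m hm P hP t ht hφ
    obtain ⟨y, rfl⟩ := ht
    obtain ⟨Q, hQ⟩ := (Y (r - m)).subtype.exists_leftInverse_of_injective (Submodule.ker_subtype _)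
    set Q' := (Y (r - m)).subtype ∘ₗ Q
    have hQ' : ∀ z ∈ Y (r - m), Q' z = z := fun z hz =>
      congrArg Subtype.val (LinearMap.congr_fun hQ ⟨z, hz⟩)
    have he : P.rTensor N ((X m).subtype.rTensor N y) =
        TensorProduct.map P Q' ((X m).subtype.rTensor N y) := by
      refine Comodule.ext_dual_left fun φ => ?_
      have h1 : ∀ z : M ⊗[k] N, TensorProduct.lid k N (φ.rTensor N (TensorProduct.map P Q' z)) =
          Q' (TensorProduct.lid k N ((φ ∘ₗ P).rTensor N z)) := fun z => by
        induction z using TensorProduct.induction_on with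
        | zero => simp
        | tmul a b => simp
        | add a b ha hb => simp only [map_add, ha, hb]
      rw [h1, hQ' _ (hφ φ), ← LinearMap.comp_apply (φ.rTensor N), ← LinearMap.rTensor_comp]
    rw [he]
    refine Submodule.mem_iSup_of_mem m (Submodule.mem_iSup_of_mem (Finset.mem_range.mpr (by omega)) ?_)
    refine ⟨TensorProduct.map (P.restrict hP) Q y, ?_⟩
    rw [TensorProduct.mapIncl, ← LinearMap.comp_apply, ← TensorProduct.map_comp, LinearMap.rTensor,
      ← LinearMap.comp_apply, ← TensorProduct.map_comp, LinearMap.comp_id]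
    rfl
  intro m
  induction m with
  | zero =>
    intro hm t ht hφ
    simpa using piece 0 hm LinearMap.id (fun x hx => hx) t ht
      fun φ => hφ 0 le_rfl _ (fun j hj => absurd hj (Nat.not_lt_zero j))
  | succ m ih =>
    intro hm t ht hφ
    obtain ⟨S', hS'⟩ := (X m).exists_isCompl
    set E : M →ₗ[k] M := (X m).projection S' hS'
    set P : M →ₗ[k] M := LinearMap.id - E
    have hEm : ∀ x, E x ∈ X m := fun x => Submodule.projection_apply_mem hS' x
    have hPX : ∀ x ∈ X (m + 1), P x ∈ X (m + 1) := fun x hx =>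
      sub_mem hx (hX m.le_succ (hEm x))
    have hPm : ∀ x ∈ X m, P x = 0 := fun x hx => by
      simp [P, E, Submodule.projection_apply_left hS' ⟨x, hx⟩]
    have hP : ∀ φ : Module.Dual k M, TensorProduct.lid k N ((φ ∘ₗ P).rTensor N t) ∈ Y (r - (m + 1)) :=
      fun φ => hφ (m + 1) le_rfl _ fun j hj x hx => by
        rw [LinearMap.comp_apply, hPm x (hX (Nat.lt_succ_iff.mp hj) hx), map_zero]
    have hsum : t = P.rTensor N t + E.rTensor N t := by
      rw [← LinearMap.add_apply, ← LinearMap.rTensor_add, sub_add_cancel, LinearMap.rTensor_id]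
      rfl
    rw [hsum]
    refine add_mem (piece (m + 1) hm P hPX t ht hP) (ih (Nat.le_of_succ_le hm) _ ?_ ?_)
    · refine ⟨(E.codRestrict (X m) hEm).rTensor N t, ?_⟩
      rw [← LinearMap.comp_apply, ← LinearMap.rTensor_comp]
      rfl
    · intro i hi φ hφ'
      rw [← LinearMap.comp_apply (φ.rTensor N), ← LinearMap.rTensor_comp,
        show φ ∘ₗ E = φ - φ ∘ₗ P by simp [P, LinearMap.comp_sub],
        LinearMap.rTensor_sub, LinearMap.sub_apply, map_sub]
      exact sub_mem (hφ i (hi.trans m.le_succ) φ hφ') (hY (by omega) (hP φ))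

/-- The socle filtration of a unipotent group is compatible with the comultiplication. -/
theorem comul_mem_soc (r : ℕ) {a : A} (ha : a ∈ soc k A A (r + 1)) :
    Coalgebra.comul (R := k) a ∈ ⨆ i ∈ Finset.range (r + 1),
      LinearMap.range (TensorProduct.mapIncl (soc k A A (i + 1)) (soc k A A (r - i + 1))) := by
  refine mem_iSup_mapIncl (fun i => soc k A A (i + 1)) (fun i j h => soc_mono (Nat.succ_le_succ h))
    (fun i => soc k A A (i + 1)) (fun i j h => soc_mono (Nat.succ_le_succ h)) r r le_rfl _
    (isSubcomod_soc _ a ha) fun i hi φ hφ => ?_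
  have hd : ∀ b ∈ soc k A A i, φ b = 0 := by
    cases i with
    | zero => intro b hb; rw [(Submodule.mem_bot k).mp hb, map_zero]
    | succ i => exact fun b hb => hφ i (Nat.lt_succ_self i) b hb
  exact cfMap_mem_soc hd (r - i + 1) (by rwa [show r - i + 1 + i = r + 1 by omega])

/-- A coconnected bialgebra is unipotent. -/
theorem isUnipotent_of_filtration (C : ℕ → Submodule k A) (hmono : Monotone C)
    (h0 : C 0 = Submodule.span k {(1 : A)}) (htop : ⨆ r, C r = ⊤)
    (hΔ : ∀ r, Submodule.map (CoalgebraStruct.comul (R := k) (A := A)) (C r) ≤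
      ⨆ i ∈ Finset.range (r + 1), LinearMap.range (TensorProduct.mapIncl (C i) (C (r - i)))) :
    IsUnipotent k A := by
  intro V _ _ _ hfin hnt
  classical
  obtain ⟨v, hv⟩ := exists_ne (0 : V)
  have hall : ∀ x : V ⊗[k] A, ∃ r, x ∈ LinearMap.range ((C r).subtype.lTensor V) := by
    intro x
    induction x using TensorProduct.induction_on with
    | zero => exact ⟨0, zero_mem _⟩
    | tmul w a =>
      obtain ⟨r, hr⟩ := (Submodule.mem_iSup_of_directed C hmono.directed_le).mp (htop ▸ Submodule.mem_top : a ∈ _)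
      exact ⟨r, w ⊗ₜ ⟨a, hr⟩, rfl⟩
    | add x y hx hy =>
      obtain ⟨r, ⟨x', rfl⟩⟩ := hx
      obtain ⟨s, ⟨y', rfl⟩⟩ := hy
      refine ⟨max r s, add_mem ?_ ?_⟩
      · exact ⟨(Submodule.inclusion (hmono (le_max_left r s))).lTensor V x', by
          rw [← LinearMap.comp_apply, ← LinearMap.lTensor_comp]; rfl⟩
      · exact ⟨(Submodule.inclusion (hmono (le_max_right r s))).lTensor V y', by
          rw [← LinearMap.comp_apply, ← LinearMap.lTensor_comp]; rfl⟩
  have hex : ∃ r, ∃ w : V, w ≠ 0 ∧ ρ w ∈ LinearMap.range ((C r).subtype.lTensor V) := by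
    obtain ⟨r, hr⟩ := hall (ρ v)
    exact ⟨r, v, hv, hr⟩
  obtain ⟨w, hw, hwr⟩ := Nat.find_spec hex
  set r := Nat.find hex with hr
  have hsep : ∃ f : Module.Dual k A, (∀ j < r, ∀ c ∈ C j, f c = 0) ∧ GrothLib.Hopf.Comod.op f w ≠ 0 := by
    by_contra! hno
    rcases Nat.eq_zero_or_pos r with h | h
    · exact hw (by
        rw [← GrothLib.Hopf.Comod.op_counit (k := k) (C := A) w]
        exact hno _ (by omega))
    · refine Nat.find_min hex (m := r - 1) (by omega) ⟨w, hw, ?_⟩
      refine ((lTensor_exact V (LinearMap.exact_subtype_mkQ (C (r - 1)))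
        (Submodule.mkQ_surjective _)) _).1 (Comodule.ext_dual_left fun φ => ?_)
      rw [map_zero, map_zero]
      refine (Module.forall_dual_apply_eq_zero_iff k _).mp fun ψ => ?_
      have e : ∀ z : V ⊗[k] A, ψ (TensorProduct.lid k _ (φ.rTensor _ ((C (r - 1)).mkQ.lTensor V z))) =
          φ (TensorProduct.rid k V ((ψ ∘ₗ (C (r - 1)).mkQ).lTensor V z)) := fun z => by
        induction z using TensorProduct.induction_on with
        | zero => simp
        | tmul a c => simp [mul_comm]
        | add a c ha hc => simp only [map_add, ha, hc]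
      rw [e, show TensorProduct.rid k V ((ψ ∘ₗ (C (r - 1)).mkQ).lTensor V (ρ w)) = 0 from
        hno (ψ ∘ₗ (C (r - 1)).mkQ) fun j hj c hc => by
          simp [(Submodule.Quotient.mk_eq_zero (C (r - 1))).mpr (hmono (by omega : j ≤ r - 1) hc)], map_zero]
  obtain ⟨f, hf, hfw⟩ := hsep
  refine (Submodule.ne_bot_iff _).mpr ⟨_, ?_, hfw⟩
  have hfC : ∀ c ∈ C r, TensorProduct.rid k A (f.lTensor A (Coalgebra.comul (R := k) c)) = f c • (1 : A) := by
    intro c hc
    set L : A ⊗[k] A →ₗ[k] A := (TensorProduct.rid k A).toLinearMap ∘ₗ f.lTensor A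
    have hL : ∀ t ∈ ⨆ i ∈ Finset.range (r + 1), LinearMap.range (TensorProduct.mapIncl (C i) (C (r - i))),
        L t ∈ Submodule.span k {(1 : A)} := fun t ht => by
      refine (iSup₂_le fun i hi => ?_ : _ ≤ (Submodule.span k {(1 : A)}).comap L) ht
      rintro _ ⟨y, rfl⟩
      induction y using TensorProduct.induction_on with
      | zero => simp
      | tmul p q =>
        rw [Submodule.mem_comap]
        simp only [L, TensorProduct.mapIncl, TensorProduct.map_tmul, LinearMap.comp_apply,
          LinearMap.lTensor_tmul, LinearEquiv.coe_coe, TensorProduct.rid_tmul]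
        rcases Nat.eq_zero_or_pos i with rfl | hi'
        · exact Submodule.smul_mem _ _ (h0 ▸ p.2)
        · rw [Submodule.subtype_apply, Submodule.subtype_apply,
            hf (r - i) (by have := Finset.mem_range.mp hi; omega) _ q.2, zero_smul]
          exact zero_mem _
      | add p q hp hq => rw [map_add]; exact add_mem hp hq
    obtain ⟨s, hs⟩ := Submodule.mem_span_singleton.mp (hL _ (hΔ r (Submodule.mem_map_of_mem hc)))
    have hcnt : Coalgebra.counit (R := k) (L (Coalgebra.comul (R := k) c)) = f c := by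
      have e : ∀ t : A ⊗[k] A, Coalgebra.counit (R := k) (L t) =
          f (TensorProduct.lid k A (Coalgebra.counit.rTensor A t)) := fun t => by
        induction t using TensorProduct.induction_on with
        | zero => simp
        | tmul p q => simp [L, mul_comm]
        | add p q hp hq => simp [hp, hq]
      rw [e, Coalgebra.rTensor_counit_comul, TensorProduct.lid_tmul, one_smul]
    rw [← hs, map_smul, Bialgebra.counit_one, smul_eq_mul, mul_one] at hcnt
    rw [← hcnt]
    exact hs.symm
  change ρ (GrothLib.Hopf.Comod.op f w) = GrothLib.Hopf.Comod.op f w ⊗ₜ[k] (1 : A)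
  have hcoassoc := LinearMap.congr_fun (HopfRep.Comod.coassoc (k := k) (A := A) (V := V)) w
  simp only [LinearMap.comp_apply, LinearEquiv.coe_coe] at hcoassoc
  have e1 : ∀ z : V ⊗[k] A, ρ (TensorProduct.rid k V (f.lTensor V z)) =
      LinearMap.lTensor V ((TensorProduct.rid k A).toLinearMap ∘ₗ f.lTensor A)
        (TensorProduct.assoc k V A A ((ρ).rTensor A z)) := fun z => by
    induction z using TensorProduct.induction_on with
    | zero => simp
    | tmul a c =>
      rw [LinearMap.lTensor_tmul, TensorProduct.rid_tmul, map_smul, LinearMap.rTensor_tmul]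
      induction ρ a using TensorProduct.induction_on with
      | zero => simp
      | tmul p q => simp [TensorProduct.smul_tmul']
      | add p q hp hq => simp only [TensorProduct.add_tmul, map_add, smul_add, hp, hq]
    | add a c ha hc => simp only [map_add, ha, hc]
  change ρ (TensorProduct.rid k V (f.lTensor V (ρ w))) = TensorProduct.rid k V (f.lTensor V (ρ w)) ⊗ₜ[k] (1 : A)
  rw [e1, hcoassoc]
  obtain ⟨y, hy⟩ := hwr
  rw [← hy]
  clear hy hcoassoc
  induction y using TensorProduct.induction_on with
  | zero => simp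
  | tmul a c =>
    simp only [LinearMap.lTensor_tmul, LinearMap.comp_apply, LinearEquiv.coe_coe, TensorProduct.rid_tmul,
      Submodule.subtype_apply]
    rw [hfC _ c.2, TensorProduct.tmul_smul, TensorProduct.smul_tmul']
  | add a c ha hc => simp only [map_add, TensorProduct.add_tmul, ha, hc]

/-- Unipotent means coconnected. -/
theorem isUnipotent_iff_filtration : IsUnipotent k A ↔
      ∃ C : ℕ → Submodule k A, Monotone C ∧ C 0 = Submodule.span k {(1 : A)} ∧ (⨆ r, C r) = ⊤ ∧
        ∀ r, Submodule.map (CoalgebraStruct.comul (R := k) (A := A)) (C r) ≤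
          ⨆ i ∈ Finset.range (r + 1), LinearMap.range (TensorProduct.mapIncl (C i) (C (r - i))) := by
  refine ⟨fun hU => ⟨fun r => soc k A A (r + 1), fun i j h => soc_mono (Nat.succ_le_succ h),
    soc_regular_one, ?_, fun r => ?_⟩, fun ⟨C, h1, h2, h3, h4⟩ => isUnipotent_of_filtration C h1 h2 h3 h4⟩
  · refine eq_top_iff.mpr fun a _ => ?_
    obtain ⟨n, hn⟩ := exists_mem_soc hU a
    exact Submodule.mem_iSup_of_mem n (soc_mono n.le_succ hn)
  · rintro _ ⟨a, ha, rfl⟩
    exact comul_mem_soc r ha

end Regular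

end GrothLib.Unip
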