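import Groth.Agent.Lib.AugId.Basic
import Groth.Agent.Lib.HopfAG.Trig
import Groth.Agent.Lib.HopfAG.Dense
import Groth.Agent.Lib.HopfAG.Unip
import Mathlib.LinearAlgebra.Matrix.ToLin
import Mathlib.LinearAlgebra.Eigenspace.Triangularizable
import Mathlib.LinearAlgebra.Eigenspace.Minpoly
import Mathlib.GroupTheory.Solvable
import Mathlib.RingTheory.RootsOfUnity.Basic
import Mathlib.FieldTheory.IsAlgClosed.Basic

/-!
# The Lie–Kolchin theorem

A connected group variety with solvable group of points has only one-dimensional simple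
representations.
-/

universe u v w

open TensorProduct HopfRep WithConv Matrix GrothLib.Hopf GrothLib.Comodule
open scoped commutatorElement

namespace GrothLib.LieKolchin

variable {k : Type u} [Field k] {A : Type v} [CommRing A] [HopfAlgebra k A]
  {V : Type w} [AddCommGroup V] [Module k V] [HopfRep.Comod k A V]

/-- The action of a product is the composite. -/
theorem act_mul (g h : WithConv (A →ₐ[k] k)) :
    HopfRep.Comod.act k A V (g * h).ofConv =
      HopfRep.Comod.act k A V g.ofConv * HopfRep.Comod.act k A V h.ofConv := by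
  refine LinearMap.ext fun v => ?_
  show Comod.op (g * h).ofConv.toLinearMap v = Comod.op g.ofConv.toLinearMap (Comod.op h.ofConv.toLinearMap v)
  rw [GrothLib.Trig.op_op]
  exact congrArg (fun f => Comod.op f v) (congrArg WithConv.ofConv (AlgHom.toLinearMap_convMul g h))

theorem act_one : HopfRep.Comod.act k A V (1 : WithConv (A →ₐ[k] k)).ofConv = 1 :=
  LinearMap.ext fun v => Comod.op_counit v

variable {n : ℕ}

/-- The representation of the points in matrices. -/
noncomputable def repr (b : Module.Basis (Fin n) k V) : WithConv (A →ₐ[k] k) →* Matrix (Fin n) (Fin n) k where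
  toFun g := LinearMap.toMatrixAlgEquiv b (HopfRep.Comod.act k A V g.ofConv)
  map_one' := by rw [act_one, map_one]
  map_mul' g h := by rw [act_mul, map_mul]

/-- The matrix coefficients. -/
noncomputable def univ (b : Module.Basis (Fin n) k V) : Matrix (Fin n) (Fin n) A :=
  Matrix.of fun i j => cfMap (C := A) (b.coord i) (b j)

theorem map_univ (b : Module.Basis (Fin n) k V) (g : WithConv (A →ₐ[k] k)) :
    g.ofConv.mapMatrix (univ b) = repr b g := by
  ext i j
  show g.ofConv (cfMap (C := A) (b.coord i) (b j)) = LinearMap.toMatrixAlgEquiv b _ i j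
  rw [GrothLib.Dense.dual_act', LinearMap.toMatrixAlgEquiv_apply]
  rfl

theorem map_univ_antipode (b : Module.Basis (Fin n) k V) (g : WithConv (A →ₐ[k] k)) :
    g.ofConv.mapMatrix ((HopfAlgebra.antipodeAlgHom k A).mapMatrix (univ b)) = repr b g⁻¹ := by
  rw [← map_univ]
  rfl

theorem map_C (g : WithConv (A →ₐ[k] k)) (M : Matrix (Fin n) (Fin n) k) :
    g.ofConv.mapMatrix ((Algebra.ofId k A).mapMatrix M) = M := by
  ext i j
  show g.ofConv (algebraMap k A (M i j)) = M i j
  rw [AlgHom.commutes]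
  rfl

/-- A regular function with finitely many values is constant on a connected group. -/
theorem eq_counit_of_finite_values [IsAlgClosed k] [Algebra.FiniteType k A] [IsReduced A]
    (hconn : ∀ e : A, IsIdempotentElem e → e = 0 ∨ e = 1) (f : A) (S : Set k) (hS : S.Finite) (h : ∀ g : WithConv (A →ₐ[k] k), g.ofConv f ∈ S)
    (g : WithConv (A →ₐ[k] k)) : g.ofConv f = (1 : WithConv (A →ₐ[k] k)).ofConv f := by
  classical
  set s₀ := (1 : WithConv (A →ₐ[k] k)).ofConv f with hs₀
  let e : A := ∏ s ∈ hS.toFinset.erase s₀, algebraMap k A (s₀ - s)⁻¹ * (f - algebraMap k A s)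
  have hval : ∀ φ : WithConv (A →ₐ[k] k), φ.ofConv e = if φ.ofConv f = s₀ then 1 else 0 := fun φ => by
    rw [map_prod]
    split_ifs with hf
    · refine Finset.prod_eq_one fun s hs => ?_
      rw [map_mul, map_sub, AlgHom.commutes, AlgHom.commutes, hf]
      exact inv_mul_cancel₀ (sub_ne_zero.mpr (Finset.ne_of_mem_erase hs).symm)
    · refine Finset.prod_eq_zero (Finset.mem_erase.mpr ⟨hf, hS.mem_toFinset.mpr (h φ)⟩) ?_
      simp
  have he : IsIdempotentElem e := sub_eq_zero.mp <| GrothLib.Dense.eq_zero_of_forall_point (k := k) _ fun φ => by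
    rw [map_sub, map_mul, show φ e = (toConv φ).ofConv e from rfl, hval]
    split_ifs <;> simp
  rcases hconn e he with h1 | h1
  · have := hval 1
    rw [h1, map_zero, if_pos hs₀.symm] at this
    exact absurd this zero_ne_one
  · have := hval g
    rw [h1, map_one] at this
    by_contra hne
    rw [if_neg hne] at this
    exact one_ne_zero this

/-- Commuting operators on a nonzero space have a common eigenvector. -/
theorem exists_common_eigenvector [IsAlgClosed k] {W : Type w} [AddCommGroup W] [Module k W] [Module.Finite k W]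
    [Nontrivial W] (T : Set (Module.End k W)) (hT : ∀ x ∈ T, ∀ y ∈ T, x * y = y * x) :
    ∃ u : W, u ≠ 0 ∧ ∀ x ∈ T, ∃ c : k, x u = c • u := by
  classical
  have hex : ∃ d, ∃ U : Submodule k W, U ≠ ⊥ ∧ (∀ x ∈ T, ∀ u ∈ U, x u ∈ U) ∧ Module.finrank k U = d :=
    ⟨_, ⊤, top_ne_bot, fun _ _ _ _ => trivial, rfl⟩
  obtain ⟨U, hU, hstab, hd⟩ := Nat.find_spec hex
  obtain ⟨u, hu, hu0⟩ := (Submodule.ne_bot_iff U).mp hU
  refine ⟨u, hu0, fun x hx => ?_⟩
  haveI : Nontrivial U := ⟨⟨u, hu⟩, 0, fun h => hu0 (congrArg Subtype.val h)⟩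
  obtain ⟨c, hc⟩ := Module.End.exists_eigenvalue (x.restrict (hstab x hx))
  obtain ⟨w, hw⟩ := hc.exists_hasEigenvector
  let U' : Submodule k W := U ⊓ Module.End.eigenspace x c
  have hw' : (w : W) ∈ U' :=
    ⟨w.2, Module.End.mem_eigenspace_iff.mpr (congrArg Subtype.val hw.apply_eq_smul)⟩
  have hne : U' ≠ ⊥ := (Submodule.ne_bot_iff _).mpr ⟨w, hw', fun h => hw.2 (Subtype.ext h)⟩
  have hstab' : ∀ y ∈ T, ∀ v ∈ U', y v ∈ U' := by
    rintro y hy v ⟨hv1, hv2⟩
    refine ⟨hstab y hy v hv1, Module.End.mem_eigenspace_iff.mpr ?_⟩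
    rw [← Module.End.mul_apply, hT x hx y hy, Module.End.mul_apply, Module.End.mem_eigenspace_iff.mp hv2,
      map_smul]
  have heq : U' = U := Submodule.eq_of_le_of_finrank_le inf_le_left (hd ▸ Nat.find_le ⟨U', hne, hstab', rfl⟩)
  exact ⟨c, Module.End.mem_eigenspace_iff.mp (heq.ge hu).2⟩

variable [IsAlgClosed k] [Algebra.FiniteType k A] [IsReduced A]

/-- A simple representation of a connected group with solvable group of points is a line. -/
theorem finrank_eq_one (hconn : ∀ e : A, IsIdempotentElem e → e = 0 ∨ e = 1)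
    [Group.IsSolvable (WithConv (A →ₐ[k] k))] [Module.Finite k V] (hV : IsSimpleComod k A V) :
    Module.finrank k V = 1 := by
  classical
  haveI : Nontrivial V := hV.1
  let n := Module.finrank k V
  have hn : 0 < n := Module.finrank_pos
  let b : Module.Basis (Fin n) k V := Module.finBasis k V
  let ρ := repr (A := A) b
  let P := univ (A := A) b
  let Q := (HopfAlgebra.antipodeAlgHom k A).mapMatrix P
  let cA : Matrix (Fin n) (Fin n) k → Matrix (Fin n) (Fin n) A := fun M => (Algebra.ofId k A).mapMatrix M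
  haveI : Nonempty (Fin n) := ⟨⟨0, hn⟩⟩
  -- invariant subspaces
  have hirr : ∀ U : Submodule k (Fin n → k), U ≠ ⊥ → (∀ g, ∀ u ∈ U, ρ g *ᵥ u ∈ U) → U = ⊤ := by
    intro U hU hst
    let U' : Submodule k V := U.comap b.equivFun.toLinearMap
    have hsub : IsSubcomod (k := k) (A := A) U' := by
      refine (GrothLib.Dense.isSubcomod_iff (S := Set.univ)
        (fun a ha => GrothLib.Dense.eq_zero_of_forall_point (k := k) a fun g => ha g trivial) U').mpr ?_
      rintro g - _ ⟨v, hv, rfl⟩
      have h := hst (toConv g) (b.equivFun v) hv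
      show b.equivFun (HopfRep.Comod.act k A V g v) ∈ U
      convert h using 1
      show b.equivFun _ = LinearMap.toMatrixAlgEquiv b (HopfRep.Comod.act k A V g) *ᵥ b.equivFun v
      ext i
      exact (congrFun (LinearMap.toMatrix_mulVec_repr b b (HopfRep.Comod.act k A V g) v) i).symm
    rcases hV.2 U' hsub with h | h
    · refine absurd (eq_bot_iff.mpr fun u hu => ?_) hU
      have : b.equivFun.symm u ∈ U' := by
        show b.equivFun (b.equivFun.symm u) ∈ U
        rwa [LinearEquiv.apply_symm_apply]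
      rw [h, Submodule.mem_bot, LinearEquiv.map_eq_zero_iff] at this
      exact (Submodule.mem_bot k).mpr this
    · refine eq_top_iff.mpr fun u _ => ?_
      have : b.equivFun (b.equivFun.symm u) ∈ U :=
        (h ▸ Submodule.mem_top : b.equivFun.symm u ∈ U')
      rwa [LinearEquiv.apply_symm_apply] at this
  let Sc : WithConv (A →ₐ[k] k) → Prop := fun x => ∃ c : k, ρ x = c • 1
  -- commuting normal sets act by scalars
  have stepA : ∀ N : Subgroup (WithConv (A →ₐ[k] k)), N.Normal →
      (∀ x ∈ N, ∀ y ∈ N, ρ x * ρ y = ρ y * ρ x) → ∀ x ∈ N, Sc x := by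
    intro N hN hcomm a ha
    obtain ⟨u, hu0, hu⟩ := exists_common_eigenvector (k := k) (W := Fin n → k)
      ((fun x => Matrix.toLinAlgEquiv' (ρ x)) '' (N : Set (WithConv (A →ₐ[k] k)))) (by
        rintro _ ⟨x, hx, rfl⟩ _ ⟨y, hy, rfl⟩
        show Matrix.toLinAlgEquiv' (ρ x) * Matrix.toLinAlgEquiv' (ρ y) = _
        rw [← map_mul, hcomm x hx y hy, map_mul])
    obtain ⟨i₀, hi₀⟩ := Function.ne_iff.mp hu0
    let E : Set k := {c | Module.End.HasEigenvalue (Matrix.toLinAlgEquiv' (ρ a) : Module.End k (Fin n → k)) c}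
    have hEfin : E.Finite := Module.End.finite_hasEigenvalue _
    let f : A := ((Q * cA (ρ a) * P) *ᵥ (algebraMap k A ∘ u)) i₀
    have hval : ∀ g : WithConv (A →ₐ[k] k), g.ofConv f = (ρ (g⁻¹ * a * g) *ᵥ u) i₀ := fun g => by
      show (g.ofConv : A →+* k) _ = _
      rw [RingHom.map_mulVec]
      have e1 : (Q * cA (ρ a) * P).map (g.ofConv : A →+* k) = ρ (g⁻¹ * a * g) := by
        show g.ofConv.mapMatrix (Q * cA (ρ a) * P) = _
        rw [map_mul, map_mul, map_univ, map_univ_antipode, map_C, map_mul, map_mul]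
      rw [e1]
      congr 1
      ext j
      exact AlgHom.commutes _ (u j) |>.trans (by simp)
    have hchar : ∀ g, ∃ c ∈ E, ρ a *ᵥ (ρ g *ᵥ u) = c • (ρ g *ᵥ u) ∧ g.ofConv f = c * u i₀ := fun g => by
      have hmem : g⁻¹ * a * g ∈ N := by simpa using hN.conj_mem a ha g⁻¹
      obtain ⟨c, hc⟩ := hu _ ⟨_, hmem, rfl⟩
      rw [Matrix.toLinAlgEquiv'_apply] at hc
      have h1 : ρ a *ᵥ (ρ g *ᵥ u) = c • (ρ g *ᵥ u) := by
        rw [Matrix.mulVec_mulVec, ← map_mul, show a * g = g * (g⁻¹ * a * g) by group, map_mul,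
          ← Matrix.mulVec_mulVec, hc, Matrix.mulVec_smul]
      refine ⟨c, ?_, h1, by rw [hval, hc]; rfl⟩
      refine Module.End.hasEigenvalue_of_hasEigenvector (x := ρ g *ᵥ u) ⟨Module.End.mem_eigenspace_iff.mpr ?_, ?_⟩
      · rw [Matrix.toLinAlgEquiv'_apply]; exact h1
      · intro h0
        apply hu0
        have := congrArg (ρ g⁻¹ *ᵥ ·) h0
        simpa [Matrix.mulVec_mulVec, ← map_mul] using this
    have hconst : ∀ g : WithConv (A →ₐ[k] k), g.ofConv f = (1 : WithConv (A →ₐ[k] k)).ofConv f :=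
      eq_counit_of_finite_values hconn f ((· * u i₀) '' E) (hEfin.image _) fun g => by
        obtain ⟨c, hc, -, hf⟩ := hchar g
        exact ⟨c, hc, hf.symm⟩
    obtain ⟨c₀, -, hc₀, hf₀⟩ := hchar 1
    refine ⟨c₀, ?_⟩
    let U : Submodule k (Fin n → k) := Submodule.span k (Set.range fun g => ρ g *ᵥ u)
    have htop : U = ⊤ := by
      refine hirr U ((Submodule.ne_bot_iff _).mpr ⟨u, Submodule.subset_span ⟨1, by simp⟩, hu0⟩) fun g v hv => ?_
      induction hv using Submodule.span_induction with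
      | mem v hv =>
        obtain ⟨h, rfl⟩ := hv
        rw [Matrix.mulVec_mulVec, ← map_mul]
        exact Submodule.subset_span ⟨_, rfl⟩
      | zero => rw [Matrix.mulVec_zero]; exact zero_mem _
      | add x y _ _ hx hy => rw [Matrix.mulVec_add]; exact add_mem hx hy
      | smul r x _ hx => rw [Matrix.mulVec_smul]; exact U.smul_mem r hx
    refine Matrix.ext_of_mulVec_single fun j => ?_
    have hv : Pi.single j (1 : k) ∈ U := htop ▸ Submodule.mem_top
    rw [Matrix.smul_mulVec, Matrix.one_mulVec]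
    generalize (Pi.single j (1 : k) : Fin n → k) = v at hv ⊢
    induction hv using Submodule.span_induction with
    | mem v hv =>
      obtain ⟨g, rfl⟩ := hv
      obtain ⟨c, -, hc, hf⟩ := hchar g
      rw [hconst g, hf₀] at hf
      rw [hc, mul_right_cancel₀ hi₀ hf]
    | zero => simp
    | add x y _ _ hx hy => rw [Matrix.mulVec_add, smul_add, hx, hy]
    | smul r x _ hx => rw [Matrix.mulVec_smul, hx, smul_comm]
  -- scalar commutators have finitely many values
  have hdet : ∀ x y : WithConv (A →ₐ[k] k), (ρ ⁅x, y⁆).det = 1 := fun x y => by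
    have h : ∀ z, (ρ z).det * (ρ z⁻¹).det = 1 := fun z => by
      rw [← Matrix.det_mul, ← map_mul, mul_inv_cancel, map_one, Matrix.det_one]
    rw [commutatorElement_def, map_mul, map_mul, map_mul, Matrix.det_mul, Matrix.det_mul, Matrix.det_mul]
    linear_combination (ρ y).det * (ρ y⁻¹).det * h x + h y
  let μn : Set k := {c | c ^ n = 1}
  have hμn : μn.Finite := by
    refine ((Polynomial.nthRoots n (1 : k)).toFinset.finite_toSet).subset fun c hc => ?_
    rw [Finset.mem_coe, Multiset.mem_toFinset, Polynomial.mem_nthRoots hn]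
    exact hc
  have hScμ : ∀ x y : WithConv (A →ₐ[k] k), Sc ⁅x, y⁆ → ∃ c ∈ μn, ρ ⁅x, y⁆ = c • 1 := fun x y h => by
    obtain ⟨c, hc⟩ := h
    refine ⟨c, ?_, hc⟩
    have := hdet x y
    rw [hc, Matrix.det_smul, Matrix.det_one, mul_one, Fintype.card_fin] at this
    exact this
  have hW : ∀ (W : Matrix (Fin n) (Fin n) A) (z : WithConv (A →ₐ[k] k) → WithConv (A →ₐ[k] k)),
      (∀ g : WithConv (A →ₐ[k] k), g.ofConv.mapMatrix W = ρ (z g)) → (∀ g, ∃ c ∈ μn, ρ (z g) = c • 1) → ∀ g, ρ (z g) = ρ (z 1) := by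
    intro W z hW hz g
    let i : Fin n := Classical.arbitrary _
    have hev : ∀ (g : WithConv (A →ₐ[k] k)) (c : k), ρ (z g) = c • 1 → g.ofConv (W i i) = c := fun g c hc => by
      have := congrFun (congrFun (hW g) i) i
      rw [hc] at this
      simpa using this
    have hconst := eq_counit_of_finite_values hconn (W i i) μn hμn (fun g => by
      obtain ⟨c, hc, hc'⟩ := hz g
      rw [hev g c hc']; exact hc) g
    obtain ⟨c, -, hc⟩ := hz g
    obtain ⟨c', -, hc'⟩ := hz 1
    rw [hev g c hc, hev 1 c' hc'] at hconst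
    rw [hc, hc', hconst]
  have step : ∀ D : Subgroup (WithConv (A →ₐ[k] k)), D.Normal → (∀ x ∈ ⁅D, D⁆, Sc x) → ∀ x ∈ D, Sc x := by
    intro D hD hD'
    have hcj : ∀ g, ∀ y ∈ D, g * y * g⁻¹ ∈ D := fun g y hy => hD.conj_mem y hy g
    have h1 : ∀ a ∈ D, ∀ y ∈ D, ∀ g : WithConv (A →ₐ[k] k), ρ ⁅a, g * y * g⁻¹⁆ = ρ ⁅a, y⁆ := by
      intro a ha y hy g
      have h := hW (cA (ρ a) * (P * cA (ρ y) * Q) * cA (ρ a⁻¹) * (P * cA (ρ y⁻¹) * Q))
        (fun g => ⁅a, g * y * g⁻¹⁆) (fun g => by
          simp only [map_mul, cA, Q, P, map_univ, map_univ_antipode, map_C, commutatorElement_def, _root_.mul_inv_rev,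
            inv_inv, mul_assoc]
          rfl) (fun g => hScμ _ _ (hD' _ (Subgroup.commutator_mem_commutator ha (hcj g y hy)))) g
      simpa using h
    -- D commutes with commutators
    have hcomm : ∀ a ∈ D, ∀ y ∈ D, ∀ g : WithConv (A →ₐ[k] k), ρ a * ρ ⁅g, y⁆ = ρ ⁅g, y⁆ * ρ a := by
      intro a ha y hy g
      obtain ⟨c, -, hc⟩ := hScμ _ _ (hD' _ (Subgroup.commutator_mem_commutator ha hy))
      have e1 : ρ a * ρ (g * y * g⁻¹) = c • (ρ (g * y * g⁻¹) * ρ a) := by
        rw [← map_mul, ← map_mul, show a * (g * y * g⁻¹) = ⁅a, g * y * g⁻¹⁆ * (g * y * g⁻¹ * a) by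
          rw [commutatorElement_def]; group, map_mul, h1 a ha y hy g, hc, Matrix.smul_mul, one_mul]
      have e2 : ρ a * ρ y = c • (ρ y * ρ a) := by
        rw [← map_mul, ← map_mul, show a * y = ⁅a, y⁆ * (y * a) by
          rw [commutatorElement_def]; group, map_mul, hc, Matrix.smul_mul, one_mul]
      have e3 : ρ ⁅g, y⁆ * ρ y = ρ (g * y * g⁻¹) := by
        rw [← map_mul, commutatorElement_def]; congr 1; group
      have e4 : ρ a * ρ ⁅g, y⁆ * ρ y = ρ ⁅g, y⁆ * ρ a * ρ y := by
        rw [mul_assoc, e3, e1, ← e3, mul_assoc (ρ ⁅g, y⁆) (ρ y) (ρ a), ← Matrix.mul_smul, ← e2, ← mul_assoc]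
      have hu : IsUnit (ρ y) := (Group.isUnit y).map ρ
      exact hu.mul_right_cancel e4
    let N : Subgroup (WithConv (A →ₐ[k] k)) := ⁅(⊤ : Subgroup (WithConv (A →ₐ[k] k))), D⁆
    haveI := hD
    have hND : N ≤ D := Subgroup.commutator_le_right _ _
    have hNc : ∀ x ∈ N, ∀ a ∈ D, ρ a * ρ x = ρ x * ρ a := by
      intro x hx
      rw [show N = ⁅(⊤ : Subgroup (WithConv (A →ₐ[k] k))), D⁆ from rfl, Subgroup.commutator_def] at hx
      induction hx using Subgroup.closure_induction with
      | mem x hx =>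
        obtain ⟨g, -, y, hy, rfl⟩ := hx
        exact fun a ha => hcomm a ha y hy g
      | one => intro a _; rw [map_one, one_mul, mul_one]
      | mul x y _ _ hx hy =>
        intro a ha
        rw [map_mul, ← mul_assoc, hx a ha, mul_assoc, hy a ha, mul_assoc]
      | inv x _ hx =>
        intro a ha
        have : ρ x⁻¹ * (ρ a * ρ x) * ρ x⁻¹ = ρ x⁻¹ * (ρ x * ρ a) * ρ x⁻¹ := by rw [hx a ha]
        rw [mul_assoc, mul_assoc, ← map_mul ρ x x⁻¹, mul_inv_cancel, map_one, mul_one, ← mul_assoc (ρ x⁻¹) (ρ x),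
          ← map_mul ρ x⁻¹ x, inv_mul_cancel, map_one, one_mul] at this
        exact this.symm
    have hNS := stepA N inferInstance fun x hx y hy => hNc y hy x (hND hx)
    intro y hy
    have hcen : ∀ g : WithConv (A →ₐ[k] k), ρ g * ρ y = ρ y * ρ g := fun g => by
      have h := hW (P * cA (ρ y) * Q * cA (ρ y⁻¹)) (fun g => ⁅g, y⁆) (fun g => by
        simp only [map_mul, cA, Q, P, map_univ, map_univ_antipode, map_C, commutatorElement_def]
        rfl) (fun g => hScμ _ _ (hNS _ (Subgroup.commutator_mem_commutator (Subgroup.mem_top g) hy))) g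
      simp only [commutatorElement_one_left, map_one] at h
      rw [← map_mul, ← map_mul, show g * y = ⁅g, y⁆ * (y * g) by rw [commutatorElement_def]; group,
        map_mul, h, one_mul]
    obtain ⟨c, hc⟩ := Module.End.exists_eigenvalue (Matrix.toLinAlgEquiv' (ρ y) : Module.End k (Fin n → k))
    refine ⟨c, ?_⟩
    have htop := hirr (Module.End.eigenspace (Matrix.toLinAlgEquiv' (ρ y)) c) hc fun g v hv => by
      rw [Module.End.mem_eigenspace_iff, Matrix.toLinAlgEquiv'_apply] at hv ⊢
      rw [Matrix.mulVec_mulVec, ← hcen, ← Matrix.mulVec_mulVec, hv, Matrix.mulVec_smul]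
    refine Matrix.ext_of_mulVec_single fun j => ?_
    have : Pi.single j (1 : k) ∈ Module.End.eigenspace (Matrix.toLinAlgEquiv' (ρ y)) c := htop ▸ Submodule.mem_top
    rw [Module.End.mem_eigenspace_iff, Matrix.toLinAlgEquiv'_apply] at this
    rw [this, Matrix.smul_mulVec, Matrix.one_mulVec]
  obtain ⟨m, hm⟩ := ‹Group.IsSolvable (WithConv (A →ₐ[k] k))›.solvable
  have hall : ∀ i, i ≤ m → ∀ x ∈ derivedSeries (WithConv (A →ₐ[k] k)) (m - i), Sc x := by
    intro i
    induction i with
    | zero =>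
      intro _ x hx
      rw [Nat.sub_zero, hm, Subgroup.mem_bot] at hx
      exact ⟨1, by rw [hx, map_one, one_smul]⟩
    | succ i ih =>
      intro hi
      refine step _ (derivedSeries_normal _ _) ?_
      rw [← derivedSeries_succ, show m - (i + 1) + 1 = m - i by omega]
      exact ih (by omega)
  have hsc : ∀ x, Sc x := fun x => hall m le_rfl x (by rw [Nat.sub_self, derivedSeries_zero]; trivial)
  obtain ⟨j⟩ : Nonempty (Fin n) := inferInstance
  have htop : Submodule.span k {(Pi.single j 1 : Fin n → k)} = ⊤ := hirr _ (by simp) fun g v hv => by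
    obtain ⟨c, hc⟩ := hsc g
    rw [hc, Matrix.smul_mulVec, Matrix.one_mulVec]
    exact Submodule.smul_mem _ c hv
  have h1 := finrank_span_singleton (K := k) (V := Fin n → k) (v := Pi.single j 1) (by simp)
  rw [htop, finrank_top, Module.finrank_fin_fun] at h1
  exact h1

omit [IsAlgClosed k] [Algebra.FiniteType k A] [IsReduced A] in
theorem mul_sub_mem {F G : Submodule k V} (g : WithConv (A →ₐ[k] k))
    (hF : IsSubcomod (k := k) (A := A) F) (h : WithConv (A →ₐ[k] k)) {v : V}
    (hg : HopfRep.Comod.act k A V g.ofConv v - v ∈ F) (hh : HopfRep.Comod.act k A V h.ofConv v - v ∈ F) :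
    HopfRep.Comod.act k A V (h * g).ofConv v - v ∈ F := by
  rw [act_mul, Module.End.mul_apply]
  have h1 : HopfRep.Comod.act k A V h.ofConv (HopfRep.Comod.act k A V g.ofConv v - v) ∈ F :=
    Comod.op_mem_of_isSubcomod hF hg _
  rw [map_sub] at h1
  simpa using F.add_mem h1 hh

omit [IsAlgClosed k] [Algebra.FiniteType k A] [IsReduced A] in
/-- The points moving every step of a flag `j + 1` steps down. -/
noncomputable def stepSubgroup (F : ℕ → Submodule k V) (hF : ∀ i, IsSubcomod (k := k) (A := A) (F i)) (j : ℕ) :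
    Subgroup (WithConv (A →ₐ[k] k)) where
  carrier := {g | ∀ i, ∀ v ∈ F i, HopfRep.Comod.act k A V g.ofConv v - v ∈ F (i - j)}
  one_mem' := fun i v _ => by rw [act_one, Module.End.one_apply, sub_self]; exact zero_mem _
  mul_mem' := fun {g h} hg hh i v hv => mul_sub_mem (G := ⊥) h (hF _) g (hh i v hv) (hg i v hv)
  inv_mem' := fun {g} hg i v hv => by
    have h1 := hg i _ (Comod.op_mem_of_isSubcomod (hF i) hv g⁻¹.ofConv.toLinearMap)
    have e : HopfRep.Comod.act k A V g.ofConv (HopfRep.Comod.act k A V g⁻¹.ofConv v) = v := by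
      rw [← Module.End.mul_apply, ← act_mul, mul_inv_cancel, act_one, Module.End.one_apply]
    change HopfRep.Comod.act k A V g.ofConv (HopfRep.Comod.act k A V g⁻¹.ofConv v) -
      HopfRep.Comod.act k A V g⁻¹.ofConv v ∈ F (i - j) at h1
    rw [e] at h1
    simpa using (F (i - j)).neg_mem h1

omit [IsAlgClosed k] [Algebra.FiniteType k A] [IsReduced A] in
/-- Commutators of points move a flag with lines as quotients strictly down, and further commutators further. -/
theorem derivedSeries_le (F : ℕ → Submodule k V) (hF : ∀ i, IsSubcomod (k := k) (A := A) (F i))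
    (hmono : Monotone F) (h0 : F 0 = ⊥) (hline : ∀ i, ∃ v, F (i + 1) ≤ F i ⊔ Submodule.span k {v}) :
    ∀ j, derivedSeries (WithConv (A →ₐ[k] k)) (j + 1) ≤ stepSubgroup F hF (j + 1) := by
  have hmem : ∀ (g : WithConv (A →ₐ[k] k)) i v, v ∈ F i → HopfRep.Comod.act k A V g.ofConv v ∈ F i :=
    fun g i v hv => Comod.op_mem_of_isSubcomod (hF i) hv _
  have key : ∀ (a b : WithConv (A →ₐ[k] k)) (d : ℕ),
      (∀ i, ∀ v ∈ F i, HopfRep.Comod.act k A V a.ofConv (HopfRep.Comod.act k A V b.ofConv v) -
        HopfRep.Comod.act k A V b.ofConv (HopfRep.Comod.act k A V a.ofConv v) ∈ F (i - d)) →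
      ⁅a, b⁆ ∈ stepSubgroup F hF d := by
    intro a b d h i v hv
    have hw := h i (HopfRep.Comod.act k A V (a⁻¹ * b⁻¹).ofConv v) (hmem _ i v hv)
    rw [← Module.End.mul_apply, ← act_mul, ← Module.End.mul_apply, ← act_mul, ← Module.End.mul_apply, ← act_mul,
      ← Module.End.mul_apply, ← act_mul] at hw
    rw [show a * b * (a⁻¹ * b⁻¹) = ⁅a, b⁆ by rw [commutatorElement_def]; group,
      show b * a * (a⁻¹ * b⁻¹) = 1 by group, act_one, Module.End.one_apply] at hw
    exact hw
  intro j
  induction j with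
  | zero =>
    rw [derivedSeries_succ, derivedSeries_zero, Subgroup.commutator_le]
    intro a _ b _
    refine key a b 1 fun i v hv => ?_
    rcases i with _ | i
    · rw [h0, Submodule.mem_bot] at hv
      subst hv
      simp
    obtain ⟨u, hu⟩ := hline i
    by_cases hu' : u ∈ F (i + 1)
    · have scal : ∀ g : WithConv (A →ₐ[k] k), ∃ c : k, ∀ v ∈ F (i + 1),
          HopfRep.Comod.act k A V g.ofConv v - c • v ∈ F i := by
        intro g
        obtain ⟨f, hf, y, hy, hfy⟩ := Submodule.mem_sup.mp (hu (hmem g _ u hu'))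
        obtain ⟨c, rfl⟩ := Submodule.mem_span_singleton.mp hy
        refine ⟨c, fun v hv => ?_⟩
        obtain ⟨f', hf', y', hy', rfl⟩ := Submodule.mem_sup.mp (hu hv)
        obtain ⟨d, rfl⟩ := Submodule.mem_span_singleton.mp hy'
        rw [map_add, map_smul, ← hfy]
        have : HopfRep.Comod.act k A V g.ofConv f' + d • (f + c • u) - c • (f' + d • u) =
            (HopfRep.Comod.act k A V g.ofConv f' - c • f') + d • f := by
          simp only [smul_add, smul_comm c d]
          abel
        rw [this]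
        exact add_mem (sub_mem (hmem g i f' hf') ((F i).smul_mem c hf')) ((F i).smul_mem d hf)
      obtain ⟨α, hα⟩ := scal a
      obtain ⟨β, hβ⟩ := scal b
      have h1 := hα _ (hmem b _ v hv)
      have h2 := hβ _ (hmem a _ v hv)
      have h3 := (F i).smul_mem α (hβ v hv)
      have h4 := (F i).smul_mem β (hα v hv)
      rw [Nat.add_sub_cancel]
      convert sub_mem (add_mem h1 h3) (add_mem h2 h4) using 1
      simp only [smul_sub, smul_comm α β]
      abel
    · have : v ∈ F i := by
        obtain ⟨f', hf', y', hy', rfl⟩ := Submodule.mem_sup.mp (hu hv)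
        obtain ⟨d, rfl⟩ := Submodule.mem_span_singleton.mp hy'
        rcases eq_or_ne d 0 with rfl | hd
        · simpa using hf'
        · refine absurd ?_ hu'
          have := (F (i + 1)).smul_mem d⁻¹ (sub_mem hv (hmono (Nat.le_succ i) hf'))
          simpa [smul_smul, inv_mul_cancel₀ hd] using this
      rw [Nat.add_sub_cancel]
      exact sub_mem (hmem a i _ (hmem b i v this)) (hmem b i _ (hmem a i v this))
  | succ j ih =>
    rw [derivedSeries_succ, Subgroup.commutator_le]
    intro a ha b hb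
    refine key a b (j + 2) fun i v hv => ?_
    have hb1 := ih hb i v hv
    have ha1 := ih ha i v hv
    have hab := ih ha _ _ hb1
    have hba := ih hb _ _ ha1
    rw [map_sub] at hab hba
    have := sub_mem hab hba
    refine hmono (show i - (j + 1) - (j + 1) ≤ i - (j + 2) by omega) ?_
    convert this using 1
    abel

end GrothLib.LieKolchin
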