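import Mathlib

/-! Bialgebra maps commute with antipodes, in any universes. -/

universe u v w

open TensorProduct WithConv

namespace GrothLib.HopfAG

theorem bialgHom_antipode {k : Type u} [CommRing k] {A : Type v} [CommRing A] [HopfAlgebra k A]
    {B : Type w} [CommRing B] [HopfAlgebra k B] (f : B →ₐc[k] A) (b : B) :
    HopfAlgebraStruct.antipode k (f b) = f (HopfAlgebraStruct.antipode k b) := by
  have h1 : toConv ((HopfAlgebra.antipodeAlgHom k A).comp (f : B →ₐ[k] A)) * toConv (f : B →ₐ[k] A) = 1 := by
    apply WithConv.ofConv_injective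
    ext b
    show LinearMap.mul' k A (TensorProduct.map (HopfAlgebraStruct.antipode k ∘ₗ (f : B →ₗ[k] A)) (f : B →ₗ[k] A)
      (CoalgebraStruct.comul b)) = algebraMap k A (CoalgebraStruct.counit b)
    rw [← CoalgHomClass.counit_comp_apply f b, ← HopfAlgebra.mul_antipode_rTensor_comul_apply (R := k) (f b),
      ← CoalgHomClass.map_comp_comul_apply f b]
    induction CoalgebraStruct.comul (R := k) b using TensorProduct.induction_on with
    | zero => simp
    | add p q hp hq => simp only [map_add, hp, hq]
    | tmul p q => simp
  have h2 : toConv (f : B →ₐ[k] A) * toConv ((f : B →ₐ[k] A).comp (HopfAlgebra.antipodeAlgHom k B)) = 1 := by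
    apply WithConv.ofConv_injective
    ext b
    show LinearMap.mul' k A (TensorProduct.map (f : B →ₗ[k] A) ((f : B →ₗ[k] A) ∘ₗ HopfAlgebraStruct.antipode k)
      (CoalgebraStruct.comul b)) = algebraMap k A (CoalgebraStruct.counit b)
    rw [← (f : B →ₐ[k] A).commutes, ← HopfAlgebra.mul_antipode_lTensor_comul_apply (R := k) b]
    induction CoalgebraStruct.comul (R := k) b using TensorProduct.induction_on with
    | zero => simp
    | add p q hp hq => simp only [map_add, hp, hq]
    | tmul p q => simp
  exact DFunLike.congr_fun (toConv_injective (left_inv_eq_right_inv h1 h2)) b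

end GrothLib.HopfAG
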