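import Groth.Agent.Lib.HopfAG.UnipFun
import Groth.Agent.Lib.HopfAG.Model
import Groth.Agent.Lib.HopfAG.AntipodeMap
import Groth.Agent.Lib.Hopf.FiniteRank
import Groth.Prelude.Def_Red2
import Mathlib.RingTheory.FiniteType
import Mathlib.RingTheory.HopfAlgebra.Quotient

/-!
# Unipotent groups and primitive elements
-/

universe u v w

set_option linter.style.haveILetI false

open TensorProduct HopfRep

namespace GrothLib.Unip

variable {k : Type u} [Field k]

theorem isUnipotent_of_surjective' {A : Type v} [CommRing A] [Bialgebra k A] {B : Type w} [CommRing B]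
    [Bialgebra k B] (φ : A →ₐc[k] B) (hφ : Function.Surjective φ) (hU : IsUnipotent k A) : IsUnipotent k B :=
  isUnipotent_of_forall_mem_soc fun b => by
    obtain ⟨a, rfl⟩ := hφ b
    obtain ⟨n, hn⟩ := exists_mem_soc hU a
    exact ⟨n, map_soc φ n a hn⟩

theorem isHopfIdeal_ker' {A : Type v} {B : Type w} [CommRing A] [CommRing B] [HopfAlgebra k A] [HopfAlgebra k B]
    (φ : A →ₐc[k] B) (hφ : Function.Surjective φ) : (RingHom.ker (φ : A →ₐ[k] B)).IsHopfIdeal k :=
  { counit_eq_zero := fun x hx => by
      rw [← CoalgHomClass.counit_comp_apply φ x, show φ x = 0 from hx, map_zero]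
    map_mkQ_comul_eq_zero := fun x hx => by
      have hs : Function.Surjective (φ : A →ₐ[k] B) := hφ
      let ψ : B →ₐ[k] A ⧸ RingHom.ker (φ : A →ₐ[k] B) :=
        (Ideal.quotientKerAlgEquivOfSurjective hs).symm.toAlgHom
      have h : ψ.comp (φ : A →ₐ[k] B) = Ideal.Quotient.mkₐ k _ := AlgHom.ext fun a => by
        apply (Ideal.quotientKerAlgEquivOfSurjective hs).injective
        simp [ψ]
      show Algebra.TensorProduct.map (Ideal.Quotient.mkₐ k (RingHom.ker (φ : A →ₐ[k] B)))
        (Ideal.Quotient.mkₐ k (RingHom.ker (φ : A →ₐ[k] B))) (Coalgebra.comul (R := k) x) = 0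
      have e := CoalgHomClass.map_comp_comul_apply φ x
      rw [show φ x = 0 from hx, map_zero] at e
      rw [← h, Algebra.TensorProduct.map_comp, AlgHom.comp_apply]
      exact (congrArg _ e).trans (map_zero _)
    antipode_mem := fun x hx => by
      show φ (HopfAlgebraStruct.antipode k x) = 0
      rw [← GrothLib.HopfAG.bialgHom_antipode, show φ x = 0 from hx, map_zero] }

theorem counit_of_primitive {A : Type v} [CommRing A] [Bialgebra k A] {x : A}
    (hx : Coalgebra.comul (R := k) x = x ⊗ₜ[k] 1 + 1 ⊗ₜ[k] x) : Coalgebra.counit (R := k) x = 0 := by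
  have h := congrArg (fun z => Coalgebra.counit (R := k) (TensorProduct.lid k A (Coalgebra.counit.rTensor A z))) hx
  simp only [Coalgebra.rTensor_counit_comul, map_add, LinearMap.rTensor_tmul, TensorProduct.lid_tmul, map_smul,
    one_smul, smul_eq_mul, Bialgebra.counit_one] at h
  simpa using h

/-- A nontrivial unipotent group has a nonzero primitive element. -/
theorem exists_primitive {A : Type v} [CommRing A] [Bialgebra k A] (hU : IsUnipotent k A)
    (hA : ∃ a : A, Coalgebra.counit (R := k) a = 0 ∧ a ≠ 0) :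
    ∃ x : A, x ≠ 0 ∧ Coalgebra.comul (R := k) x = x ⊗ₜ[k] 1 + 1 ⊗ₜ[k] x := by
  obtain ⟨a, ha0, ha⟩ := hA
  have h1 : ¬ soc k A A 2 ≤ soc k A A 1 := by
    intro hle
    have hst : ∀ n, soc k A A (n + 1) ≤ soc k A A 1 := by
      intro n
      induction n with
      | zero => exact le_rfl
      | succ n ih => exact (next_mono ih).trans hle
    obtain ⟨n, hn⟩ := exists_mem_soc hU a
    have ha1 := hst n (soc_mono (Nat.le_succ n) hn)
    rw [soc_regular_one, Submodule.mem_span_singleton] at ha1
    obtain ⟨c, rfl⟩ := ha1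
    rw [map_smul, Bialgebra.counit_one, smul_eq_mul, mul_one] at ha0
    exact ha (by rw [ha0, zero_smul])
  obtain ⟨x, hx2, hx1⟩ := SetLike.not_le_iff_exists.1 h1
  obtain ⟨y, hy⟩ := (mem_next (A := A)).mp hx2
  obtain ⟨b, hb⟩ : ∃ b : A, Coalgebra.comul (R := k) x - x ⊗ₜ[k] (1 : A) = (1 : A) ⊗ₜ[k] b := by
    change ∃ b, HopfRep.Comod.coact (k := k) (A := A) x - x ⊗ₜ[k] (1 : A) = _
    rw [← hy]
    clear hy
    induction y using TensorProduct.induction_on with
    | zero => exact ⟨0, by simp⟩
    | tmul u c =>
      obtain ⟨r, hr⟩ : ∃ r : k, r • (1 : A) = (u : A) :=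
        Submodule.mem_span_singleton.1 (soc_regular_one (k := k) (A := A) ▸ u.2)
      exact ⟨r • c, by rw [LinearMap.rTensor_tmul, Submodule.subtype_apply, ← hr, TensorProduct.smul_tmul]⟩
    | add u w hu hw =>
      obtain ⟨b, hb⟩ := hu
      obtain ⟨c, hc⟩ := hw
      exact ⟨b + c, by rw [map_add, hb, hc, TensorProduct.tmul_add]⟩
  have hb' : b = x - Coalgebra.counit (R := k) x • 1 := by
    have h := congrArg (fun z => TensorProduct.lid k A (Coalgebra.counit.rTensor A z)) hb
    simp only [map_sub, Coalgebra.rTensor_counit_comul, LinearMap.rTensor_tmul, TensorProduct.lid_tmul,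
      Bialgebra.counit_one, one_smul] at h
    exact h.symm
  refine ⟨b, fun h0 => hx1 ?_, ?_⟩
  · rw [soc_regular_one, Submodule.mem_span_singleton]
    exact ⟨Coalgebra.counit (R := k) x, by rw [h0] at hb'; exact (sub_eq_zero.1 hb'.symm).symm⟩
  · have hc := sub_eq_iff_eq_add'.1 hb
    conv_lhs => rw [hb', map_sub, map_smul, Bialgebra.comul_one, hc, Algebra.TensorProduct.one_def]
    rw [hb', TensorProduct.sub_tmul, ← TensorProduct.smul_tmul']
    abel

theorem isUnipotent_symmetricAlgebra : IsUnipotent k (SymmetricAlgebra k k) := by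
  refine isUnipotent_of_forall_mem_soc fun a => ?_
  have hι : ∀ n, ∀ b ∈ soc k (SymmetricAlgebra k k) (SymmetricAlgebra k k) n,
      b * SymmetricAlgebra.ι k k 1 ∈ soc k (SymmetricAlgebra k k) (SymmetricAlgebra k k) (n + 1) := by
    intro n
    induction n with
    | zero => intro b hb; rw [(Submodule.mem_bot k).1 hb, zero_mul]; exact zero_mem _
    | succ n ih =>
      intro b hb
      refine (mem_next (A := SymmetricAlgebra k k)).mpr ?_
      obtain ⟨y, hy⟩ := (mem_next (A := SymmetricAlgebra k k)).mp hb
      change Coalgebra.comul (R := k) (b * _) - _ ∈ _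
      change _ = Coalgebra.comul (R := k) b - b ⊗ₜ[k] 1 at hy
      set x := SymmetricAlgebra.ι k k (1 : k)
      have hΔ : Coalgebra.comul (R := k) (b * x) - (b * x) ⊗ₜ[k] 1 =
          (Coalgebra.comul (R := k) b - b ⊗ₜ[k] 1) * (x ⊗ₜ[k] 1) +
            ((Coalgebra.comul (R := k) b - b ⊗ₜ[k] 1) * (1 ⊗ₜ[k] x) + b ⊗ₜ[k] x) := by
        rw [Bialgebra.comul_mul, SymmetricAlgebra.comul_ι, mul_add, sub_mul, sub_mul]
        simp only [Algebra.TensorProduct.tmul_mul_tmul, one_mul, mul_one]
        abel
      rw [hΔ, ← hy]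
      refine add_mem ?_ (add_mem ?_ (tmul_mem_range hb x))
      · clear hy
        induction y using TensorProduct.induction_on with
        | zero => simp
        | tmul u c =>
          rw [LinearMap.rTensor_tmul, Algebra.TensorProduct.tmul_mul_tmul, mul_one]
          exact tmul_mem_range (ih u u.2) c
        | add u w hu hw => rw [map_add, add_mul]; exact add_mem hu hw
      · clear hy
        induction y using TensorProduct.induction_on with
        | zero => simp
        | tmul u c =>
          rw [LinearMap.rTensor_tmul, Algebra.TensorProduct.tmul_mul_tmul, mul_one]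
          exact tmul_mem_range (soc_mono (Nat.le_succ n) u.2) _
        | add u w hu hw => rw [map_add, add_mul]; exact add_mem hu hw
  have key : ∀ a : SymmetricAlgebra k k, ∀ n, ∀ b ∈ soc k (SymmetricAlgebra k k) (SymmetricAlgebra k k) n,
      ∃ m, b * a ∈ soc k (SymmetricAlgebra k k) (SymmetricAlgebra k k) m := by
    intro a
    induction a using SymmetricAlgebra.induction with
    | algebraMap r =>
      intro n b hb
      exact ⟨n, by rw [mul_comm, ← Algebra.smul_def]; exact Submodule.smul_mem _ _ hb⟩
    | ι r =>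
      intro n b hb
      refine ⟨n + 1, ?_⟩
      rw [show r = r • (1 : k) by simp, map_smul, mul_smul_comm]
      exact Submodule.smul_mem _ _ (hι n b hb)
    | mul c d hc hd =>
      intro n b hb
      obtain ⟨m, hm⟩ := hc n b hb
      rw [← mul_assoc]
      exact hd m _ hm
    | add c d hc hd =>
      intro n b hb
      obtain ⟨m, hm⟩ := hc n b hb
      obtain ⟨m', hm'⟩ := hd n b hb
      exact ⟨max m m', by
        rw [mul_add]
        exact add_mem (soc_mono (le_max_left _ _) hm) (soc_mono (le_max_right _ _) hm')⟩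
  obtain ⟨m, hm⟩ := key a 1 1 (by rw [soc_regular_one]; exact Submodule.mem_span_singleton_self 1)
  exact ⟨m, by rwa [one_mul] at hm⟩

/-- If `x` is primitive and the group `x = 0` is unipotent then the group is unipotent. -/
theorem exists_kernel_of_primitive {A : Type u} [CommRing A] [HopfAlgebra k A] [Algebra.FiniteType k A] {x : A}
    (hx : Coalgebra.comul (R := k) x = x ⊗ₜ[k] 1 + 1 ⊗ₜ[k] x) :
    ∃ (J : Ideal A) (_ : J.IsHopfIdeal k), x ∈ J ∧ (IsUnipotent k (A ⧸ J) → IsUnipotent k A) := by
  have hε := counit_of_primitive hx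
  let f : SymmetricAlgebra k k →ₐ[k] A := SymmetricAlgebra.lift (LinearMap.toSpanSingleton k A x)
  have hf : f (SymmetricAlgebra.ι k k 1) = x := by simp [f]
  let φ : SymmetricAlgebra k k →ₐc[k] A := BialgHom.ofAlgHom f
    (SymmetricAlgebra.algHom_ext (LinearMap.ext_ring (by
      change Coalgebra.counit (R := k) (f (SymmetricAlgebra.ι k k 1)) =
        Coalgebra.counit (R := k) (SymmetricAlgebra.ι k k (1 : k))
      rw [hf, hε, SymmetricAlgebra.counit_ι])))
    (SymmetricAlgebra.algHom_ext (LinearMap.ext_ring (by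
      change Algebra.TensorProduct.map f f (Coalgebra.comul (R := k) (SymmetricAlgebra.ι k k (1 : k))) =
        Coalgebra.comul (R := k) (f (SymmetricAlgebra.ι k k 1))
      rw [SymmetricAlgebra.comul_ι, map_add, Algebra.TensorProduct.map_tmul, Algebra.TensorProduct.map_tmul,
        hf, map_one, hx])))
  haveI hJ : (GrothLib.Hopf.kerIdeal k φ).IsHopfIdeal k := GrothLib.Hopf.FiniteRank.isHopfIdeal_kerIdeal φ
  refine ⟨GrothLib.Hopf.kerIdeal k φ, hJ, ?_, fun hN => ?_⟩
  · rw [← hf]
    exact Ideal.mem_map_of_mem _ (SymmetricAlgebra.counit_ι k k 1)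
  haveI : Algebra.FiniteType k (SymmetricAlgebra k k) := Algebra.FiniteType.of_surjective
    (Polynomial.aeval (R := k) (SymmetricAlgebra.ι k k (1 : k))) (by
      intro y
      induction y using SymmetricAlgebra.induction with
      | algebraMap r => exact ⟨Polynomial.C r, Polynomial.aeval_C _ _⟩
      | ι r =>
        refine ⟨Polynomial.C r * Polynomial.X, ?_⟩
        rw [map_mul, Polynomial.aeval_C, Polynomial.aeval_X, ← Algebra.smul_def, ← map_smul, smul_eq_mul, mul_one]
      | mul c d hc hd =>
        obtain ⟨c', rfl⟩ := hc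
        obtain ⟨d', rfl⟩ := hd
        exact ⟨c' * d', map_mul _ _ _⟩
      | add c d hc hd =>
        obtain ⟨c', rfl⟩ := hc
        obtain ⟨d', rfl⟩ := hd
        exact ⟨c' + d', map_add _ _ _⟩)
  let K := RingHom.ker (φ : SymmetricAlgebra k k →ₐ[k] A)
  haveI hK : K.IsHopfIdeal k :=
    { counit_eq_zero := fun y hy => by
        rw [← CoalgHomClass.counit_comp_apply φ y, show φ y = 0 from hy, map_zero]
      map_mkQ_comul_eq_zero := fun y hy => by
        let ψ : SymmetricAlgebra k k ⧸ K →ₐ[k] A := Ideal.kerLiftAlg (φ : SymmetricAlgebra k k →ₐ[k] A)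
        have hψ : Function.Injective ψ := Ideal.kerLiftAlg_injective _
        have hψ2 : Function.Injective (TensorProduct.map ψ.toLinearMap ψ.toLinearMap) := by
          rw [← LinearMap.lTensor_comp_rTensor]
          exact (Module.Flat.lTensor_preserves_injective_linearMap _ hψ).comp
            (Module.Flat.rTensor_preserves_injective_linearMap _ hψ)
        have hψ3 : Function.Injective (Algebra.TensorProduct.map ψ ψ) := hψ2
        show Algebra.TensorProduct.map (Ideal.Quotient.mkₐ k K) (Ideal.Quotient.mkₐ k K)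
          (Coalgebra.comul (R := k) y) = 0
        refine hψ3 ?_
        rw [map_zero]
        refine Eq.trans ?_ ((CoalgHomClass.map_comp_comul_apply φ y).trans (by rw [show φ y = 0 from hy, map_zero]))
        generalize Coalgebra.comul (R := k) y = z
        induction z using TensorProduct.induction_on with
        | zero => simp
        | tmul a b => rfl
        | add a b ha hb => simp only [map_add, ha, hb]
      antipode_mem := fun y hy => by
        show φ (HopfAlgebraStruct.antipode k y) = 0
        rw [← GrothLib.HopfAG.bialgHom_antipode, show φ y = 0 from hy, map_zero] }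
  let ψ : SymmetricAlgebra k k ⧸ K →ₐc[k] A := BialgHom.ofAlgHom (Ideal.kerLiftAlg (φ : SymmetricAlgebra k k →ₐ[k] A))
    (Ideal.Quotient.algHom_ext k (AlgHom.ext fun y => CoalgHomClass.counit_comp_apply φ y))
    (Ideal.Quotient.algHom_ext k (AlgHom.ext fun y => by
      refine Eq.trans ?_ (CoalgHomClass.map_comp_comul_apply φ y)
      change Algebra.TensorProduct.map _ _ (Algebra.TensorProduct.map (Ideal.Quotient.mkₐ k K)
        (Ideal.Quotient.mkₐ k K) (Coalgebra.comul (R := k) y)) = _
      generalize Coalgebra.comul (R := k) y = z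
      induction z using TensorProduct.induction_on with
      | zero => simp
      | tmul a b => rfl
      | add a b ha hb => simp only [map_add, ha, hb]))
  have hψinj : Function.Injective ψ := Ideal.kerLiftAlg_injective _
  refine isUnipotent_of_extension ψ (GrothLib.Hopf.kerIdeal k φ) hψinj (le_antisymm ?_ ?_)
    (isUnipotent_of_surjective' (Bialgebra.Quotient.mkBialgHom K) Ideal.Quotient.mk_surjective
      isUnipotent_symmetricAlgebra) hN
  · refine Ideal.map_le_iff_le_comap.2 fun y hy => ?_
    exact Ideal.mem_map_of_mem (ψ : SymmetricAlgebra k k ⧸ K →+* A) (x := Ideal.Quotient.mk K y) hy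
  · refine Ideal.map_le_iff_le_comap.2 fun y hy => ?_
    obtain ⟨z, rfl⟩ := Ideal.Quotient.mk_surjective y
    exact Ideal.mem_map_of_mem (φ : SymmetricAlgebra k k →+* A) (x := z) hy

theorem isUnipotent_iff_quotient_has_primitive {A : Type v} [CommRing A] [HopfAlgebra k A]
    [Algebra.FiniteType k A] :
    IsUnipotent k A ↔
      ∀ (I : Ideal A) [I.IsHopfIdeal k], I ≠ RingHom.ker (Bialgebra.counitAlgHom k A) →
        ∃ x : A ⧸ I, x ≠ 0 ∧
          CoalgebraStruct.comul (R := k) x = x ⊗ₜ[k] (1 : A ⧸ I) + (1 : A ⧸ I) ⊗ₜ[k] x := by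
  constructor
  · intro hU I hI hne
    refine exists_primitive (isUnipotent_of_surjective' (Bialgebra.Quotient.mkBialgHom I)
      Ideal.Quotient.mk_surjective hU) ?_
    have hle : I ≤ RingHom.ker (Bialgebra.counitAlgHom k A) := fun y hy => hI.counit_eq_zero hy
    obtain ⟨a, ha, haI⟩ := SetLike.not_le_iff_exists.1 fun h => hne (le_antisymm hle h)
    exact ⟨Ideal.Quotient.mk I a, ha, fun h0 => haI (Ideal.Quotient.eq_zero_iff_mem.1 h0)⟩
  · intro h
    haveI : IsNoetherianRing A := Algebra.FiniteType.isNoetherianRing k A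
    haveI hbot : (⊥ : Ideal A).IsHopfIdeal k :=
      { counit_eq_zero := fun x hx => by rw [(show x = 0 from hx), map_zero]
        map_mkQ_comul_eq_zero := fun x hx => by rw [(show x = 0 from hx), map_zero, map_zero]
        antipode_mem := fun x hx => by rw [(show x = 0 from hx), map_zero]; exact zero_mem _ }
    suffices hall : ∀ (I : Ideal A) (_ : I.IsHopfIdeal k), IsUnipotent k (A ⧸ I) by
      have := hall ⊥ hbot
      refine isUnipotent_of_forall_mem_soc fun a => ?_
      obtain ⟨n, hn⟩ := exists_mem_soc this (Bialgebra.Quotient.mkBialgHom (R := k) (⊥ : Ideal A) a)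
      exact ⟨n, comap_soc _ (fun a b hab => by
        have := Ideal.Quotient.eq.1 hab
        exact sub_eq_zero.1 this) n a hn⟩
    intro I
    induction I using WellFoundedGT.induction with
    | _ I ih =>
      intro hI
      by_cases hne : I = RingHom.ker (Bialgebra.counitAlgHom k A)
      · subst hne
        refine isUnipotent_of_forall_mem_soc fun a => ⟨1, ?_⟩
        rw [soc_regular_one, Submodule.mem_span_singleton]
        obtain ⟨a, rfl⟩ := Ideal.Quotient.mk_surjective a
        refine ⟨Coalgebra.counit (R := k) a, ?_⟩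
        rw [← Algebra.algebraMap_eq_smul_one, IsScalarTower.algebraMap_apply k A, Ideal.Quotient.algebraMap_eq]
        refine Ideal.Quotient.eq.2 ?_
        rw [RingHom.mem_ker, map_sub, AlgHom.commutes]
        simp
      obtain ⟨x, hx0, hx⟩ := h I hne
      haveI : Algebra.FiniteType k (A ⧸ I) :=
        Algebra.FiniteType.of_surjective (Ideal.Quotient.mkₐ k I) (Ideal.Quotient.mkₐ_surjective k I)
      obtain ⟨B, _, _, e, hB⟩ := GrothLib.HopfAG.exists_model k (A ⧸ I)
      haveI := hB
      have hx' : Coalgebra.comul (R := k) (e.symm x) = e.symm x ⊗ₜ[k] 1 + 1 ⊗ₜ[k] e.symm x := by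
        rw [← CoalgHomClass.map_comp_comul_apply e.symm x, hx, map_add]
        change e.symm x ⊗ₜ[k] e.symm (1 : A ⧸ I) + e.symm (1 : A ⧸ I) ⊗ₜ[k] e.symm x = _
        rw [map_one]
      obtain ⟨J, hJ, hxJ, hJU⟩ := exists_kernel_of_primitive hx'
      let q : A →ₐc[k] B ⧸ J := (Bialgebra.Quotient.mkBialgHom J).comp
        ((e.symm : A ⧸ I →ₐc[k] B).comp (Bialgebra.Quotient.mkBialgHom I))
      have hq : Function.Surjective q :=
        Ideal.Quotient.mk_surjective.comp (e.symm.surjective.comp Ideal.Quotient.mk_surjective)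
      have hlt : I < RingHom.ker (q : A →ₐ[k] B ⧸ J) := by
        obtain ⟨a, rfl⟩ := Ideal.Quotient.mk_surjective x
        refine lt_of_le_of_ne (fun y hy => ?_) fun heq => hx0 (Ideal.Quotient.eq_zero_iff_mem.2 ?_)
        · change Ideal.Quotient.mk J (e.symm (Ideal.Quotient.mk I y)) = 0
          rw [Ideal.Quotient.eq_zero_iff_mem.2 hy, map_zero, map_zero]
        · rw [heq]
          exact Ideal.Quotient.eq_zero_iff_mem.2 hxJ
      haveI hK := isHopfIdeal_ker' q hq
      have hU := ih _ hlt hK
      let r : A ⧸ RingHom.ker (q : A →ₐ[k] B ⧸ J) →ₐc[k] B ⧸ J :=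
        BialgHom.ofAlgHom (Ideal.kerLiftAlg (q : A →ₐ[k] B ⧸ J))
          (Ideal.Quotient.algHom_ext k (AlgHom.ext fun y => CoalgHomClass.counit_comp_apply q y))
          (Ideal.Quotient.algHom_ext k (AlgHom.ext fun y => by
            refine Eq.trans ?_ (CoalgHomClass.map_comp_comul_apply q y)
            change Algebra.TensorProduct.map _ _ (Algebra.TensorProduct.map (Ideal.Quotient.mkₐ k _)
              (Ideal.Quotient.mkₐ k _) (Coalgebra.comul (R := k) y)) = _
            generalize Coalgebra.comul (R := k) y = z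
            induction z using TensorProduct.induction_on with
            | zero => simp
            | tmul a b => rfl
            | add a b ha hb => simp only [map_add, ha, hb]))
      have hr : Function.Surjective r := fun z => by
        obtain ⟨a, rfl⟩ := hq z
        exact ⟨Ideal.Quotient.mk _ a, rfl⟩
      exact isUnipotent_of_surjective' (e : B →ₐc[k] A ⧸ I) e.surjective
        (hJU (isUnipotent_of_surjective' r hr hU))

end GrothLib.Unip
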