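import Groth.Agent.Lib.HopfAG.Unip
import Groth.Agent.Lib.HopfAG.FF
import Groth.Agent.Lib.Comod.Along
import Groth.Agent.Lib.Hopf.Galois
import Mathlib.RingTheory.Bialgebra.TensorProduct
import Mathlib.RingTheory.Bialgebra.Quotient
import Mathlib.RingTheory.HopfAlgebra.Quotient
import Mathlib.RingTheory.HopfAlgebra.Convolution
import Mathlib.RingTheory.Flat.Basic

/-!
# Unipotent groups: subgroups, quotients, extensions, base change
-/

universe u v v'

set_option linter.style.haveILetI false

open TensorProduct HopfRep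

namespace GrothLib.Unip

variable {k : Type u} [Field k] {A : Type v} [CommRing A] [Bialgebra k A] {B : Type v'} [CommRing B]
  [Bialgebra k B]

/-- A bialgebra is unipotent as soon as the socle filtration exhausts it. -/
theorem isUnipotent_of_forall_mem_soc (h : ∀ a : A, ∃ n, a ∈ soc k A A n) : IsUnipotent k A :=
  isUnipotent_of_filtration (fun r => soc k A A (r + 1)) (fun _ _ h => soc_mono (Nat.succ_le_succ h))
    soc_regular_one
    (eq_top_iff.mpr fun a _ => Submodule.mem_iSup_of_mem (h a).choose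
      (soc_mono (Nat.le_succ _) (h a).choose_spec))
    fun r => by rintro _ ⟨a, ha, rfl⟩; exact comul_mem_soc r ha

theorem dev_bialgHom (φ : A →ₐc[k] B) (a : A) :
    dev B (φ a) = TensorProduct.map (φ : A →ₐ[k] B).toLinearMap (φ : A →ₐ[k] B).toLinearMap (dev A a) := by
  rw [dev_apply, dev_apply, map_sub]
  change Coalgebra.comul (R := k) (φ a) - _ = _
  rw [← CoalgHomClass.map_comp_comul_apply φ a]
  simp only [TensorProduct.map_tmul, AlgHom.toLinearMap_apply, map_one]
  rfl

theorem map_soc (φ : A →ₐc[k] B) : ∀ n, ∀ a ∈ soc k A A n, φ a ∈ soc k B B n := by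
  intro n
  induction n with
  | zero => intro a ha; rw [(Submodule.mem_bot k).mp ha, map_zero]; exact zero_mem _
  | succ n ih =>
    intro a ha
    refine (mem_next (A := B)).mpr ?_
    rw [← dev_apply, dev_bialgHom]
    obtain ⟨y, hy⟩ := (mem_next (A := A)).mp ha
    rw [dev_apply, ← hy]
    refine ⟨TensorProduct.map ((φ : A →ₐ[k] B).toLinearMap.restrict ih) (φ : A →ₐ[k] B).toLinearMap y, ?_⟩
    rw [LinearMap.rTensor, LinearMap.rTensor, ← LinearMap.comp_apply, ← TensorProduct.map_comp,
      ← LinearMap.comp_apply, ← TensorProduct.map_comp]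
    rfl

theorem comap_soc (φ : A →ₐc[k] B) (hφ : Function.Injective φ) :
    ∀ n, ∀ a, φ a ∈ soc k B B n → a ∈ soc k A A n := by
  intro n
  induction n with
  | zero =>
    intro a ha
    rw [soc_zero, Submodule.mem_bot] at ha ⊢
    exact hφ (ha.trans (map_zero φ).symm)
  | succ n ih =>
    intro a ha
    refine (mem_next (A := A)).mpr ?_
    rw [← dev_apply]
    refine ((rTensor_exact A (LinearMap.exact_subtype_mkQ (soc k A A n)) (Submodule.mkQ_surjective _)) _).mp ?_
    set q : A →ₗ[k] B ⧸ soc k B B n := (soc k B B n).mkQ ∘ₗ (φ : A →ₐ[k] B).toLinearMap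
    have hker : LinearMap.ker q = soc k A A n := by
      ext x
      rw [LinearMap.mem_ker, LinearMap.comp_apply, Submodule.mkQ_apply, Submodule.Quotient.mk_eq_zero]
      exact ⟨ih x, map_soc φ n x⟩
    let j : A ⧸ soc k A A n →ₗ[k] B ⧸ soc k B B n := (soc k A A n).liftQ q hker.ge
    have hj : Function.Injective j := LinearMap.ker_eq_bot.mp (Submodule.ker_liftQ_eq_bot' _ _ hker.symm)
    have hinj : Function.Injective (TensorProduct.map j (φ : A →ₐ[k] B).toLinearMap) := by
      rw [← LinearMap.lTensor_comp_rTensor]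
      exact (Module.Flat.lTensor_preserves_injective_linearMap _ hφ).comp
        (Module.Flat.rTensor_preserves_injective_linearMap _ hj)
    refine hinj ?_
    rw [map_zero, LinearMap.rTensor, ← LinearMap.comp_apply, ← TensorProduct.map_comp, LinearMap.comp_id,
      Submodule.liftQ_mkQ]
    obtain ⟨y, hy⟩ := (mem_next (A := B)).mp ha
    have h0 : (soc k B B n).mkQ.rTensor B (dev B (φ a)) = 0 := by
      rw [dev_apply, ← hy, ← LinearMap.comp_apply, ← LinearMap.rTensor_comp,
        show (soc k B B n).mkQ ∘ₗ (soc k B B n).subtype = 0 from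
          LinearMap.ext fun z => (Submodule.Quotient.mk_eq_zero _).mpr z.2, LinearMap.rTensor_zero]
      rfl
    rw [dev_bialgHom, LinearMap.rTensor, ← LinearMap.comp_apply, ← TensorProduct.map_comp,
      LinearMap.id_comp] at h0
    exact h0

theorem isUnipotent_of_surjective {A B : Type v} [CommRing A] [CommRing B] [Bialgebra k A] [Bialgebra k B]
    (φ : A →ₐc[k] B) (hφ : Function.Surjective φ) (hU : IsUnipotent k A) : IsUnipotent k B :=
  isUnipotent_of_forall_mem_soc fun b => by
    obtain ⟨a, rfl⟩ := hφ b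
    obtain ⟨n, hn⟩ := exists_mem_soc hU a
    exact ⟨n, map_soc φ n a hn⟩

theorem isUnipotent_of_injective {A B : Type v} [CommRing A] [CommRing B] [Bialgebra k A] [Bialgebra k B]
    (φ : A →ₐc[k] B) (hφ : Function.Injective φ) (hU : IsUnipotent k B) : IsUnipotent k A :=
  isUnipotent_of_forall_mem_soc fun a => by
    obtain ⟨n, hn⟩ := exists_mem_soc hU (φ a)
    exact ⟨n, comap_soc φ hφ n a hn⟩

section BaseChange

variable (K : Type*) [Field K] [Algebra k K]

theorem dev_one_tmul (a : A) :
    dev (K ⊗[k] A) ((1 : K) ⊗ₜ[k] a) =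
      TensorProduct.AlgebraTensorModule.tensorTensorTensorComm k K k K K K A A
        (((1 : K) ⊗ₜ[K] (1 : K)) ⊗ₜ[k] dev A a) := by
  rw [dev_apply, dev_apply, TensorProduct.tmul_sub, map_sub]
  congr 1

theorem one_tmul_mem_soc : ∀ n, ∀ a ∈ soc k A A n, (1 : K) ⊗ₜ[k] a ∈ soc K (K ⊗[k] A) (K ⊗[k] A) n := by
  intro n
  induction n with
  | zero => intro a ha; rw [(Submodule.mem_bot k).mp ha, TensorProduct.tmul_zero]; exact zero_mem _
  | succ n ih =>
    intro a ha
    refine (mem_next (A := K ⊗[k] A)).mpr ?_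
    rw [← dev_apply, dev_one_tmul]
    obtain ⟨y, hy⟩ := (mem_next (A := A)).mp ha
    rw [dev_apply, ← hy]
    clear hy
    induction y using TensorProduct.induction_on with
    | zero => simp
    | tmul p q =>
      rw [LinearMap.rTensor_tmul, TensorProduct.AlgebraTensorModule.tensorTensorTensorComm_tmul]
      exact tmul_mem_range (ih _ p.2) _
    | add p q hp hq => rw [map_add, TensorProduct.tmul_add, map_add]; exact add_mem hp hq

theorem soc_baseChange_le : ∀ n, soc K (K ⊗[k] A) (K ⊗[k] A) n ≤
    LinearMap.ker ((soc k A A n).mkQ.baseChange K) := by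
  intro n
  induction n with
  | zero => rw [soc_zero]; exact bot_le
  | succ n ih =>
    intro z hz
    set f : A →ₗ[k] (A ⧸ soc k A A n) ⊗[k] A := (soc k A A n).mkQ.rTensor A ∘ₗ dev A
    have hker : LinearMap.ker f = soc k A A (n + 1) := by
      ext a
      rw [LinearMap.mem_ker, LinearMap.comp_apply]
      exact (rTensor_exact A (LinearMap.exact_subtype_mkQ (soc k A A n)) (Submodule.mkQ_surjective _)) _
    let Ψ : (K ⊗[k] A) ⊗[K] (K ⊗[k] A) →ₗ[K] (K ⊗[k] (A ⧸ soc k A A n)) ⊗[K] (K ⊗[k] A) :=
      ((soc k A A n).mkQ.baseChange K).rTensor _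
    have h0 : Ψ (dev (K ⊗[k] A) z) = 0 := by
      obtain ⟨y, hy⟩ := (mem_next (A := K ⊗[k] A)).mp hz
      rw [dev_apply, ← hy, ← LinearMap.comp_apply, ← LinearMap.rTensor_comp,
        show ((soc k A A n).mkQ.baseChange K) ∘ₗ (soc K (K ⊗[k] A) (K ⊗[k] A) n).subtype = 0 from
          LinearMap.ext fun w => ih w.2, LinearMap.rTensor_zero]
      rfl
    let J : K ⊗[k] ((A ⧸ soc k A A n) ⊗[k] A) ≃ₗ[K] (K ⊗[k] (A ⧸ soc k A A n)) ⊗[K] (K ⊗[k] A) :=
      TensorProduct.AlgebraTensorModule.distribBaseChange k K (A ⧸ soc k A A n) A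
    have hJ : Ψ (dev (K ⊗[k] A) z) = J (f.baseChange K z) := by
      clear hz h0
      induction z using TensorProduct.induction_on with
      | zero => simp
      | tmul c a =>
        have hc : c ⊗ₜ[k] a = c • ((1 : K) ⊗ₜ[k] a) := by rw [TensorProduct.smul_tmul', smul_eq_mul, mul_one]
        rw [hc, map_smul, map_smul, map_smul, map_smul]
        congr 1
        rw [dev_one_tmul, LinearMap.baseChange_tmul, LinearMap.comp_apply]
        induction dev (k := k) A a using TensorProduct.induction_on with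
        | zero => simp
        | tmul p q => simp [Ψ, J, TensorProduct.AlgebraTensorModule.distribBaseChange]
        | add p q hp hq => simp only [TensorProduct.tmul_add, map_add, hp, hq]
      | add x y hx hy => simp only [map_add, hx, hy]
    rw [hJ, LinearEquiv.map_eq_zero_iff] at h0
    rw [LinearMap.mem_ker]
    obtain ⟨y, rfl⟩ := (Module.Flat.lTensor_exact K (LinearMap.exact_subtype_ker_map f) z).mp h0
    rw [LinearMap.baseChange_eq_ltensor, ← LinearMap.comp_apply, ← LinearMap.lTensor_comp,
      show (soc k A A (n + 1)).mkQ ∘ₗ (LinearMap.ker f).subtype = 0 from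
        LinearMap.ext fun w => (Submodule.Quotient.mk_eq_zero _).mpr (hker ▸ w.2), LinearMap.lTensor_zero]
    rfl

end BaseChange

theorem isUnipotent_baseChange_iff {k K A : Type u} [Field k] [Field K] [Algebra k K] [CommRing A]
    [Bialgebra k A] : IsUnipotent k A ↔ IsUnipotent K (K ⊗[k] A) := by
  refine ⟨fun hU => isUnipotent_of_forall_mem_soc fun z => ?_, fun hU => isUnipotent_of_forall_mem_soc fun a => ?_⟩
  · induction z using TensorProduct.induction_on with
    | zero => exact ⟨0, zero_mem _⟩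
    | tmul c a =>
      obtain ⟨n, hn⟩ := exists_mem_soc hU a
      refine ⟨n, ?_⟩
      have hc : c ⊗ₜ[k] a = c • ((1 : K) ⊗ₜ[k] a) := by rw [TensorProduct.smul_tmul', smul_eq_mul, mul_one]
      rw [hc]
      exact Submodule.smul_mem _ _ (one_tmul_mem_soc K n a hn)
    | add x y hx hy =>
      obtain ⟨n, hn⟩ := hx
      obtain ⟨m, hm⟩ := hy
      exact ⟨max n m, add_mem (soc_mono (le_max_left _ _) hn) (soc_mono (le_max_right _ _) hm)⟩
  · obtain ⟨n, hn⟩ := exists_mem_soc hU ((1 : K) ⊗ₜ[k] a)
    refine ⟨n, (Submodule.Quotient.mk_eq_zero _).mp ?_⟩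
    have h := soc_baseChange_le K n hn
    rw [LinearMap.mem_ker, LinearMap.baseChange_tmul] at h
    exact Module.Flat.tensorProduct_mk_injective (R := k) (S := K) (M := A ⧸ soc k A A n)
      (h.trans (map_zero ((TensorProduct.mk k K (A ⧸ soc k A A n)) 1)).symm)

section Extension

variable {k A C : Type u} [Field k] [CommRing A] [HopfAlgebra k A] [CommRing C] [HopfAlgebra k C]
  [Algebra.FiniteType k A] [Algebra.FiniteType k C]

/-- Right invariant functions of the kernel of an injective map come from the source. -/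
theorem mem_range_of_map_comul_eq (ψ : C →ₐc[k] A) (hψ : Function.Injective ψ) {a : A}
    (ha : (Ideal.Quotient.mkₐ k (GrothLib.Hopf.kerIdeal k ψ)).toLinearMap.lTensor A
      (Coalgebra.comul (R := k) a) = a ⊗ₜ[k] 1) : ∃ c, ψ c = a := by
  letI := (ψ : C →+* A).toAlgebra
  haveI : IsScalarTower k C A :=
    IsScalarTower.of_algebraMap_eq fun r => ((ψ : C →ₐ[k] A).commutes r).symm
  haveI : Module.FaithfullyFlat C A := GrothLib.Hopf.faithfullyFlat ψ (fun _ => rfl) hψ
  let x : A →ₐ[k] A ⊗[C] A := Algebra.TensorProduct.includeLeft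
  let y : A →ₐ[k] A ⊗[C] A :=
    (Algebra.TensorProduct.includeRight (R := C) (A := A) (B := A)).restrictScalars k
  set g : WithConv (A →ₐ[k] A ⊗[C] A) := GrothLib.Hopf.pinv (WithConv.toConv x) * WithConv.toConv y with hgdef
  have hxy : x.comp (ψ : C →ₐ[k] A) = y.comp (ψ : C →ₐ[k] A) := by
    ext c
    change (algebraMap C A c) ⊗ₜ[C] (1 : A) = (1 : A) ⊗ₜ[C] algebraMap C A c
    rw [Algebra.algebraMap_eq_smul_one, TensorProduct.smul_tmul]
  have hg : ∀ b ∈ GrothLib.Hopf.kerIdeal k ψ, g.ofConv b = 0 := by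
    have h1 : WithConv.toConv (g.ofConv.comp (ψ : C →ₐ[k] A)) = 1 := by
      rw [GrothLib.Hopf.convMul_comp_bialgHom ψ, WithConv.ofConv_toConv, ← hxy]
      refine (GrothLib.Hopf.convMul_comp_bialgHom ψ _ (WithConv.toConv x)).symm.trans ?_
      rw [GrothLib.Hopf.pinv_mul, GrothLib.Hopf.convOne_comp_bialgHom]
    change GrothLib.Hopf.kerIdeal k ψ ≤ RingHom.ker g.ofConv
    rw [GrothLib.Hopf.kerIdeal, Ideal.map_le_iff_le_comap]
    intro c hc
    rw [Ideal.mem_comap, RingHom.mem_ker]
    refine (DFunLike.congr_fun (congrArg WithConv.ofConv h1) c).trans ?_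
    change algebraMap k _ (Coalgebra.counit (R := k) c) = 0
    rw [show Coalgebra.counit (R := k) c = 0 from hc, map_zero]
  let gb := Ideal.Quotient.liftₐ _ g.ofConv hg
  have he : (1 : A) ⊗ₜ[C] a = a ⊗ₜ[C] (1 : A) := by
    have h1 : WithConv.toConv x * g = WithConv.toConv y := by
      rw [hgdef, ← mul_assoc, GrothLib.Hopf.mul_pinv, one_mul]
    have h2 := congrArg (fun f : WithConv (A →ₐ[k] A ⊗[C] A) => f.ofConv a) h1
    change _ = y a at h2
    change y a = x a
    rw [← h2]
    refine (AlgHom.convMul_apply _ _ a).trans ?_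
    have e : ∀ t : A ⊗[k] A, Algebra.TensorProduct.lift x g.ofConv (fun _ _ => .all _ _) t =
        Algebra.TensorProduct.lift x gb (fun _ _ => .all _ _)
          ((Ideal.Quotient.mkₐ k (GrothLib.Hopf.kerIdeal k ψ)).toLinearMap.lTensor A t) := fun t => by
      induction t using TensorProduct.induction_on with
      | zero => simp
      | tmul p q => simp [gb]
      | add p q hp hq => simp only [map_add, hp, hq]
    refine (e _).trans ?_
    rw [ha]
    simp
  set Q := LinearMap.range (Algebra.linearMap C A)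
  have h2 : (1 : A) ⊗ₜ[C] Q.mkQ a = 0 := by
    have h3 := congrArg (Q.mkQ.lTensor A) he
    rw [LinearMap.lTensor_tmul, LinearMap.lTensor_tmul] at h3
    rw [h3, show Q.mkQ (1 : A) = 0 from (Submodule.Quotient.mk_eq_zero _).mpr ⟨1, map_one (algebraMap C A)⟩,
      TensorProduct.tmul_zero]
  have h4 : Q.mkQ a = 0 :=
    Module.FaithfullyFlat.tensorProduct_mk_injective _ (h2.trans (TensorProduct.tmul_zero _ _).symm)
  obtain ⟨c, hc⟩ := (Submodule.Quotient.mk_eq_zero _).mp h4
  exact ⟨c, hc⟩

theorem isUnipotent_of_extension (ψ : C →ₐc[k] A) (J : Ideal A) [Ideal.IsHopfIdeal k J]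
    (hψ : Function.Injective ψ) (hJ : J = Ideal.map (ψ : C →+* A) (RingHom.ker (Bialgebra.counitAlgHom k C)))
    (hC : IsUnipotent k C) (hN : IsUnipotent k (A ⧸ J)) : IsUnipotent k A := by
  intro V _ _ cV hfin hnt
  let π : A →ₐc[k] A ⧸ J := Bialgebra.Quotient.mkBialgHom J
  let cN : HopfRep.Comod k (A ⧸ J) V := GrothLib.Comodule.pushAlong (V := V) (π : A →ₗc[k] A ⧸ J)
  set W : Submodule k V := @fixedPts k (A ⧸ J) _ _ _ V _ _ cN
  have hW0 : W ≠ ⊥ := @hN V _ _ cN hfin hnt
  have hWmem : ∀ v ∈ W, (Ideal.Quotient.mkₐ k J).toLinearMap.lTensor V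
      (cV.coact v) = v ⊗ₜ[k] (1 : A ⧸ J) := fun v hv => by
    have h : cN.coact v = v ⊗ₜ[k] (1 : A ⧸ J) := hv
    exact h
  have hcf : ∀ v ∈ W, ∀ φ : Module.Dual k V, ∃ c, ψ c = GrothLib.Comodule.cfMap (C := A) φ v := by
    intro v hv φ
    subst hJ
    refine mem_range_of_map_comul_eq ψ hψ ?_
    have h1 := GrothLib.Comodule.IsComodHom.apply (C := A) (GrothLib.Comodule.isComodHom_cfMap φ) v
    change (Ideal.Quotient.mkₐ k _).toLinearMap.lTensor A (HopfRep.Comod.coact (k := k) (A := A)
      (GrothLib.Comodule.cfMap (C := A) φ v)) = _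
    rw [h1, ← LinearMap.comp_apply, LinearMap.lTensor_comp_rTensor, ← LinearMap.rTensor_comp_lTensor,
      LinearMap.comp_apply]
    change (GrothLib.Comodule.cfMap (C := A) φ).rTensor _ ((Ideal.Quotient.mkₐ k _).toLinearMap.lTensor V
      (cV.coact v)) = _
    refine (congrArg _ (hWmem v hv)).trans ?_
    exact LinearMap.rTensor_tmul _ _ _ _
  have hWop : ∀ (f : Module.Dual k A), ∀ v ∈ W, GrothLib.Hopf.Comod.op f v ∈ W := by
    intro f v hv
    have hmem : cV.coact v ∈ LinearMap.range ((ψ : C →ₐ[k] A).toLinearMap.lTensor V) := by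
      set Q := LinearMap.range (ψ : C →ₐ[k] A).toLinearMap
      refine ((lTensor_exact V (LinearMap.exact_map_mkQ_range (ψ : C →ₐ[k] A).toLinearMap)
        (Submodule.mkQ_surjective _)) _).mp (GrothLib.Comodule.ext_dual_left fun φ => ?_)
      have e : ∀ z : V ⊗[k] A, TensorProduct.lid k _ (φ.rTensor _ (Q.mkQ.lTensor V z)) =
          Q.mkQ (TensorProduct.lid k A (φ.rTensor A z)) := fun z => by
        induction z using TensorProduct.induction_on with
        | zero => simp
        | tmul p q => simp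
        | add p q hp hq => simp only [map_add, hp, hq]
      rw [e, map_zero, map_zero]
      exact (Submodule.Quotient.mk_eq_zero _).mpr (hcf v hv φ)
    change (Ideal.Quotient.mkₐ k J).toLinearMap.lTensor V
      (cV.coact (GrothLib.Hopf.Comod.op f v)) = GrothLib.Hopf.Comod.op f v ⊗ₜ[k] (1 : A ⧸ J)
    have e1 : ∀ z : V ⊗[k] A, cV.coact (TensorProduct.rid k V (f.lTensor V z)) =
        LinearMap.lTensor V ((TensorProduct.rid k A).toLinearMap ∘ₗ f.lTensor A)
          (TensorProduct.assoc k V A A (cV.coact.rTensor A z)) := fun z => by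
      induction z using TensorProduct.induction_on with
      | zero => simp
      | tmul a c =>
        rw [LinearMap.lTensor_tmul, TensorProduct.rid_tmul, map_smul, LinearMap.rTensor_tmul]
        induction cV.coact a using TensorProduct.induction_on with
        | zero => simp
        | tmul p q => simp [TensorProduct.smul_tmul']
        | add p q hp hq => simp only [TensorProduct.add_tmul, map_add, smul_add, hp, hq]
      | add a c ha hc => simp only [map_add, ha, hc]
    have hco := LinearMap.congr_fun cV.coassoc v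
    simp only [LinearMap.comp_apply, LinearEquiv.coe_coe] at hco
    change (Ideal.Quotient.mkₐ k J).toLinearMap.lTensor V
      (cV.coact (TensorProduct.rid k V (f.lTensor V (cV.coact v)))) =
      TensorProduct.rid k V (f.lTensor V (cV.coact v)) ⊗ₜ[k] (1 : A ⧸ J)
    rw [e1, hco]
    obtain ⟨y, hy⟩ := hmem
    rw [← hy]
    clear hy hco
    induction y using TensorProduct.induction_on with
    | zero => simp
    | tmul x c =>
      have hT : ∀ c : C, Ideal.Quotient.mkₐ k J
          (TensorProduct.rid k A (f.lTensor A (Coalgebra.comul (R := k) (ψ c)))) =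
          f (ψ c) • (1 : A ⧸ J) := fun c => by
        have hπ : ∀ c : C, Ideal.Quotient.mkₐ k J (ψ c) = Coalgebra.counit (R := k) c • (1 : A ⧸ J) := fun c => by
          have h : ψ (c - algebraMap k C (Coalgebra.counit (R := k) c)) ∈ J := by
            rw [hJ]
            exact Ideal.mem_map_of_mem _ (by simp [RingHom.mem_ker])
          rw [← Ideal.Quotient.eq_zero_iff_mem, map_sub, map_sub, sub_eq_zero] at h
          refine h.trans ?_
          rw [← Algebra.algebraMap_eq_smul_one]
          exact congrArg _ ((ψ : C →ₐ[k] A).commutes _)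
        rw [← CoalgHomClass.map_comp_comul_apply ψ c]
        have e2 : ∀ t : C ⊗[k] C, Ideal.Quotient.mkₐ k J (TensorProduct.rid k A (f.lTensor A
            (TensorProduct.map (ψ : C →ₗ[k] A) (ψ : C →ₗ[k] A) t))) =
            f (ψ (TensorProduct.lid k C (Coalgebra.counit.rTensor C t))) • (1 : A ⧸ J) := fun t => by
          induction t using TensorProduct.induction_on with
          | zero => simp
          | tmul p q =>
            simp only [TensorProduct.map_tmul, LinearMap.lTensor_tmul, TensorProduct.rid_tmul, map_smul]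
            rw [show (ψ : C →ₗ[k] A) p = ψ p from rfl, hπ, LinearMap.rTensor_tmul, TensorProduct.lid_tmul,
              map_smul, map_smul, smul_smul, smul_eq_mul, mul_comm]
            rfl
          | add p q hp hq => simp only [map_add, add_smul, hp, hq]
        rw [e2, Coalgebra.rTensor_counit_comul]
        simp
      simp only [LinearMap.lTensor_tmul, LinearMap.comp_apply, LinearEquiv.coe_coe, TensorProduct.rid_tmul]
      refine (congrArg (x ⊗ₜ[k] ·) (hT c)).trans ?_
      rw [TensorProduct.tmul_smul, TensorProduct.smul_tmul']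
      rfl
    | add p q hp hq => simp only [map_add, TensorProduct.add_tmul, hp, hq]
  have hWsub : IsSubcomod (k := k) (A := A) W :=
    GrothLib.Comodule.isSubcomod_iff_op.mpr hWop
  letI cW : HopfRep.Comod k A W := ComodSub.Comod.restr cV W hWsub
  have hmemW : ∀ w : W, cW.coact w ∈
      LinearMap.range (((ψ : C →ₗc[k] A) : C →ₗ[k] A).lTensor W) := fun w => by
    refine ((lTensor_exact W (LinearMap.exact_map_mkQ_range ((ψ : C →ₗc[k] A) : C →ₗ[k] A))
      (Submodule.mkQ_surjective _)) _).mp (GrothLib.Comodule.ext_dual_left fun φ => ?_)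
    obtain ⟨φ', hφ'⟩ := LinearMap.exists_extend φ
    set Q := LinearMap.range ((ψ : C →ₗc[k] A) : C →ₗ[k] A)
    have e : ∀ z : W ⊗[k] A, TensorProduct.lid k _ (φ.rTensor _ (Q.mkQ.lTensor W z)) =
        Q.mkQ (TensorProduct.lid k A (φ'.rTensor A (W.subtype.rTensor A z))) := fun z => by
      induction z using TensorProduct.induction_on with
      | zero => simp
      | tmul p q => simp [← hφ']
      | add p q hp hq => simp only [map_add, hp, hq]
    rw [e, map_zero, map_zero, ComodSub.restr_coact_coe cV W hWsub w]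
    exact (Submodule.Quotient.mk_eq_zero _).mpr (hcf _ w.2 φ')
  letI cC : HopfRep.Comod k C W := GrothLib.Comodule.pullAlong (ψ : C →ₗc[k] A) hψ hmemW
  haveI : Nontrivial W := Submodule.nontrivial_iff_ne_bot.mpr hW0
  obtain ⟨w, hw, hw0⟩ := (Submodule.ne_bot_iff _).mp (hC W inferInstance inferInstance)
  have hw' : cW.coact w = w ⊗ₜ[k] (1 : A) := by
    have h1 := LinearMap.congr_fun (GrothLib.Comodule.lTensor_pullAlong (ψ : C →ₗc[k] A) hψ hmemW) w
    rw [LinearMap.comp_apply, show cC.coact w = w ⊗ₜ[k] (1 : C) from hw, LinearMap.lTensor_tmul] at h1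
    refine h1.symm.trans ?_
    exact congrArg (w ⊗ₜ[k] ·) (map_one ψ)
  refine (Submodule.ne_bot_iff _).mpr ⟨(w : V), ?_, fun h => hw0 (Subtype.ext h)⟩
  change cV.coact (w : V) = (w : V) ⊗ₜ[k] (1 : A)
  rw [← ComodSub.restr_coact_coe cV W hWsub w, hw']
  rfl

end Extension

end GrothLib.Unip
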