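import Groth.Agent.Lib.HopfAG.Trig
import Groth.Agent.Lib.HopfAG.Dense
import Groth.Agent.Lib.HopfAG.UnipFun
import Groth.Agent.Lib.CharFG28.GroupLike
import Groth.Agent.Lib.Hopf.FiniteRank
import Mathlib.GroupTheory.Finiteness
import Mathlib.Algebra.Module.ZMod
import Mathlib.LinearAlgebra.Dual.Lemmas

/-!
# The structure of trigonalizable groups

An affine group is trigonalizable exactly when it is an extension of a diagonalizable group by a
unipotent one.
-/

universe u

set_option linter.style.haveILetI false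

open TensorProduct HopfRep

namespace GrothLib.TrigStruct

variable {k : Type u} [Field k]

section Backward

variable {A C : Type u} [CommRing A] [HopfAlgebra k A] [CommRing C] [HopfAlgebra k C]
  [Algebra.FiniteType k A] [Algebra.FiniteType k C]

/-- The vectors fixed by the kernel of a quotient map form a subcomodule with coefficients in the
quotient. -/
theorem fixed_by_kernel (ψ : C →ₐc[k] A) (J : Ideal A) [Ideal.IsHopfIdeal k J]
    (hψ : Function.Injective ψ)
    (hJ : J = Ideal.map (ψ : C →+* A) (RingHom.ker (Bialgebra.counitAlgHom k C)))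
    {V : Type u} [AddCommGroup V] [Module k V] [cV : HopfRep.Comod k A V] (W : Submodule k V)
    (hW : ∀ v, v ∈ W ↔ (Ideal.Quotient.mkₐ k J).toLinearMap.lTensor V (cV.coact v) =
      v ⊗ₜ[k] (1 : A ⧸ J)) :
    IsSubcomod (k := k) (A := A) W ∧
      ∀ v ∈ W, ∀ φ : Module.Dual k V, ∃ c, ψ c = GrothLib.Comodule.cfMap (C := A) φ v := by
  have hcf : ∀ v ∈ W, ∀ φ : Module.Dual k V, ∃ c, ψ c = GrothLib.Comodule.cfMap (C := A) φ v := by
    intro v hv φ
    subst hJ
    refine GrothLib.Unip.mem_range_of_map_comul_eq ψ hψ ?_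
    have h1 := GrothLib.Comodule.IsComodHom.apply (C := A) (GrothLib.Comodule.isComodHom_cfMap φ) v
    change (Ideal.Quotient.mkₐ k _).toLinearMap.lTensor A (HopfRep.Comod.coact (k := k) (A := A)
      (GrothLib.Comodule.cfMap (C := A) φ v)) = _
    rw [h1, ← LinearMap.comp_apply, LinearMap.lTensor_comp_rTensor, ← LinearMap.rTensor_comp_lTensor,
      LinearMap.comp_apply]
    change (GrothLib.Comodule.cfMap (C := A) φ).rTensor _ ((Ideal.Quotient.mkₐ k _).toLinearMap.lTensor V
      (cV.coact v)) = _
    refine (congrArg _ ((hW v).1 hv)).trans ?_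
    exact LinearMap.rTensor_tmul _ _ _ _
  refine ⟨GrothLib.Comodule.isSubcomod_iff_op.mpr ?_, hcf⟩
  intro f v hv
  have hmem : cV.coact v ∈ LinearMap.range ((ψ : C →ₐ[k] A).toLinearMap.lTensor V) := by
    set Q := LinearMap.range (ψ : C →ₐ[k] A).toLinearMap
    refine ((lTensor_exact V (LinearMap.exact_map_mkQ_range (ψ : C →ₐ[k] A).toLinearMap)
      (Submodule.mkQ_surjective _)) _).mp (GrothLib.Comodule.ext_dual_left fun φ => ?_)
    have e : ∀ z : V ⊗[k] A, TensorProduct.lid k _ (φ.rTensor _ (Q.mkQ.lTensor V z)) =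
        Q.mkQ (TensorProduct.lid k A (φ.rTensor A z)) := fun z => by
      induction z using TensorProduct.induction_on with
      | zero => simp
      | tmul p q => simp
      | add p q hp hq => simp only [map_add, hp, hq]
    rw [e, map_zero, map_zero]
    exact (Submodule.Quotient.mk_eq_zero _).mpr (hcf v hv φ)
  refine (hW _).2 ?_
  change (Ideal.Quotient.mkₐ k J).toLinearMap.lTensor V
    (cV.coact (TensorProduct.rid k V (f.lTensor V (cV.coact v)))) =
    TensorProduct.rid k V (f.lTensor V (cV.coact v)) ⊗ₜ[k] (1 : A ⧸ J)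
  have e1 : ∀ z : V ⊗[k] A, cV.coact (TensorProduct.rid k V (f.lTensor V z)) =
      LinearMap.lTensor V ((TensorProduct.rid k A).toLinearMap ∘ₗ f.lTensor A)
        (TensorProduct.assoc k V A A (cV.coact.rTensor A z)) := fun z => by
    induction z using TensorProduct.induction_on with
    | zero => simp
    | tmul a c =>
      rw [LinearMap.lTensor_tmul, TensorProduct.rid_tmul, map_smul, LinearMap.rTensor_tmul]
      induction cV.coact a using TensorProduct.induction_on with
      | zero => simp
      | tmul p q => simp [TensorProduct.smul_tmul']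
      | add p q hp hq => simp only [TensorProduct.add_tmul, map_add, smul_add, hp, hq]
    | add a c ha hc => simp only [map_add, ha, hc]
  have hco := LinearMap.congr_fun cV.coassoc v
  simp only [LinearMap.comp_apply, LinearEquiv.coe_coe] at hco
  rw [e1, hco]
  obtain ⟨y, hy⟩ := hmem
  rw [← hy]
  clear hy hco
  induction y using TensorProduct.induction_on with
  | zero => simp
  | tmul x c =>
    have hT : ∀ c : C, Ideal.Quotient.mkₐ k J
        (TensorProduct.rid k A (f.lTensor A (Coalgebra.comul (R := k) (ψ c)))) =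
        f (ψ c) • (1 : A ⧸ J) := fun c => by
      have hπ : ∀ c : C, Ideal.Quotient.mkₐ k J (ψ c) = Coalgebra.counit (R := k) c • (1 : A ⧸ J) := fun c => by
        have h : ψ (c - algebraMap k C (Coalgebra.counit (R := k) c)) ∈ J := by
          rw [hJ]
          exact Ideal.mem_map_of_mem _ (by simp [RingHom.mem_ker])
        rw [← Ideal.Quotient.eq_zero_iff_mem, map_sub, map_sub, sub_eq_zero] at h
        refine h.trans ?_
        rw [← Algebra.algebraMap_eq_smul_one]
        exact congrArg _ ((ψ : C →ₐ[k] A).commutes _)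
      rw [← CoalgHomClass.map_comp_comul_apply ψ c]
      have e2 : ∀ t : C ⊗[k] C, Ideal.Quotient.mkₐ k J (TensorProduct.rid k A (f.lTensor A
          (TensorProduct.map (ψ : C →ₗ[k] A) (ψ : C →ₗ[k] A) t))) =
          f (ψ (TensorProduct.lid k C (Coalgebra.counit.rTensor C t))) • (1 : A ⧸ J) := fun t => by
        induction t using TensorProduct.induction_on with
        | zero => simp
        | tmul p q =>
          simp only [TensorProduct.map_tmul, LinearMap.lTensor_tmul, TensorProduct.rid_tmul, map_smul]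
          rw [show (ψ : C →ₗ[k] A) p = ψ p from rfl, hπ, LinearMap.rTensor_tmul, TensorProduct.lid_tmul,
            map_smul, map_smul, smul_smul, smul_eq_mul, mul_comm]
          rfl
        | add p q hp hq => simp only [map_add, add_smul, hp, hq]
      rw [e2, Coalgebra.rTensor_counit_comul]
      simp
    simp only [LinearMap.lTensor_tmul, LinearMap.comp_apply, LinearEquiv.coe_coe, TensorProduct.rid_tmul]
    refine (congrArg (x ⊗ₜ[k] ·) (hT c)).trans ?_
    rw [TensorProduct.tmul_smul, TensorProduct.smul_tmul']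
    rfl
  | add p q hp hq => simp only [map_add, TensorProduct.add_tmul, hp, hq]

omit [Algebra.FiniteType k A] in
/-- A subcomodule of the regular comodule spanned by group-likes contains a group-like line. -/
theorem exists_line {R : Submodule k A} (hR : IsSubcomod (k := k) (A := A) R) (hne : R ≠ ⊥)
    (hle : R ≤ Submodule.span k {a : A | IsGroupLikeElem k a}) :
    ∃ g : A, IsGroupLikeElem k g ∧ g ∈ R := by
  classical
  obtain ⟨x, hx, hx0⟩ := (Submodule.ne_bot_iff _).mp hne
  obtain ⟨t, hxt⟩ := Finsupp.mem_span_iff_linearCombination _ _ _ |>.mp (hle hx)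
  obtain ⟨g₀, hg₀⟩ : t.support.Nonempty := by
    rw [Finsupp.support_nonempty_iff]
    rintro rfl
    exact hx0 (by simpa using hxt.symm)
  refine ⟨g₀, g₀.2, ?_⟩
  have hli : LinearIndependent k (fun g : {a : A | IsGroupLikeElem k a} => (g : A)) :=
    (linearIndepOn_isGroupLikeElem (R := k) (A := A)).linearIndependent
  obtain ⟨F, hF⟩ := LinearMap.exists_extend
    ((Finsupp.lapply g₀).comp hli.repr : Submodule.span k (Set.range fun g : {a : A | IsGroupLikeElem k a} => (g : A)) →ₗ[k] k)
  have hFg : ∀ g : {a : A | IsGroupLikeElem k a}, F g = Finsupp.single g (1 : k) g₀ := fun g => by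
    have := LinearMap.congr_fun hF ⟨g, Submodule.subset_span ⟨g, rfl⟩⟩
    simp only [LinearMap.comp_apply, Submodule.subtype_apply] at this
    rw [this]
    simp [hli.repr_eq_single g ⟨(g : A), Submodule.subset_span ⟨g, rfl⟩⟩ rfl]
  have hop := GrothLib.Comodule.isSubcomod_iff_op.mp hR F x hx
  have hcomp : GrothLib.Hopf.Comod.op F x = t g₀ • (g₀ : A) := by
    change TensorProduct.rid k A (F.lTensor A (Coalgebra.comul (R := k) x)) = _
    rw [← hxt, Finsupp.linearCombination_apply]
    simp only [Finsupp.sum, map_sum, map_smul, LinearMap.lTensor_tmul, TensorProduct.rid_tmul,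
      fun g : {a : A | IsGroupLikeElem k a} => g.2.comul_eq_tmul_self, hFg]
    rw [Finset.sum_eq_single g₀]
    · simp
    · intro g _ hg
      simp [Finsupp.single_eq_of_ne' hg]
    · intro h
      simp [Finsupp.notMem_support_iff.mp h]
  have ht : t g₀ ≠ 0 := Finsupp.mem_support_iff.mp hg₀
  have hmem : t g₀ • (g₀ : A) ∈ R := hcomp ▸ hop
  simpa [smul_smul, inv_mul_cancel₀ ht] using R.smul_mem (t g₀)⁻¹ hmem

/-- An extension of a diagonalizable group by a unipotent group is trigonalizable. -/
theorem isTrigonalizable_of_extension (ψ : C →ₐc[k] A) (J : Ideal A) [Ideal.IsHopfIdeal k J]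
    (hψ : Function.Injective ψ)
    (hJ : J = Ideal.map (ψ : C →+* A) (RingHom.ker (Bialgebra.counitAlgHom k C)))
    (hC : IsDiagonalizable k C) (hN : IsUnipotent k (A ⧸ J)) : IsTrigonalizable k A := by
  intro V _ _ cV hfin hV
  classical
  obtain ⟨hnt, hsimp⟩ := hV
  let π : A →ₐc[k] A ⧸ J := Bialgebra.Quotient.mkBialgHom J
  let cN : HopfRep.Comod k (A ⧸ J) V :=
    GrothLib.Comodule.pushAlong (V := V) (π : A →ₗc[k] A ⧸ J)
  set W : Submodule k V := @fixedPts k (A ⧸ J) _ _ _ V _ _ cN
  obtain ⟨hWsub, hcf⟩ := fixed_by_kernel ψ J hψ hJ W (fun v => Iff.rfl)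
  have hWtop : W = ⊤ := (hsimp W hWsub).resolve_left (@hN V _ _ cN hfin hnt)
  obtain ⟨v₀, hv₀⟩ := exists_ne (0 : V)
  obtain ⟨φ, hφ⟩ : ∃ φ : Module.Dual k V, φ v₀ ≠ 0 := by
    by_contra! hall
    exact hv₀ ((Module.forall_dual_apply_eq_zero_iff k v₀).mp hall)
  set c := GrothLib.Comodule.cfMap (C := A) φ with hcdef
  have hc := GrothLib.Comodule.isComodHom_cfMap (C := A) φ
  have hker : LinearMap.ker c = ⊥ := by
    rcases hsimp _ (GrothLib.Comodule.IsComodHom.ker_isSubcomod hc) with h0 | h0
    · exact h0
    · exfalso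
      have h1 := GrothLib.Comodule.counit_cfMap (C := A) φ v₀
      change Coalgebra.counit (R := k) (c v₀) = φ v₀ at h1
      have hz : c = 0 := LinearMap.ker_eq_top.mp h0
      rw [hz, LinearMap.zero_apply, map_zero] at h1
      exact hφ h1.symm
  let R : Submodule k A := (⊤ : Submodule k V).map c
  have hR : IsSubcomod (k := k) (A := A) R :=
    GrothLib.Comodule.IsComodHom.map_isSubcomod hc
      (GrothLib.Comodule.isSubcomod_top (k := k) (C := A) (V := V))
  have hRne : R ≠ ⊥ := (Submodule.ne_bot_iff _).mpr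
    ⟨c v₀, ⟨v₀, trivial, rfl⟩, fun h => hv₀ (LinearMap.ker_eq_bot'.mp hker _ h)⟩
  have hle : R ≤ Submodule.span k {a : A | IsGroupLikeElem k a} := by
    rintro _ ⟨v, -, rfl⟩
    obtain ⟨b, hb⟩ := hcf v (hWtop ▸ Submodule.mem_top) φ
    rw [← hcdef] at hb
    rw [← hb]
    have hmem : b ∈ Submodule.span k {a : C | IsGroupLikeElem k a} :=
      (show Submodule.span k _ = ⊤ from hC) ▸ Submodule.mem_top
    have h2 := Submodule.mem_map_of_mem (f := ((ψ : C →ₐ[k] A).toLinearMap)) hmem
    rw [Submodule.map_span] at h2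
    refine Submodule.span_mono ?_ h2
    rintro _ ⟨a, ha, rfl⟩
    exact IsGroupLikeElem.map ψ ha
  obtain ⟨g, hg, v, -, rfl⟩ := exists_line hR hRne hle
  have hv0 : v ≠ 0 := by
    rintro rfl
    exact hg.ne_zero (map_zero c)
  have hline : IsSubcomod (k := k) (A := A) ((Submodule.span k {c v}).comap c) := by
    refine GrothLib.Comodule.IsComodHom.comap_isSubcomod hc ?_
    intro x hx
    obtain ⟨s, rfl⟩ := Submodule.mem_span_singleton.mp hx
    rw [map_smul]
    refine Submodule.smul_mem _ _ ?_
    change Coalgebra.comul (R := k) (c v) ∈ _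
    rw [hg.comul_eq_tmul_self]
    exact GrothLib.Unip.tmul_mem_range (Submodule.mem_span_singleton_self _) _
  rcases hsimp _ hline with h0 | h0
  · exact absurd ((Submodule.eq_bot_iff _).mp h0 v (Submodule.mem_span_singleton_self _)) hv0
  · apply le_antisymm
    · calc Module.finrank k V = Module.finrank k (LinearMap.range c) :=
            (LinearMap.finrank_range_of_inj (LinearMap.ker_eq_bot.mp hker)).symm
        _ ≤ Module.finrank k (Submodule.span k {c v}) := Submodule.finrank_mono (by
            rintro _ ⟨x, rfl⟩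
            exact (h0 ▸ Submodule.mem_top : x ∈ (Submodule.span k {c v}).comap c))
        _ ≤ 1 := (finrank_span_le_card _).trans (by simp)
    · exact Module.finrank_pos

end Backward

section FiniteType

variable {A C : Type u} [CommRing A] [HopfAlgebra k A] [CommRing C] [HopfAlgebra k C]

/-- A diagonalizable quotient of an algebraic group is algebraic. -/
theorem finiteType_of_diagonalizable [Algebra.FiniteType k A] (ψ : C →ₐc[k] A)
    (hψ : Function.Injective ψ) (hC : IsDiagonalizable k C) : Algebra.FiniteType k C := by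
  haveI := GrothLib.CharFG28.fg_groupLike k A
  let e : GroupLike k C →* GroupLike k A :=
    { toFun := fun g => ⟨ψ g, g.2.map ψ⟩
      map_one' := GroupLike.val_injective (map_one ψ)
      map_mul' := fun g h => GroupLike.val_injective (map_mul ψ _ _) }
  have he : Function.Injective e := fun g h hgh =>
    GroupLike.val_injective (hψ (congrArg GroupLike.val hgh))
  haveI : Group.FG (GroupLike k C) := by
    rw [GroupFG.iff_add_fg, ← Module.Finite.iff_addGroup_fg]
    haveI : Module.Finite ℤ (Additive (GroupLike k A)) :=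
      Module.Finite.iff_addGroup_fg.mpr inferInstance
    exact Module.Finite.of_injective e.toAdditive.toIntLinearMap he
  haveI : Monoid.FG (GroupLike k C) := Group.fg_iff_monoid_fg.mp ‹_›
  have hsurj : Function.Surjective
      (MonoidAlgebra.liftGroupLikeBialgHom (R := k) (A := C)) := by
    intro b
    have hb : b ∈ Submodule.span k {a : C | IsGroupLikeElem k a} :=
      (show Submodule.span k _ = ⊤ from hC) ▸ Submodule.mem_top
    induction hb using Submodule.span_induction with
    | mem a ha => exact ⟨MonoidAlgebra.single ⟨a, ha⟩ 1, by simp⟩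
    | zero => exact ⟨0, map_zero _⟩
    | add x y _ _ hx hy =>
      obtain ⟨p, rfl⟩ := hx
      obtain ⟨q, rfl⟩ := hy
      exact ⟨p + q, map_add _ _ _⟩
    | smul r x _ hx =>
      obtain ⟨p, rfl⟩ := hx
      exact ⟨r • p, map_smul _ _ _⟩
  exact Algebra.FiniteType.of_surjective
    ((MonoidAlgebra.liftGroupLikeBialgHom (R := k) (A := C)) : MonoidAlgebra k (GroupLike k C) →ₐ[k] C)
    hsurj

end FiniteType

section Forward

variable {A : Type u} [CommRing A] [HopfAlgebra k A]

/-- The kernel of the map to the characters of a trigonalizable group is unipotent. -/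
theorem isUnipotent_quotient (hT : IsTrigonalizable k A) (J : Ideal A) [Ideal.IsHopfIdeal k J]
    (hJ : ∀ g : A, IsGroupLikeElem k g → g - 1 ∈ J) : IsUnipotent k (A ⧸ J) := by
  classical
  let π : A →ₐc[k] A ⧸ J := Bialgebra.Quotient.mkBialgHom J
  let p : A →ₗ[k] A ⧸ J := (π : A →ₐ[k] A ⧸ J).toLinearMap
  refine GrothLib.Unip.isUnipotent_of_forall_mem_soc fun b => ?_
  obtain ⟨a, rfl⟩ := Ideal.Quotient.mk_surjective b
  obtain ⟨n, F, hF, h0, han, hstep⟩ := GrothLib.Trig.exists_chain hT a
  suffices key : ∀ i, ∀ x ∈ F i, p x ∈ GrothLib.Unip.soc k (A ⧸ J) (A ⧸ J) i from ⟨n, key n a han⟩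
  intro i
  induction i with
  | zero =>
    intro x hx
    rw [h0, Submodule.mem_bot] at hx
    rw [hx, map_zero]
    exact zero_mem _
  | succ i ih =>
    intro x hx
    obtain ⟨w, hw⟩ := hstep i
    by_cases hxF : x ∈ F i
    · exact GrothLib.Unip.soc_mono i.le_succ (ih x hxF)
    let cq : HopfRep.Comod k A (A ⧸ F i) :=
      ComodSub.Comod.quot (HopfRep.Comod.regular k A) (F i) (hF i)
    let q : A →ₗ[k] A ⧸ F i := (F i).mkQ
    have hq : cq.coact (q x) = q.rTensor A (Coalgebra.comul (R := k) x) :=
      GrothLib.Comodule.IsComodHom.apply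
        (ComodSub.isComodHom_mkQ (HopfRep.Comod.regular k A) (F i) (hF i)) x
    have hqx : q x ≠ 0 := fun h => hxF ((Submodule.Quotient.mk_eq_zero _).mp h)
    have hspan : ∀ y ∈ F (i + 1), q y ∈ Submodule.span k {q x} := by
      have hqw : ∀ y ∈ F (i + 1), ∃ s : k, q y = s • q w := fun y hy => by
        obtain ⟨u, hu, z, hz, rfl⟩ := Submodule.mem_sup.mp (hw hy)
        obtain ⟨s, rfl⟩ := Submodule.mem_span_singleton.mp hz
        exact ⟨s, by rw [map_add, show q u = 0 from (Submodule.Quotient.mk_eq_zero _).mpr hu,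
          zero_add, map_smul]⟩
      obtain ⟨s, hs⟩ := hqw x hx
      have hs0 : s ≠ 0 := fun h => hqx (by rw [hs, h, zero_smul])
      intro y hy
      obtain ⟨r, hr⟩ := hqw y hy
      exact Submodule.mem_span_singleton.mpr
        ⟨r * s⁻¹, by rw [hs, smul_smul, mul_assoc, inv_mul_cancel₀ hs0, mul_one, hr]⟩
    obtain ⟨g, hg⟩ : ∃ g : A, cq.coact (q x) = q x ⊗ₜ[k] g := by
      obtain ⟨y, hy⟩ := hF (i + 1) x hx
      have hy' : (F (i + 1)).subtype.rTensor A y = Coalgebra.comul (R := k) x := hy
      rw [hq, ← hy']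
      clear hy hy'
      induction y using TensorProduct.induction_on with
      | zero => exact ⟨0, by simp⟩
      | tmul y a =>
        obtain ⟨r, hr⟩ := Submodule.mem_span_singleton.mp (hspan y y.2)
        exact ⟨r • a, by
          rw [LinearMap.rTensor_tmul, LinearMap.rTensor_tmul, Submodule.subtype_apply, ← hr,
            TensorProduct.smul_tmul]⟩
      | add y z hy hz =>
        obtain ⟨g₁, h₁⟩ := hy
        obtain ⟨g₂, h₂⟩ := hz
        exact ⟨g₁ + g₂, by rw [map_add, map_add, h₁, h₂, TensorProduct.tmul_add]⟩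
    have hgl : IsGroupLikeElem k g :=
      letI : HopfRep.Comod k A (A ⧸ F i) := cq
      GrothLib.Dense.isGroupLikeElem_of_coact (V := A ⧸ F i) hqx hg
    have hpg : p g = 1 := by
      change Ideal.Quotient.mk J g = Ideal.Quotient.mk J 1
      exact Ideal.Quotient.eq.mpr (hJ g hgl)
    have hd : Coalgebra.comul (R := k) x - x ⊗ₜ[k] g ∈ LinearMap.range ((F i).subtype.rTensor A) := by
      refine ((rTensor_exact A (LinearMap.exact_subtype_mkQ (F i))
        (Submodule.mkQ_surjective _)) _).mp ?_
      rw [map_sub, LinearMap.rTensor_tmul]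
      exact sub_eq_zero.mpr (hq.symm.trans hg)
    refine (GrothLib.Unip.mem_next (A := A ⧸ J)).mpr ?_
    obtain ⟨y, hy⟩ := hd
    refine ⟨TensorProduct.map (p.restrict ih) p y, ?_⟩
    have hcomul : TensorProduct.map p p (Coalgebra.comul (R := k) x) =
        Coalgebra.comul (R := k) (p x) := CoalgHomClass.map_comp_comul_apply π x
    calc (GrothLib.Unip.soc k (A ⧸ J) (A ⧸ J) i).subtype.rTensor _
          (TensorProduct.map (p.restrict ih) p y)
        = TensorProduct.map p p ((F i).subtype.rTensor A y) := by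
          rw [LinearMap.rTensor, LinearMap.rTensor, ← LinearMap.comp_apply, ← TensorProduct.map_comp,
            ← LinearMap.comp_apply, ← TensorProduct.map_comp]
          rfl
      _ = _ := by
          rw [hy, map_sub, hcomul, TensorProduct.map_tmul, hpg]
          rfl

/-- The group of characters, as a quotient of the group. -/
theorem exists_quotient (hT : IsTrigonalizable k A) :
    ∃ (B : Type u) (_ : CommRing B) (_ : HopfAlgebra k B) (ψ : B →ₐc[k] A) (J : Ideal A)
      (_ : J.IsHopfIdeal k),
      Function.Injective ψ ∧ IsDiagonalizable k B ∧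
        J = Ideal.map (ψ : B →+* A) (RingHom.ker (Bialgebra.counitAlgHom k B)) ∧
        IsUnipotent k (A ⧸ J) := by
  let ψ : MonoidAlgebra k (GroupLike k A) →ₐc[k] A :=
    MonoidAlgebra.liftGroupLikeBialgHom (R := k) (A := A)
  let J := GrothLib.Hopf.kerIdeal k ψ
  haveI : J.IsHopfIdeal k := GrothLib.Hopf.FiniteRank.isHopfIdeal_kerIdeal ψ
  refine ⟨MonoidAlgebra k (GroupLike k A), inferInstance, inferInstance, ψ, J, inferInstance,
    GrothLib.CharFG28.liftGroupLike_injective k A, ?_, rfl, isUnipotent_quotient hT J fun g hg => ?_⟩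
  · rw [IsDiagonalizable, eq_top_iff]
    intro x _
    induction x using MonoidAlgebra.induction_linear with
    | zero => exact zero_mem _
    | add a b ha hb => exact add_mem (ha trivial) (hb trivial)
    | single m r =>
      rw [← mul_one r, ← smul_eq_mul, ← MonoidAlgebra.smul_single]
      exact Submodule.smul_mem _ _ (Submodule.subset_span (MonoidAlgebra.isGroupLikeElem_single_one m))
  · have h : ψ (MonoidAlgebra.single (⟨g, hg⟩ : GroupLike k A) 1 - 1) = g - 1 := by
      simp [ψ]
    rw [← h]
    refine Ideal.mem_map_of_mem _ ?_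
    rw [RingHom.mem_ker, map_sub, map_one]
    simp

end Forward

end GrothLib.TrigStruct
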