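import Groth.Agent.Lib.Comod.Coeff
import Groth.Agent.Lib.Hopf.Translate
import Mathlib.RingTheory.HopfAlgebra.Convolution
import Mathlib.RingTheory.Bialgebra.Convolution
import Mathlib.RingTheory.OrzechProperty
import Mathlib.LinearAlgebra.TensorProduct.Quotient
import Mathlib.LinearAlgebra.TensorProduct.RightExactness

/-!
Points of an affine group act linearly on a base-changed representation; stabilisers of subspaces.
-/

universe u v w

open TensorProduct WithConv

namespace GrothLib.PointAct

variable {k : Type u} [CommRing k] {A : Type v} [CommRing A] [HopfAlgebra k A]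
  {V : Type w} [AddCommGroup V] [Module k V] [HopfRep.Comod k A V]
  {R : Type*} [CommRing R] [Algebra k R]

local notation "ρ" => (HopfRep.Comod.coact (k := k) (A := A))

/-- A point as an `R`-linear endomorphism of `R ⊗ V`. -/
noncomputable def G (g : A →ₐ[k] R) : R ⊗[k] V →ₗ[R] R ⊗[k] V :=
  LinearMap.liftBaseChange R ((TensorProduct.comm k V R).toLinearMap ∘ₗ g.toLinearMap.lTensor V ∘ₗ ρ)

theorem G_tmul (g : A →ₐ[k] R) (r : R) (v : V) :
    G g (r ⊗ₜ[k] v) = r • TensorProduct.comm k V R (g.toLinearMap.lTensor V (ρ v)) :=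
  LinearMap.liftBaseChange_tmul _ _ _ _

theorem G_one : G (V := V) ((1 : WithConv (A →ₐ[k] R)).ofConv) = LinearMap.id := by
  refine TensorProduct.AlgebraTensorModule.ext fun r v => ?_
  rw [G_tmul, AlgHom.convOne_def, WithConv.ofConv_toConv, LinearMap.id_apply]
  have h : ∀ y : V ⊗[k] A,
      TensorProduct.comm k V R (((Algebra.ofId k R).comp (Bialgebra.counitAlgHom k A)).toLinearMap.lTensor V y) =
        (1 : R) ⊗ₜ[k] TensorProduct.rid k V ((CoalgebraStruct.counit (R := k) (A := A)).lTensor V y) := by
    intro y
    induction y using TensorProduct.induction_on with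
    | zero => simp
    | add p q hp hq => simp only [map_add, TensorProduct.tmul_add, hp, hq]
    | tmul p q => simp [Algebra.algebraMap_eq_smul_one, TensorProduct.smul_tmul]
  have hc := LinearMap.congr_fun (HopfRep.Comod.counit_comp (k := k) (A := A) (V := V)) v
  simp only [LinearMap.comp_apply, LinearMap.flip_apply, TensorProduct.mk_apply] at hc
  rw [h, hc, TensorProduct.rid_tmul, one_smul, TensorProduct.smul_tmul', smul_eq_mul, mul_one]

theorem G_mul (a b : A →ₐ[k] R) : G (V := V) (toConv a * toConv b).ofConv = G a ∘ₗ G b := by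
  refine TensorProduct.AlgebraTensorModule.ext fun r v => ?_
  rw [LinearMap.comp_apply, G_tmul, G_tmul, map_smul]
  congr 1
  have hc := LinearMap.congr_fun (HopfRep.Comod.coassoc (k := k) (A := A) (V := V)) v
  simp only [LinearMap.coe_comp, Function.comp_apply, LinearEquiv.coe_coe] at hc
  have h1 : ∀ y : V ⊗[k] A, (toConv a * toConv b).ofConv.toLinearMap.lTensor V y =
      (LinearMap.mul' k R ∘ₗ TensorProduct.map a.toLinearMap b.toLinearMap).lTensor V
        ((CoalgebraStruct.comul (R := k) (A := A)).lTensor V y) := by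
    intro y
    induction y using TensorProduct.induction_on with
    | zero => simp
    | add p q hp hq => simp only [map_add, hp, hq]
    | tmul u c =>
      simp only [LinearMap.lTensor_tmul, AlgHom.convMul_def, WithConv.ofConv_toConv]
      rfl
  rw [h1, ← hc]
  induction ρ v using TensorProduct.induction_on with
  | zero => simp
  | add p q hp hq => simp only [map_add, hp, hq]
  | tmul u c =>
    simp only [LinearMap.rTensor_tmul, LinearMap.lTensor_tmul, TensorProduct.comm_tmul, G_tmul]
    induction ρ u using TensorProduct.induction_on with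
    | zero => simp
    | add p q hp hq => simp only [map_add, TensorProduct.add_tmul, smul_add, hp, hq]
    | tmul s t => simp [TensorProduct.smul_tmul', mul_comm]

theorem G_comp_inv (g : A →ₐ[k] R) :
    G (V := V) g ∘ₗ G (g.comp (HopfAlgebra.antipodeAlgHom k A)) = LinearMap.id := by
  have h : toConv g * toConv (g.comp (HopfAlgebra.antipodeAlgHom k A)) = 1 :=
    GrothLib.Hopf.mul_pinv (toConv g)
  rw [← G_mul, h, G_one]

theorem G_inv_comp (g : A →ₐ[k] R) :
    G (V := V) (g.comp (HopfAlgebra.antipodeAlgHom k A)) ∘ₗ G g = LinearMap.id := by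
  rw [← G_mul, GrothLib.Hopf.comp_antipode_mul, G_one]

/-- The inverse of a point stabilising a subspace stabilises it, by Orzech on the quotient. -/
theorem inv_mem [Module.Finite k V] (W : Submodule k V) (g : A →ₐ[k] R)
    (hg : ∀ x ∈ W.baseChange R, G g x ∈ W.baseChange R) :
    ∀ x ∈ W.baseChange R, G (g.comp (HopfAlgebra.antipodeAlgHom k A)) x ∈ W.baseChange R := by
  set N := W.baseChange R
  intro x hx
  let q : (R ⊗[k] V ⧸ N) →ₗ[R] (R ⊗[k] V ⧸ N) := N.mapQ N (G g) fun y hy => hg y hy
  have hsurj : Function.Surjective q := by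
    intro z
    obtain ⟨z, rfl⟩ := N.mkQ_surjective z
    refine ⟨N.mkQ (G (g.comp (HopfAlgebra.antipodeAlgHom k A)) z), ?_⟩
    exact congrArg N.mkQ (LinearMap.congr_fun (G_comp_inv g) z)
  have hinj := OrzechProperty.injective_of_surjective_endomorphism q hsurj
  have h0 : N.mkQ (G (g.comp (HopfAlgebra.antipodeAlgHom k A)) x) = 0 := hinj <| by
    rw [map_zero]
    show N.mkQ (G g (G (g.comp (HopfAlgebra.antipodeAlgHom k A)) x)) = 0
    rw [← LinearMap.comp_apply (G g), G_comp_inv, LinearMap.id_apply]
    exact (Submodule.Quotient.mk_eq_zero N).2 hx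
  exact (Submodule.Quotient.mk_eq_zero N).1 h0

theorem mem_baseChange_iff (W : Submodule k V) (g : A →ₐ[k] R) :
    (∀ x ∈ W.baseChange R, G g x ∈ W.baseChange R) ↔
      ∀ w ∈ W, g.toLinearMap.lTensor V (ρ w) ∈ LinearMap.range (W.subtype.rTensor R) := by
  have hr : ∀ y : V ⊗[k] R, TensorProduct.comm k V R y ∈ W.baseChange R ↔
      y ∈ LinearMap.range (W.subtype.rTensor R) := by
    intro y
    constructor
    · rintro ⟨z, hz⟩
      refine ⟨TensorProduct.comm k R W z, (TensorProduct.comm k V R).injective ?_⟩
      rw [← hz]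
      clear hz
      induction z using TensorProduct.induction_on with
      | zero => simp
      | add p q hp hq => simp only [map_add, hp, hq]
      | tmul p q => simp
    · rintro ⟨z, rfl⟩
      refine ⟨TensorProduct.comm k W R z, ?_⟩
      induction z using TensorProduct.induction_on with
      | zero => simp
      | add p q hp hq => simp only [map_add, hp, hq]
      | tmul p q => simp
  constructor
  · intro h w hw
    rw [← hr]
    have := h ((1 : R) ⊗ₜ[k] w) (Submodule.tmul_mem_baseChange_of_mem _ hw)
    rwa [G_tmul, one_smul] at this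
  · intro h
    have hle : W.baseChange R ≤ (W.baseChange R).comap (G g) := by
      rw [Submodule.baseChange_eq_span, Submodule.span_le]
      rintro _ ⟨w, hw, rfl⟩
      rw [SetLike.mem_coe, Submodule.mem_comap, ← Submodule.baseChange_eq_span]
      show G g ((1 : R) ⊗ₜ[k] w) ∈ _
      rw [G_tmul, one_smul, hr]
      exact h w hw
    exact fun x hx => hle hx

end GrothLib.PointAct
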