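import Groth.Agent.Lib.HopfAG.Trig
import Groth.Agent.Lib.Comod.Semi
import Groth.Agent.Lib.Comod.Basic
import Groth.Prelude.Def_HopfRep
import Mathlib.RingTheory.HopfAlgebra.GroupLike
import Mathlib.RingTheory.HopfAlgebra.TensorProduct
import Mathlib.RingTheory.TensorProduct.Free
import Mathlib.FieldTheory.IsSepClosed
import Mathlib.FieldTheory.IsAlgClosed.AlgebraicClosure
import Mathlib.LinearAlgebra.Basis.VectorSpace
import Mathlib.Algebra.Polynomial.Eval.Coeff
import Mathlib.LinearAlgebra.Matrix.Charpoly.Minpoly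
import Mathlib.FieldTheory.Separable
import Mathlib.LinearAlgebra.Eigenspace.Minpoly
import Mathlib.Algebra.Polynomial.Div

/-!
# A commutative group without additive characters is of multiplicative type

If a cocommutative Hopf algebra over a field has no nonzero primitive element and the translation
operators have split annihilating polynomials, it is spanned by its group-like elements.
-/

universe u v

set_option linter.style.haveILetI false

open TensorProduct Polynomial

namespace GrothLib.NoPrim

section Core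

variable {k : Type u} [Field k] {A : Type v} [CommRing A] [HopfAlgebra k A] [Coalgebra.IsCocomm k A]


/-- contract the left factor of the comultiplication -/
noncomputable def P (θ : Module.Dual k A) : A →ₗ[k] A :=
  (TensorProduct.lid k A).toLinearMap ∘ₗ θ.rTensor A ∘ₗ (Coalgebra.comul (R := k) (A := A))

/-- contract the right factor of the comultiplication -/
noncomputable abbrev T (f : Module.Dual k A) : A →ₗ[k] A := GrothLib.Hopf.Comod.op (k := k) (C := A) (V := A) f

variable (k A) in
noncomputable def S : Submodule k A := Submodule.span k {a : A | IsGroupLikeElem k a}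

omit [Coalgebra.IsCocomm k A] in
theorem P_groupLike (θ : Module.Dual k A) {g : A} (hg : IsGroupLikeElem k g) : P θ g = θ g • g := by
  simp [P, hg.comul_eq_tmul_self]

omit [Coalgebra.IsCocomm k A] in
theorem T_groupLike (f : Module.Dual k A) {g : A} (hg : IsGroupLikeElem k g) : T f g = f g • g := by
  change TensorProduct.rid k A (f.lTensor A ((Coalgebra.comul (R := k) (A := A)) g)) = _
  simp [hg.comul_eq_tmul_self]

omit [Coalgebra.IsCocomm k A] in
theorem T_mem_S (f : Module.Dual k A) {s : A} (hs : s ∈ S k A) : T f s ∈ S k A := by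
  induction hs using Submodule.span_induction with
  | mem g hg => rw [T_groupLike f hg]; exact Submodule.smul_mem _ _ (Submodule.subset_span hg)
  | zero => rw [map_zero]; exact zero_mem _
  | add a b _ _ ha hb => rw [map_add]; exact add_mem ha hb
  | smul c a _ ha => rw [map_smul]; exact Submodule.smul_mem _ _ ha

omit [Coalgebra.IsCocomm k A] in
theorem comul_P (θ : Module.Dual k A) (a : A) : (Coalgebra.comul (R := k) (A := A)) (P θ a) = (P θ).rTensor A ((Coalgebra.comul (R := k) (A := A)) a) := by
  have e1 : ∀ z : A ⊗[k] A, (Coalgebra.comul (R := k) (A := A)) (TensorProduct.lid k A (θ.rTensor A z)) =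
      TensorProduct.lid k (A ⊗[k] A) (θ.rTensor (A ⊗[k] A) (((Coalgebra.comul (R := k) (A := A))).lTensor A z)) := fun z => by
    induction z using TensorProduct.induction_on with
    | zero => simp
    | tmul x y => simp
    | add x y hx hy => simp only [map_add, hx, hy]
  have e2 : ∀ z : A ⊗[k] A, (P θ).rTensor A z =
      TensorProduct.lid k (A ⊗[k] A) (θ.rTensor (A ⊗[k] A) (TensorProduct.assoc k A A A (((Coalgebra.comul (R := k) (A := A))).rTensor A z))) := fun z => by
    induction z using TensorProduct.induction_on with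
    | zero => simp
    | tmul x y =>
      simp only [P, LinearMap.rTensor_tmul, LinearMap.comp_apply, LinearEquiv.coe_coe]
      induction (Coalgebra.comul (R := k) (A := A)) x using TensorProduct.induction_on with
      | zero => simp
      | tmul p q => simp [TensorProduct.smul_tmul']
      | add p q hp hq => simp only [map_add, TensorProduct.add_tmul, hp, hq]
    | add x y hx hy => simp only [map_add, hx, hy]
  rw [e2, Coalgebra.coassoc_apply, ← e1]
  rfl

variable (hnp : ∀ x : A, (Coalgebra.comul (R := k) (A := A)) x = x ⊗ₜ[k] (1 : A) + (1 : A) ⊗ₜ[k] x → x = 0)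
include hnp

/-- Skew-primitive elements lie in the span of the group-likes. -/
theorem skew_mem {c g ψ : A} (hg : IsGroupLikeElem k g) (hψ : IsGroupLikeElem k ψ)
    (hc : (Coalgebra.comul (R := k) (A := A)) c = c ⊗ₜ[k] ψ + g ⊗ₜ[k] c) : c ∈ S k A := by
  classical
  set ψ' := HopfAlgebraStruct.antipode k ψ
  have hψ' : IsGroupLikeElem k ψ' := hψ.antipode
  have h1 : ψ * ψ' = 1 := hψ.mul_antipode_cancel
  set h := g * ψ'
  have hh : IsGroupLikeElem k h := hg.mul hψ'
  have hc' : (Coalgebra.comul (R := k) (A := A)) (c * ψ') = (c * ψ') ⊗ₜ[k] (1 : A) + h ⊗ₜ[k] (c * ψ') := by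
    rw [Bialgebra.comul_mul, hψ'.comul_eq_tmul_self, hc, add_mul, Algebra.TensorProduct.tmul_mul_tmul,
      Algebra.TensorProduct.tmul_mul_tmul, h1]
  have hback : c = (c * ψ') * ψ := by rw [mul_assoc, mul_comm ψ', h1, mul_one]
  rcases eq_or_ne h 1 with heq | hne
  · rw [heq] at hc'
    rw [hback, hnp _ hc', zero_mul]
    exact zero_mem _
  have hcomm := Coalgebra.comm_comul k (c * ψ')
  rw [hc', map_add, TensorProduct.comm_tmul, TensorProduct.comm_tmul] at hcomm
  obtain ⟨φ, hφ⟩ : ∃ φ : Module.Dual k A, φ (1 - h) = 1 := by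
    obtain ⟨φ, hφ⟩ : ∃ φ : Module.Dual k A, φ (1 - h) ≠ 0 := by
      by_contra! hno
      exact hne (sub_eq_zero.1 ((Module.forall_dual_apply_eq_zero_iff k _).1 hno)).symm
    exact ⟨(φ (1 - h))⁻¹ • φ, by rw [LinearMap.smul_apply, smul_eq_mul, inv_mul_cancel₀ hφ]⟩
  have h2 := congrArg (fun z => TensorProduct.rid k A (φ.lTensor A z)) hcomm
  simp only [map_add, LinearMap.lTensor_tmul, TensorProduct.rid_tmul] at h2
  have h3 : c * ψ' = φ (c * ψ') • (1 - h) := by
    rw [map_sub] at hφ
    calc c * ψ' = (φ 1 - φ h) • (c * ψ') := by rw [hφ, one_smul]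
      _ = φ (c * ψ') • (1 - h) := by
        rw [sub_smul, smul_sub]
        linear_combination (norm := abel) -h2
  rw [hback, h3, smul_mul_assoc, sub_mul, one_mul]
  exact Submodule.smul_mem _ _ (sub_mem (Submodule.subset_span hψ)
    (Submodule.subset_span (hh.mul hψ)))

/-- An element which is an eigenvector modulo the span of the group-likes lies in that span. -/
theorem mem_of_eigen {x : A} (hx : ∀ f : Module.Dual k A, ∃ μ : k, T f x - μ • x ∈ S k A) : x ∈ S k A := by
  classical
  by_contra hxS
  let G := {a : A | IsGroupLikeElem k a}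
  have hli : LinearIndependent k (fun g : G => (g : A)) := linearIndepOn_isGroupLikeElem (R := k) (A := A)
  let b : Module.Basis G k (S k A) := (Module.Basis.span hli).map
    (LinearEquiv.ofEq _ _ (by rw [Subtype.range_coe]; rfl))
  have hb : ∀ g, (b g : A) = (g : A) := fun g => by simp [b, Module.Basis.span_apply]
  -- a projection onto `S` killing `x`
  obtain ⟨φ, hφx, hφS⟩ : ∃ φ : Module.Dual k A, φ x = 1 ∧ S k A ≤ LinearMap.ker φ := by
    obtain ⟨φ, h1, h2⟩ := Submodule.exists_le_ker_of_notMem hxS
    exact ⟨(φ x)⁻¹ • φ, by simp [h1], fun s hs => by simp [LinearMap.mem_ker.1 (h2 hs)]⟩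
  obtain ⟨π, hπ⟩ := (S k A).exists_isCompl.imp fun _ h => h
  obtain ⟨p, hp⟩ : ∃ p : A →ₗ[k] S k A, ∀ s : S k A, p s = s :=
    (S k A).subtype.exists_leftInverse_of_injective (Submodule.ker_subtype _) |>.imp
      fun p hp s => LinearMap.congr_fun hp s
  let ψ := P φ x
  have hz : (Coalgebra.comul (R := k) (A := A)) x - x ⊗ₜ[k] ψ ∈ LinearMap.range ((S k A).subtype.rTensor A) := by
    refine ((rTensor_exact A (LinearMap.exact_subtype_mkQ (S k A)) (Submodule.mkQ_surjective _)) _).1 ?_
    refine GrothLib.Comodule.ext_dual (k := k) (C := A) fun f => ?_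
    have e : ∀ z : A ⊗[k] A, TensorProduct.rid k _ (f.lTensor _ ((S k A).mkQ.rTensor A z)) =
        (S k A).mkQ (TensorProduct.rid k A (f.lTensor A z)) := fun z => by
      induction z using TensorProduct.induction_on with
      | zero => simp
      | tmul a c => simp
      | add a c ha hc => simp only [map_add, ha, hc]
    rw [e, map_zero, map_zero, Submodule.mkQ_apply, Submodule.Quotient.mk_eq_zero, map_sub, map_sub,
      LinearMap.lTensor_tmul, TensorProduct.rid_tmul]
    obtain ⟨μ, hμ⟩ := hx f
    change T f x - f ψ • x ∈ S k A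
    have hfψ : f ψ = μ := by
      have h0 : φ (T f x - μ • x) = 0 := hφS hμ
      rw [map_sub, map_smul, hφx, smul_eq_mul, mul_one, sub_eq_zero] at h0
      rw [← h0]
      change f (TensorProduct.lid k A (φ.rTensor A ((Coalgebra.comul (R := k) (A := A)) x))) = φ (TensorProduct.rid k A (f.lTensor A ((Coalgebra.comul (R := k) (A := A)) x)))
      induction (Coalgebra.comul (R := k) (A := A)) x using TensorProduct.induction_on with
      | zero => simp
      | tmul a c => simp [mul_comm]
      | add a c ha hc => simp only [map_add, ha, hc]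
    rwa [hfψ]
  obtain ⟨z, hz⟩ := hz
  have hΔx : (Coalgebra.comul (R := k) (A := A)) x = x ⊗ₜ[k] ψ + (S k A).subtype.rTensor A z := by rw [hz, add_sub_cancel]
  have hPS : ∀ (θ : Module.Dual k A), S k A ≤ LinearMap.ker θ → ∀ s ∈ S k A, P θ s = 0 := by
    intro θ hθ s hs
    induction hs using Submodule.span_induction with
    | mem g hg => rw [P_groupLike θ hg, LinearMap.mem_ker.1 (hθ (Submodule.subset_span hg)), zero_smul]
    | zero => rw [map_zero]
    | add a b _ _ ha hb => rw [map_add, ha, hb, add_zero]
    | smul c a _ ha => rw [map_smul, ha, smul_zero]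
  have hψ : IsGroupLikeElem k ψ := by
    refine ⟨?_, ?_⟩
    · have : Coalgebra.counit (R := k) (P φ x) = φ x := by
        have h := congrArg (fun w => φ (TensorProduct.rid k A w)) (Coalgebra.lTensor_counit_comul (R := k) x)
        simp only [TensorProduct.rid_tmul, one_smul] at h
        rw [← h]
        change Coalgebra.counit (R := k) (TensorProduct.lid k A (φ.rTensor A ((Coalgebra.comul (R := k) (A := A)) x))) = _
        induction (Coalgebra.comul (R := k) (A := A)) x using TensorProduct.induction_on with
        | zero => simp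
        | tmul a c => simp [mul_comm]
        | add a c ha hc => simp only [map_add, ha, hc]
      exact this.trans hφx
    · rw [comul_P, hΔx, map_add, LinearMap.rTensor_tmul]
      have h0 : (P φ).rTensor A ((S k A).subtype.rTensor A z) = 0 := by
        rw [← LinearMap.comp_apply, ← LinearMap.rTensor_comp,
          show P φ ∘ₗ (S k A).subtype = 0 from LinearMap.ext fun s => hPS φ hφS s s.2, LinearMap.rTensor_zero,
          LinearMap.zero_apply]
      rw [h0, add_zero]
  -- the coefficients lie in `S`
  have hcoef : ∀ g : G, TensorProduct.lid k A ((b.coord g).rTensor A z) ∈ S k A := by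
    intro g
    let θ : Module.Dual k A := b.coord g ∘ₗ p - (b.coord g (p x)) • φ
    have hθs : ∀ s : S k A, θ s = b.coord g s := fun s => by
      simp [θ, hp, LinearMap.mem_ker.1 (hφS s.2)]
    have hθx : θ x = 0 := by simp [θ, hφx]
    have hPθ : P θ ∘ₗ (S k A).subtype = (b.coord g).smulRight (g : A) := b.ext fun h => by
      change P θ (b h : A) = b.coord g (b h) • (g : A)
      rw [hb, P_groupLike θ h.2, ← hb h, hθs, Module.Basis.coord_apply, Module.Basis.repr_self, Finsupp.single_apply]
      split_ifs with he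
      · subst he; rw [hb]
      · simp
    have hc : P θ x = TensorProduct.lid k A ((b.coord g).rTensor A z) := by
      change TensorProduct.lid k A (θ.rTensor A ((Coalgebra.comul (R := k) (A := A)) x)) = _
      rw [hΔx, map_add, map_add, LinearMap.rTensor_tmul, hθx, TensorProduct.zero_tmul, map_zero, zero_add,
        ← LinearMap.comp_apply (θ.rTensor A), ← LinearMap.rTensor_comp,
        show θ ∘ₗ (S k A).subtype = b.coord g from LinearMap.ext hθs]
    rw [← hc]
    refine skew_mem hnp g.2 hψ ?_
    rw [comul_P]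
    conv_lhs => rw [hΔx, map_add, LinearMap.rTensor_tmul, ← LinearMap.comp_apply ((P θ).rTensor A),
      ← LinearMap.rTensor_comp, hPθ]
    rw [hc]
    congr 1
    clear hz hΔx hc
    induction z using TensorProduct.induction_on with
    | zero => simp
    | tmul s a => simp [TensorProduct.smul_tmul]
    | add s t hs ht => simp only [map_add, TensorProduct.tmul_add, hs, ht]
  apply hxS
  have hx' : x - Coalgebra.counit (R := k) x • ψ =
      TensorProduct.lid k A ((Coalgebra.counit (R := k)).rTensor A ((S k A).subtype.rTensor A z)) := by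
    have h := congrArg (fun w => TensorProduct.lid k A w) (Coalgebra.rTensor_counit_comul (R := k) x)
    rw [hΔx] at h
    simp only [map_add, LinearMap.rTensor_tmul, TensorProduct.lid_tmul, one_smul] at h
    rw [sub_eq_iff_eq_add']
    exact h.symm
  have hmem : TensorProduct.lid k A ((Coalgebra.counit (R := k)).rTensor A ((S k A).subtype.rTensor A z)) ∈ S k A := by
    have hq : (S k A).mkQ.lTensor (S k A) z = 0 := by
      refine (TensorProduct.equivFinsuppOfBasisLeft b).injective (Finsupp.ext fun g => ?_)
      rw [map_zero, Finsupp.zero_apply, TensorProduct.equivFinsuppOfBasisLeft_apply,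
        ← LinearMap.comp_apply, LinearMap.rTensor_comp_lTensor, ← LinearMap.lTensor_comp_rTensor, LinearMap.comp_apply]
      have e : ∀ w : k ⊗[k] A, TensorProduct.lid k _ ((S k A).mkQ.lTensor k w) = (S k A).mkQ (TensorProduct.lid k A w) := fun w => by
        induction w using TensorProduct.induction_on with
        | zero => simp
        | tmul a c => simp
        | add a c ha hc => simp only [map_add, ha, hc]
      rw [e]
      exact (Submodule.Quotient.mk_eq_zero _).2 (hcoef g)
    rw [← Submodule.Quotient.mk_eq_zero, ← Submodule.mkQ_apply]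
    have e : (S k A).mkQ (TensorProduct.lid k A ((Coalgebra.counit (R := k)).rTensor A ((S k A).subtype.rTensor A z))) =
        TensorProduct.lid k _ (((Coalgebra.counit (R := k)) ∘ₗ (S k A).subtype).rTensor _ ((S k A).mkQ.lTensor (S k A) z)) := by
      clear hq hx' hz hΔx hcoef
      induction z using TensorProduct.induction_on with
      | zero => simp
      | tmul a c => simp
      | add a c ha hc => simp only [map_add, ha, hc]
    rw [e, hq, map_zero, map_zero]
  rw [← hx'] at hmem
  have := add_mem hmem (Submodule.smul_mem _ (Coalgebra.counit (R := k) x) (Submodule.subset_span hψ))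
  rwa [sub_add_cancel] at this

/-- Without primitive elements, a split group is diagonalisable. -/
theorem isDiagonalizable (hsplit : ∀ (f : Module.Dual k A) (a : A),
      ∃ l : Multiset k, aeval (T f) ((l.map fun μ => X - C μ).prod) a = 0) :
    HopfRep.IsDiagonalizable k A := by
  classical
  refine eq_top_iff.2 fun a _ => ?_
  change a ∈ S k A
  obtain ⟨U, hfin, haU, hUc⟩ := GrothLib.Comodule.exists_finite_subcomod (k := k) (C := A) a
  have hUT : ∀ f : Module.Dual k A, ∀ u ∈ U, T f u ∈ U := GrothLib.Comodule.isSubcomod_iff_op.1 hUc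
  by_contra haS
  have hex : ∃ n, ∃ W : Submodule k A, W ≤ U ∧ (∀ f, ∀ w ∈ W, T f w ∈ W) ∧ ¬ W ≤ S k A ∧
      S k A ⊓ U ≤ W ∧ Module.finrank k W = n :=
    ⟨_, U, le_rfl, hUT, fun h => haS (h haU), inf_le_right, rfl⟩
  obtain ⟨W, hWU, hWT, hWS, hle, hW⟩ := Nat.find_spec hex
  haveI : Module.Finite k W := Module.Finite.of_injective (Submodule.inclusion hWU) (Submodule.inclusion_injective hWU)
  obtain ⟨w₁, hw₁, hw₁S⟩ := SetLike.not_le_iff_exists.1 hWS
  refine hw₁S (mem_of_eigen hnp fun f => ?_)
  obtain ⟨l, hl⟩ := hsplit f w₁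
  -- an eigenvector modulo `S`
  have hfac : ∀ (l : Multiset k) (w : A), w ∈ W → w ∉ S k A →
      aeval (T f) ((l.map fun μ => X - C μ).prod) w ∈ S k A →
      ∃ μ : k, ∃ w' ∈ W, w' ∉ S k A ∧ T f w' - μ • w' ∈ S k A := by
    intro l
    induction l using Multiset.induction_on with
    | empty => intro w _ hwS h; simp at h; exact absurd h hwS
    | cons μ l ih =>
      intro w hwW hwS h
      by_cases hμ : T f w - μ • w ∈ S k A
      · exact ⟨μ, w, hwW, hwS, hμ⟩
      · refine ih (T f w - μ • w) (sub_mem (hWT f w hwW) (W.smul_mem μ hwW)) hμ ?_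
        rw [Multiset.map_cons, Multiset.prod_cons, mul_comm, map_mul, Module.End.mul_apply] at h
        simpa [Module.algebraMap_end_apply] using h
  obtain ⟨μ, w', hw', hw'S, hμ⟩ := hfac l w₁ hw₁ hw₁S (by rw [hl]; exact zero_mem _)
  let W' : Submodule k A := W ⊓ (S k A).comap (T f - μ • LinearMap.id)
  have hW'W : W' = W := by
    by_contra hne
    have hlt : W' < W := lt_of_le_of_ne inf_le_left hne
    refine Nat.find_min hex (hW ▸ Submodule.finrank_lt_finrank_of_lt hlt) ⟨W', inf_le_left.trans hWU, ?_,
      fun h => hw'S (h ⟨hw', by simpa using hμ⟩), ?_, rfl⟩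
    · rintro g w ⟨hw, hwμ⟩
      refine ⟨hWT g w hw, ?_⟩
      have hwμ' : T f w - μ • w ∈ S k A := by simpa using hwμ
      have := T_mem_S g hwμ'
      rw [map_sub, map_smul] at this
      simpa [T, GrothLib.Trig.op_comm f g w] using this
    · rintro s ⟨hs, hsU⟩
      exact ⟨hle ⟨hs, hsU⟩, by simpa using sub_mem (T_mem_S f hs) (Submodule.smul_mem (S k A) μ hs)⟩
  have : w₁ ∈ W' := hW'W.symm ▸ hw₁
  exact ⟨μ, by simpa using this.2⟩

end Core


section Split

variable {k : Type u} [Field k] {A : Type v} [CommRing A] [HopfAlgebra k A] [Coalgebra.IsCocomm k A]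

omit [Coalgebra.IsCocomm k A] in
/-- Every element has a monic annihilating polynomial of least degree for a translation operator. -/
theorem exists_annihilator (f : Module.Dual k A) (a : A) :
    ∃ q : k[X], q.Monic ∧ aeval (T f) q a = 0 ∧
      ∀ r : k[X], r.degree < q.degree → aeval (T f) r a = 0 → r = 0 := by
  classical
  obtain ⟨U, hfin, haU, hUc⟩ := GrothLib.Comodule.exists_finite_subcomod (k := k) (C := A) a
  let T' : Module.End k U := (T f).restrict (GrothLib.Comodule.isSubcomod_iff_op.1 hUc f)
  have hpow : ∀ (r : k[X]) (u : U), ((aeval T' r u : U) : A) = aeval (T f) r (u : A) := by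
    intro r
    induction r using Polynomial.induction_on with
    | C c => intro u; simp [Module.algebraMap_end_apply]
    | add p q hp hq => intro u; simp only [map_add, LinearMap.add_apply, Submodule.coe_add, hp, hq]
    | monomial n c ih =>
      intro u
      rw [pow_succ, ← mul_assoc, map_mul (aeval T'), map_mul (aeval (T f)), Module.End.mul_apply,
        Module.End.mul_apply, ih, aeval_X, aeval_X]
      rfl
  have hex : ∃ n, ∃ q : k[X], q.Monic ∧ aeval (T f) q a = 0 ∧ q.natDegree = n := by
    refine ⟨_, minpoly k T', minpoly.monic (Algebra.IsIntegral.isIntegral T'), ?_, rfl⟩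
    have h := hpow (minpoly k T') ⟨a, haU⟩
    have h0 : aeval T' (minpoly k T') = 0 := minpoly.aeval k T'
    simp only [h0, LinearMap.zero_apply, ZeroMemClass.coe_zero] at h
    exact h.symm
  obtain ⟨q, hq, hqa, hdeg⟩ := Nat.find_spec hex
  refine ⟨q, hq, hqa, fun r hr hra => ?_⟩
  by_contra hr0
  refine Nat.find_min hex (m := r.natDegree) ?_ ⟨r * C r.leadingCoeff⁻¹, monic_mul_leadingCoeff_inv hr0, ?_,
    natDegree_mul_C (inv_ne_zero (leadingCoeff_ne_zero.2 hr0))⟩
  · rw [← hdeg]; exact natDegree_lt_natDegree hr0 hr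
  · rw [mul_comm, map_mul, Module.End.mul_apply, hra, map_zero]

omit [Coalgebra.IsCocomm k A] in
theorem split_of_isAlgClosed [IsAlgClosed k] (f : Module.Dual k A) (a : A) :
    ∃ l : Multiset k, aeval (T f) ((l.map fun μ => X - C μ).prod) a = 0 := by
  obtain ⟨q, hq, hqa, -⟩ := exists_annihilator f a
  exact ⟨q.roots, by rw [← (IsAlgClosed.splits q).eq_prod_roots_of_monic hq]; exact hqa⟩

theorem isDiagonalizable_of_isAlgClosed [IsAlgClosed k]
    (hnp : ∀ x : A, Coalgebra.comul (R := k) x = x ⊗ₜ[k] (1 : A) + (1 : A) ⊗ₜ[k] x → x = 0) :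
    HopfRep.IsDiagonalizable k A :=
  isDiagonalizable hnp split_of_isAlgClosed

end Split

section BaseChange

variable {k : Type u} [Field k] (K : Type u) [Field K] [Algebra k K] {A : Type v} [CommRing A] [HopfAlgebra k A]

/-- pairs of base-changed elements -/
noncomputable def pairMap : A ⊗[k] A →ₗ[k] (K ⊗[k] A) ⊗[K] (K ⊗[k] A) :=
  ((TensorProduct.AlgebraTensorModule.tensorTensorTensorComm k K k K K K A A).toLinearMap.restrictScalars k) ∘ₗ
    TensorProduct.mk k (K ⊗[K] K) (A ⊗[k] A) ((1 : K) ⊗ₜ[K] (1 : K))

theorem pairMap_tmul (a b : A) : pairMap K (a ⊗ₜ[k] b) = ((1 : K) ⊗ₜ[k] a) ⊗ₜ[K] ((1 : K) ⊗ₜ[k] b) := by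
  simp [pairMap]

theorem comul_one_tmul (a : A) :
    Coalgebra.comul (R := K) ((1 : K) ⊗ₜ[k] a : K ⊗[k] A) = pairMap K (Coalgebra.comul (R := k) a) := by
  rw [TensorProduct.comul_def]
  simp [pairMap]

/-- a coordinate on pairs -/
noncomputable def coord₂ (θ : K →ₗ[k] k) : (K ⊗[k] A) ⊗[K] (K ⊗[k] A) →ₗ[k] A ⊗[k] A :=
  (TensorProduct.lid k (A ⊗[k] A)).toLinearMap ∘ₗ θ.rTensor (A ⊗[k] A) ∘ₗ
    (((TensorProduct.lid K K).toLinearMap.restrictScalars k).rTensor (A ⊗[k] A)) ∘ₗ
      (TensorProduct.AlgebraTensorModule.tensorTensorTensorComm k K k K K K A A).symm.toLinearMap.restrictScalars k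

theorem coord₂_tmul (θ : K →ₗ[k] k) (r s : K) (x y : A) :
    coord₂ K θ ((r ⊗ₜ[k] x) ⊗ₜ[K] (s ⊗ₜ[k] y)) = θ (r * s) • (x ⊗ₜ[k] y) := by
  simp [coord₂]

/-- a coordinate -/
noncomputable def coord₁ (θ : K →ₗ[k] k) : K ⊗[k] A →ₗ[k] A :=
  (TensorProduct.lid k A).toLinearMap ∘ₗ θ.rTensor A

theorem coord₂_comul (θ : K →ₗ[k] k) (z : K ⊗[k] A) :
    coord₂ K θ (Coalgebra.comul (R := K) z) = Coalgebra.comul (R := k) (coord₁ K θ z) := by
  induction z using TensorProduct.induction_on with
  | zero => simp
  | tmul r a =>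
    have hr : (r ⊗ₜ[k] a : K ⊗[k] A) = r • ((1 : K) ⊗ₜ[k] a) := by
      rw [TensorProduct.smul_tmul', smul_eq_mul, mul_one]
    have hrc : coord₁ K θ (r ⊗ₜ[k] a) = θ r • a := by simp [coord₁]
    rw [hrc, hr, map_smul (Coalgebra.comul (R := K)), comul_one_tmul, map_smul (Coalgebra.comul (R := k))]
    induction Coalgebra.comul (R := k) a using TensorProduct.induction_on with
    | zero => simp
    | tmul x y =>
      rw [pairMap_tmul, TensorProduct.smul_tmul', TensorProduct.smul_tmul', smul_eq_mul, mul_one, coord₂_tmul, mul_one]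
    | add s t hs ht => simp only [map_add, smul_add, hs, ht]
  | add s t hs ht => simp only [map_add, hs, ht]

theorem noPrim_baseChange
    (hnp : ∀ x : A, Coalgebra.comul (R := k) x = x ⊗ₜ[k] (1 : A) + (1 : A) ⊗ₜ[k] x → x = 0)
    (z : K ⊗[k] A) (hz : Coalgebra.comul (R := K) z = z ⊗ₜ[K] (1 : K ⊗[k] A) + (1 : K ⊗[k] A) ⊗ₜ[K] z) : z = 0 := by
  classical
  let b := Module.Free.chooseBasis k K
  have hL : ∀ i (z : K ⊗[k] A), coord₂ K (b.coord i) (z ⊗ₜ[K] (1 : K ⊗[k] A)) = coord₁ K (b.coord i) z ⊗ₜ[k] (1 : A) := by
    intro i z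
    induction z using TensorProduct.induction_on with
    | zero => simp
    | tmul r a => rw [Algebra.TensorProduct.one_def, coord₂_tmul]; simp [coord₁, TensorProduct.smul_tmul']
    | add s t hs ht => simp only [TensorProduct.add_tmul, map_add, hs, ht]
  have hR : ∀ i (z : K ⊗[k] A), coord₂ K (b.coord i) ((1 : K ⊗[k] A) ⊗ₜ[K] z) = (1 : A) ⊗ₜ[k] coord₁ K (b.coord i) z := by
    intro i z
    induction z using TensorProduct.induction_on with
    | zero => simp
    | tmul r a => rw [Algebra.TensorProduct.one_def, coord₂_tmul]; simp [coord₁, TensorProduct.tmul_smul]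
    | add s t hs ht => simp only [TensorProduct.tmul_add, map_add, hs, ht]
  refine (TensorProduct.equivFinsuppOfBasisLeft b).injective (Finsupp.ext fun i => ?_)
  rw [map_zero, Finsupp.zero_apply, TensorProduct.equivFinsuppOfBasisLeft_apply]
  exact hnp _ (by
    change Coalgebra.comul (R := k) (coord₁ K (b.coord i) z) = _
    rw [← coord₂_comul, hz, map_add, hL, hR]
    rfl)

theorem isCocomm_of_isDiagonalizable (h : HopfRep.IsDiagonalizable K (K ⊗[k] A)) : Coalgebra.IsCocomm k A := by
  refine ⟨LinearMap.ext fun a => ?_⟩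
  obtain ⟨θ, hθ⟩ : ∃ θ : Module.Dual k K, θ 1 = 1 := by
    obtain ⟨θ, h1⟩ : ∃ θ : Module.Dual k K, θ 1 ≠ 0 := by
      by_contra! hno
      exact one_ne_zero ((Module.forall_dual_apply_eq_zero_iff k _).1 hno)
    exact ⟨(θ 1)⁻¹ • θ, by rw [LinearMap.smul_apply, smul_eq_mul, inv_mul_cancel₀ h1]⟩
  have hc : ∀ z : K ⊗[k] A, TensorProduct.comm K _ _ (Coalgebra.comul (R := K) z) = Coalgebra.comul (R := K) z := by
    intro z
    have hz : z ∈ Submodule.span K {a : K ⊗[k] A | IsGroupLikeElem K a} := (show Submodule.span K _ = ⊤ from h) ▸ Submodule.mem_top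
    induction hz using Submodule.span_induction with
    | mem g hg => rw [IsGroupLikeElem.comul_eq_tmul_self hg, TensorProduct.comm_tmul]
    | zero => simp
    | add x y _ _ hx hy => simp only [map_add, hx, hy]
    | smul c x _ hx => simp only [map_smul, hx]
  have key : ∀ w : A ⊗[k] A, coord₂ K θ (pairMap K w) = w ∧
      coord₂ K θ (TensorProduct.comm K _ _ (pairMap K w)) = TensorProduct.comm k A A w := by
    intro w
    induction w using TensorProduct.induction_on with
    | zero => simp
    | tmul x y => simp [pairMap_tmul, coord₂_tmul, hθ]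
    | add x y hx hy => simp only [map_add, hx, hy, and_self]
  have h1 := congrArg (coord₂ K θ) (hc ((1 : K) ⊗ₜ[k] a))
  rw [comul_one_tmul, (key _).2, (key _).1] at h1
  exact h1

theorem aeval_T_baseChange (f : Module.Dual k A) (r : k[X]) (a : A) :
    aeval ((T f).baseChange K) r ((1 : K) ⊗ₜ[k] a) = (1 : K) ⊗ₜ[k] aeval (T f) r a := by
  induction r using Polynomial.induction_on generalizing a with
  | C c =>
    rw [aeval_C, aeval_C, Module.algebraMap_end_apply, Module.algebraMap_end_apply, TensorProduct.tmul_smul]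
  | add p q hp hq => simp only [map_add, LinearMap.add_apply, hp, hq, TensorProduct.tmul_add]
  | monomial n c ih =>
    rw [pow_succ, ← mul_assoc, map_mul (aeval ((T f).baseChange K)), map_mul (aeval (T f)), Module.End.mul_apply,
      Module.End.mul_apply, aeval_X, aeval_X, LinearMap.baseChange_tmul, ih]

/-- translation operators become diagonal after extension to a splitting field -/
theorem exists_separable_killing [Coalgebra.IsCocomm k A] (h : HopfRep.IsDiagonalizable K (K ⊗[k] A))
    (f : Module.Dual k A) (a : A) :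
    ∃ Q : K[X], Q.Separable ∧ aeval ((T f).baseChange K) Q ((1 : K) ⊗ₜ[k] a) = 0 := by
  classical
  let fK : K ⊗[k] A →ₗ[K] K := (TensorProduct.AlgebraTensorModule.rid k K K).toLinearMap ∘ₗ f.baseChange K
  have hT : ∀ z : K ⊗[k] A, (T f).baseChange K z =
      TensorProduct.rid K _ (fK.lTensor _ (Coalgebra.comul (R := K) z)) := by
    intro z
    induction z using TensorProduct.induction_on with
    | zero => simp
    | add x y hx hy => simp only [map_add, hx, hy]
    | tmul r b =>
      have hr : (r ⊗ₜ[k] b : K ⊗[k] A) = r • ((1 : K) ⊗ₜ[k] b) := by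
        rw [TensorProduct.smul_tmul', smul_eq_mul, mul_one]
      rw [hr, map_smul, map_smul (Coalgebra.comul (R := K)), map_smul, map_smul, comul_one_tmul,
        LinearMap.baseChange_tmul]
      congr 1
      change (1 : K) ⊗ₜ[k] TensorProduct.rid k A (f.lTensor A (Coalgebra.comul (R := k) b)) = _
      induction Coalgebra.comul (R := k) b using TensorProduct.induction_on with
      | zero => simp
      | tmul x y => simp [pairMap_tmul, fK, TensorProduct.rid_tmul, algebraMap_smul, TensorProduct.smul_tmul', -TensorProduct.smul_tmul]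
      | add x y hx hy => simp only [map_add, TensorProduct.tmul_add, hx, hy]
  have hmem : ((1 : K) ⊗ₜ[k] a : K ⊗[k] A) ∈ Submodule.span K {g : K ⊗[k] A | IsGroupLikeElem K g} :=
    (show Submodule.span K _ = ⊤ from h) ▸ Submodule.mem_top
  obtain ⟨c, s, hs, -, hc⟩ := Submodule.mem_span_iff_exists_finset_subset.1 hmem
  refine ⟨∏ μ ∈ s.image fK, (X - C μ), separable_prod_X_sub_C_iff'.2 (Set.injOn_id _) , ?_⟩
  rw [← hc, map_sum]
  refine Finset.sum_eq_zero fun g hg => ?_
  have hev : Module.End.HasEigenvector ((T f).baseChange K) (fK g) g ∨ g = 0 := by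
    rcases eq_or_ne g 0 with h0 | h0
    · exact Or.inr h0
    refine Or.inl ⟨Module.End.mem_eigenspace_iff.2 ?_, h0⟩
    rw [hT, IsGroupLikeElem.comul_eq_tmul_self (hs hg)]
    simp
  rw [map_smul]
  rcases hev with hev | hev
  · rw [Module.End.aeval_apply_of_hasEigenvector hev, Polynomial.eval_prod,
      Finset.prod_eq_zero (Finset.mem_image_of_mem fK hg) (by simp), zero_smul, smul_zero]
  · rw [hev, map_zero, smul_zero]

theorem isDiagonalizable_of_isSepClosed [Coalgebra.IsCocomm k A] [IsSepClosed k]
    (hnp : ∀ x : A, Coalgebra.comul (R := k) x = x ⊗ₜ[k] (1 : A) + (1 : A) ⊗ₜ[k] x → x = 0) :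
    HopfRep.IsDiagonalizable k A := by
  refine isDiagonalizable hnp fun f a => ?_
  let L := AlgebraicClosure k
  have hL : HopfRep.IsDiagonalizable L (L ⊗[k] A) :=
    isDiagonalizable_of_isAlgClosed (noPrim_baseChange L hnp)
  obtain ⟨Q, hQ, hQa⟩ := exists_separable_killing L hL f a
  obtain ⟨q, hq, hqa, hmin⟩ := exists_annihilator f a
  -- the extension of `q` divides `Q`
  have hdvd : q.map (algebraMap k L) ∣ Q := by
    rw [← Polynomial.modByMonic_eq_zero_iff_dvd (hq.map _)]
    set R := Q %ₘ q.map (algebraMap k L)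
    have hR : aeval ((T f).baseChange L) R ((1 : L) ⊗ₜ[k] a) = 0 := by
      have h := congrArg (fun P => aeval ((T f).baseChange L) P ((1 : L) ⊗ₜ[k] a))
        (Polynomial.modByMonic_add_div Q (q.map (algebraMap k L)))
      simp only [map_add, LinearMap.add_apply, mul_comm (q.map (algebraMap k L)), map_mul, Module.End.mul_apply,
        Polynomial.aeval_map_algebraMap, aeval_T_baseChange, hqa, TensorProduct.tmul_zero, map_zero, add_zero, hQa] at h
      exact h
    let b := Module.Free.chooseBasis k L
    have hdeg : R.degree < q.degree := by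
      have := Polynomial.degree_modByMonic_lt Q (hq.map (algebraMap k L))
      rwa [Polynomial.degree_map] at this
    by_contra hR0
    refine hR0 ?_
    ext n
    rw [Polynomial.coeff_zero]
    refine b.ext_elem fun i => ?_
    rw [map_zero, Finsupp.zero_apply]
    let r : k[X] := ∑ m ∈ Finset.range q.natDegree, C (b.repr (R.coeff m) i) * X ^ m
    have hr : aeval (T f) r a = 0 := by
      have h := congrArg (TensorProduct.equivFinsuppOfBasisLeft b · i) hR
      rw [R.as_sum_range' q.natDegree (natDegree_lt_natDegree hR0 hdeg)] at h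
      simp only [map_sum, LinearMap.sum_apply, Finsupp.finsetSum_apply, map_zero, Finsupp.zero_apply] at h
      simp only [r, map_sum, LinearMap.sum_apply]
      refine Eq.trans (Finset.sum_congr rfl fun m _ => ?_) h
      rw [← C_mul_X_pow_eq_monomial, map_mul, map_mul, aeval_C, aeval_C, Module.End.mul_apply, Module.End.mul_apply,
        Module.algebraMap_end_apply, Module.algebraMap_end_apply]
      have := aeval_T_baseChange L f (X ^ m) a
      rw [map_pow, map_pow, aeval_X, aeval_X] at this
      rw [map_pow, map_pow, aeval_X, aeval_X, this, TensorProduct.smul_tmul', smul_eq_mul, mul_one,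
        TensorProduct.equivFinsuppOfBasisLeft_apply]
      simp
    have hr0 : r = 0 := hmin r (by
      refine lt_of_lt_of_le ?_ (degree_eq_natDegree hq.ne_zero).ge
      exact degree_sum_fin_lt (fun m : Fin q.natDegree => b.repr (R.coeff m) i) |> fun h => by
        simpa [r, Finset.sum_range] using h) hr
    rcases Nat.lt_or_ge n q.natDegree with hn | hn
    · have := congrArg (fun P => P.coeff n) hr0
      simpa [r, finsetSum_coeff, coeff_C_mul, coeff_X_pow, hn] using this
    · rw [coeff_eq_zero_of_degree_lt (hdeg.trans_le ((degree_eq_natDegree hq.ne_zero).le.trans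
        (by exact_mod_cast hn))), map_zero, Finsupp.zero_apply]
  have hsep : q.Separable := (Polynomial.separable_map (algebraMap k L)).1 (hQ.of_dvd hdvd)
  exact ⟨q.roots, by
    rw [← (IsSepClosed.splits_of_separable q hsep).eq_prod_roots_of_monic hq]; exact hqa⟩

end BaseChange

theorem eq_zero_of_primitive_diag {K : Type u} [Field K] {B : Type v} [CommRing B] [Bialgebra K B]
    (hB : HopfRep.IsDiagonalizable K B) {p : B}
    (hp : CoalgebraStruct.comul (R := K) p = p ⊗ₜ[K] (1 : B) + (1 : B) ⊗ₜ[K] p) : p = 0 := by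
  classical
  let b : Module.Basis {a : B | IsGroupLikeElem K a} K B :=
    Module.Basis.mk (linearIndepOn_isGroupLikeElem (R := K) (A := B)) (by
      rw [show Set.range (fun x : {a : B | IsGroupLikeElem K a} => id (x : B)) =
        {a : B | IsGroupLikeElem K a} from Subtype.range_coe]
      exact (show Submodule.span K _ = ⊤ from hB).ge)
  have hb : ∀ g, b g = (g : B) := fun g => Module.Basis.mk_apply _ _ g
  let e1 : {a : B | IsGroupLikeElem K a} := ⟨1, IsGroupLikeElem.one⟩
  -- the coefficient at a pair `(g, g)` of the comultiplication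
  have hdiag : ∀ g, TensorProduct.lid K K (TensorProduct.map (b.coord g) (b.coord g) (CoalgebraStruct.comul (R := K) p)) =
      b.coord g p := by
    intro g
    have h : (TensorProduct.lid K K).toLinearMap ∘ₗ TensorProduct.map (b.coord g) (b.coord g) ∘ₗ
        CoalgebraStruct.comul (R := K) (A := B) = b.coord g := by
      refine b.ext fun g' => ?_
      rw [LinearMap.comp_apply, LinearMap.comp_apply, hb, show CoalgebraStruct.comul (R := K) (g' : B) = _ from
        (show IsGroupLikeElem K (g' : B) from g'.2).comul_eq_tmul_self, ← hb g']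
      simp [Finsupp.single_apply]
    exact LinearMap.congr_fun h p
  refine b.ext_elem fun g => ?_
  rw [map_zero, Finsupp.zero_apply]
  have h := hdiag g
  rw [hp] at h
  simp only [map_add, TensorProduct.map_tmul, TensorProduct.lid_tmul, smul_eq_mul] at h
  have h1 : b.coord g 1 = if e1 = g then (1 : K) else 0 := by
    rw [show (1 : B) = b e1 from (hb e1).symm, Module.Basis.coord_apply, b.repr_self, Finsupp.single_apply]
  rw [h1] at h
  change b.coord g p = 0
  split_ifs at h with hg
  · rw [mul_one, one_mul] at h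
    exact left_eq_add.1 h.symm
  · simpa using h.symm


end GrothLib.NoPrim
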