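import Groth.Agent.Lib.HopfAG.Unip
import Groth.Prelude.Def_SGA3t2b
import Mathlib.RingTheory.Bialgebra.TensorProduct
import Mathlib.RingTheory.TensorProduct.Free
import Mathlib.FieldTheory.IsAlgClosed.AlgebraicClosure

/-!
No homomorphisms between unipotent groups and groups of multiplicative type.
-/

universe u

open TensorProduct HopfRep

namespace GrothLib.TrivHom

variable {k : Type u} [Field k] (R : Type u) [CommRing R] [Algebra k R] {A : Type u} [CommRing A] [Bialgebra k A]

theorem comul_tmul_one (a : A) :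
    CoalgebraStruct.comul (R := R) ((1 : R) ⊗ₜ[k] a : R ⊗[k] A) =
      TensorProduct.AlgebraTensorModule.tensorTensorTensorComm k R k R R R A A
        (((1 : R) ⊗ₜ[R] (1 : R)) ⊗ₜ[k] CoalgebraStruct.comul (R := k) a) := by
  rw [TensorProduct.comul_def]
  simp

/-- pairs of base-changed elements -/
noncomputable def pairMap : A ⊗[k] A →ₗ[k] (R ⊗[k] A) ⊗[R] (R ⊗[k] A) :=
  ((TensorProduct.AlgebraTensorModule.tensorTensorTensorComm k R k R R R A A).toLinearMap.restrictScalars k) ∘ₗ
    TensorProduct.mk k (R ⊗[R] R) (A ⊗[k] A) ((1 : R) ⊗ₜ[R] (1 : R))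

theorem pairMap_tmul (a b : A) : pairMap R (a ⊗ₜ[k] b) = ((1 : R) ⊗ₜ[k] a) ⊗ₜ[R] ((1 : R) ⊗ₜ[k] b) := by
  simp [pairMap]

theorem comul_tmul_one' (a : A) :
    CoalgebraStruct.comul (R := R) ((1 : R) ⊗ₜ[k] a : R ⊗[k] A) = pairMap R (CoalgebraStruct.comul (R := k) a) :=
  comul_tmul_one R a

theorem eq_zero_of_primitive_diag {K : Type u} [Field K] {B : Type u} [CommRing B] [Bialgebra K B]
    (hB : HopfRep.IsDiagonalizable K B) {p : B}
    (hp : CoalgebraStruct.comul (R := K) p = p ⊗ₜ[K] (1 : B) + (1 : B) ⊗ₜ[K] p) : p = 0 := by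
  classical
  let b : Module.Basis {a : B | IsGroupLikeElem K a} K B :=
    Module.Basis.mk (linearIndepOn_isGroupLikeElem (R := K) (A := B)) (by
      rw [show Set.range (fun x : {a : B | IsGroupLikeElem K a} => id (x : B)) =
        {a : B | IsGroupLikeElem K a} from Subtype.range_coe]
      exact (show Submodule.span K _ = ⊤ from hB).ge)
  have hb : ∀ g, b g = (g : B) := fun g => Module.Basis.mk_apply _ _ g
  let e1 : {a : B | IsGroupLikeElem K a} := ⟨1, IsGroupLikeElem.one⟩
  -- the coefficient at a pair `(g, g)` of the comultiplication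
  have hdiag : ∀ g, TensorProduct.lid K K (TensorProduct.map (b.coord g) (b.coord g) (CoalgebraStruct.comul (R := K) p)) =
      b.coord g p := by
    intro g
    have h : (TensorProduct.lid K K).toLinearMap ∘ₗ TensorProduct.map (b.coord g) (b.coord g) ∘ₗ
        CoalgebraStruct.comul (R := K) (A := B) = b.coord g := by
      refine b.ext fun g' => ?_
      rw [LinearMap.comp_apply, LinearMap.comp_apply, hb, show CoalgebraStruct.comul (R := K) (g' : B) = _ from
        (show IsGroupLikeElem K (g' : B) from g'.2).comul_eq_tmul_self, ← hb g']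
      simp [Finsupp.single_apply]
    exact LinearMap.congr_fun h p
  refine b.ext_elem fun g => ?_
  rw [map_zero, Finsupp.zero_apply]
  have h := hdiag g
  rw [hp] at h
  simp only [map_add, TensorProduct.map_tmul, TensorProduct.lid_tmul, smul_eq_mul] at h
  have h1 : b.coord g 1 = if e1 = g then (1 : K) else 0 := by
    rw [show (1 : B) = b e1 from (hb e1).symm, Module.Basis.coord_apply, b.repr_self, Finsupp.single_apply]
  rw [h1] at h
  change b.coord g p = 0
  split_ifs at h with hg
  · rw [mul_one, one_mul] at h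
    exact left_eq_add.1 h.symm
  · simpa using h.symm

theorem eq_zero_of_primitive_base
    (hA : HopfRep.IsDiagonalizable (AlgebraicClosure k) (AlgebraicClosure k ⊗[k] A)) {p : A}
    (hp : CoalgebraStruct.comul (R := k) p = p ⊗ₜ[k] (1 : A) + (1 : A) ⊗ₜ[k] p) : p = 0 := by
  have h : ((1 : AlgebraicClosure k) ⊗ₜ[k] p : AlgebraicClosure k ⊗[k] A) = 0 := by
    refine eq_zero_of_primitive_diag hA ?_
    rw [comul_tmul_one', hp, map_add, pairMap_tmul, pairMap_tmul]
    rfl
  refine Algebra.TensorProduct.includeRight_injective (algebraMap k (AlgebraicClosure k)).injective ?_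
  rw [map_zero]
  exact h

theorem eq_zero_of_primitive (hA : HopfRep.IsDiagonalizable (AlgebraicClosure k) (AlgebraicClosure k ⊗[k] A))
    {p : R ⊗[k] A} (hp : CoalgebraStruct.comul (R := R) p =
      p ⊗ₜ[R] (1 : R ⊗[k] A) + (1 : R ⊗[k] A) ⊗ₜ[R] p) : p = 0 := by
  classical
  let b := Module.Free.chooseBasis k R
  let c : Module.Free.ChooseBasisIndex k R → (R ⊗[k] A →ₗ[k] A) := fun i =>
    (TensorProduct.lid k A).toLinearMap ∘ₗ (b.coord i).rTensor A
  -- coordinates of pairs
  let C2 : Module.Free.ChooseBasisIndex k R → ((R ⊗[k] A) ⊗[R] (R ⊗[k] A) →ₗ[k] A ⊗[k] A) := fun i =>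
    (TensorProduct.lid k (A ⊗[k] A)).toLinearMap ∘ₗ (b.coord i).rTensor (A ⊗[k] A) ∘ₗ
      ((TensorProduct.AlgebraTensorModule.tensorTensorTensorComm k R k R R R A A).symm.toLinearMap.restrictScalars k |> fun f =>
        ((TensorProduct.lid R R).toLinearMap.restrictScalars k).rTensor (A ⊗[k] A) ∘ₗ f)
  have hC : ∀ i (r s : R) (x y : A), C2 i ((r ⊗ₜ[k] x) ⊗ₜ[R] (s ⊗ₜ[k] y)) = b.coord i (r * s) • (x ⊗ₜ[k] y) :=
    fun i r s x y => by simp [C2]
  have hΔ : ∀ i (z : R ⊗[k] A), C2 i (CoalgebraStruct.comul (R := R) z) = CoalgebraStruct.comul (R := k) (c i z) := by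
    intro i z
    induction z using TensorProduct.induction_on with
    | zero => simp
    | tmul r a =>
      have hr : (r ⊗ₜ[k] a : R ⊗[k] A) = r • ((1 : R) ⊗ₜ[k] a) := by
        rw [TensorProduct.smul_tmul', smul_eq_mul, mul_one]
      have hrc : c i (r ⊗ₜ[k] a) = b.coord i r • a := by simp [c]
      rw [hrc, hr, map_smul (CoalgebraStruct.comul (R := R)), comul_tmul_one', map_smul (CoalgebraStruct.comul (R := k))]
      induction CoalgebraStruct.comul (R := k) a using TensorProduct.induction_on with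
      | zero => simp
      | tmul x y =>
        rw [pairMap_tmul, TensorProduct.smul_tmul', TensorProduct.smul_tmul', smul_eq_mul, mul_one, hC, mul_one]
      | add s t hs ht => simp only [map_add, smul_add, hs, ht]
    | add s t hs ht => simp only [map_add, hs, ht]
  have h1L : ∀ i (z : R ⊗[k] A), C2 i (z ⊗ₜ[R] (1 : R ⊗[k] A)) = c i z ⊗ₜ[k] (1 : A) := by
    intro i z
    induction z using TensorProduct.induction_on with
    | zero => simp
    | tmul r a =>
      rw [Algebra.TensorProduct.one_def, hC]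
      simp [c, TensorProduct.smul_tmul']
    | add s t hs ht => simp only [TensorProduct.add_tmul, map_add, hs, ht]
  have h1R : ∀ i (z : R ⊗[k] A), C2 i ((1 : R ⊗[k] A) ⊗ₜ[R] z) = (1 : A) ⊗ₜ[k] c i z := by
    intro i z
    induction z using TensorProduct.induction_on with
    | zero => simp
    | tmul r a =>
      rw [Algebra.TensorProduct.one_def, hC]
      simp [c, TensorProduct.tmul_smul]
    | add s t hs ht => simp only [TensorProduct.tmul_add, map_add, hs, ht]
  have hz : ∀ i, c i p = 0 := fun i => eq_zero_of_primitive_base hA (by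
    rw [← hΔ, hp, map_add, h1L, h1R])
  refine (TensorProduct.equivFinsuppOfBasisLeft b).injective (Finsupp.ext fun i => ?_)
  rw [map_zero, Finsupp.zero_apply]
  refine Eq.trans ?_ (hz i)
  generalize p = z
  induction z using TensorProduct.induction_on with
  | zero => simp
  | tmul r a => simp [c]
  | add s t hs ht => simp only [map_add, Finsupp.add_apply, hs, ht]

theorem bialgHom_unip_to_mult {AU AM : Type u} [CommRing AU] [CommRing AM] [HopfAlgebra k AU] [HopfAlgebra k AM]
    (hM : HopfRep.IsDiagonalizable (AlgebraicClosure k) (AlgebraicClosure k ⊗[k] AM)) (hU : HopfRep.IsUnipotent k AU)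
    (φ : R ⊗[k] AU →ₐc[R] R ⊗[k] AM) : SGA3t2b.IsTrivialBialgHom φ := by
  have key : ∀ (n : ℕ), ∀ a ∈ GrothLib.Unip.soc k AU AU n,
      φ ((1 : R) ⊗ₜ[k] a) = algebraMap R (R ⊗[k] AM) (algebraMap k R (CoalgebraStruct.counit (R := k) a)) := by
    intro n
    induction n with
    | zero => intro a ha; rw [(Submodule.mem_bot k).1 ha]; simp
    | succ n ih =>
      intro a ha
      rw [GrothLib.Unip.soc_succ] at ha
      obtain ⟨z, hz⟩ := GrothLib.Unip.mem_next.1 ha
      set y := φ ((1 : R) ⊗ₜ[k] a)
      set e : R := algebraMap k R (CoalgebraStruct.counit (R := k) a)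
      have hΔ : CoalgebraStruct.comul (R := R) y = y ⊗ₜ[R] (1 : R ⊗[k] AM) +
          TensorProduct.map φ.toLinearMap φ.toLinearMap (pairMap R ((GrothLib.Unip.soc k AU AU n).subtype.rTensor AU z)) := by
        rw [hz]
        change CoalgebraStruct.comul (R := R) (φ ((1 : R) ⊗ₜ[k] a)) = _
        rw [← CoalgHomClass.map_comp_comul_apply φ, comul_tmul_one']
        change _ = _ + TensorProduct.map φ.toLinearMap φ.toLinearMap (pairMap R
          (CoalgebraStruct.comul (R := k) a - a ⊗ₜ[k] (1 : AU)))
        rw [map_sub, map_sub, pairMap_tmul, TensorProduct.map_tmul]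
        have h1 : φ.toLinearMap ((1 : R) ⊗ₜ[k] (1 : AU)) = 1 := map_one φ
        rw [h1]
        change _ = y ⊗ₜ[R] (1 : R ⊗[k] AM) + (_ - y ⊗ₜ[R] (1 : R ⊗[k] AM))
        rw [add_sub_cancel]
        rfl
      -- the lower part is `1 ⊗ (y - e)`
      have hlow : TensorProduct.map φ.toLinearMap φ.toLinearMap (pairMap R ((GrothLib.Unip.soc k AU AU n).subtype.rTensor AU z)) =
          (1 : R ⊗[k] AM) ⊗ₜ[R] φ ((1 : R) ⊗ₜ[k] TensorProduct.lid k AU
            ((CoalgebraStruct.counit (R := k) (A := AU)).rTensor AU ((GrothLib.Unip.soc k AU AU n).subtype.rTensor AU z))) := by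
        clear hz hΔ
        induction z using TensorProduct.induction_on with
        | zero => simp
        | tmul x b =>
          simp only [LinearMap.rTensor_tmul, Submodule.coe_subtype, pairMap_tmul, TensorProduct.map_tmul,
            TensorProduct.lid_tmul, TensorProduct.tmul_smul]
          change φ ((1 : R) ⊗ₜ[k] (x : AU)) ⊗ₜ[R] φ ((1 : R) ⊗ₜ[k] b) = _
          rw [ih x x.2, Algebra.algebraMap_eq_smul_one, TensorProduct.smul_tmul,
            ← map_smul φ]
          congr 2
          rw [algebraMap_smul]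
        | add s t hs ht => simp only [map_add, TensorProduct.tmul_add, hs, ht]
      rw [hlow, hz] at hΔ
      have hlid : (1 : R) ⊗ₜ[k] TensorProduct.lid k AU ((CoalgebraStruct.counit (R := k) (A := AU)).rTensor AU
          (HopfRep.Comod.coact (k := k) (A := AU) a - a ⊗ₜ[k] (1 : AU))) =
          ((1 : R) ⊗ₜ[k] a : R ⊗[k] AU) - algebraMap R (R ⊗[k] AU) e := by
        change (1 : R) ⊗ₜ[k] TensorProduct.lid k AU ((CoalgebraStruct.counit (R := k) (A := AU)).rTensor AU
          (CoalgebraStruct.comul (R := k) a - a ⊗ₜ[k] (1 : AU))) = _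
        rw [map_sub, map_sub, Coalgebra.rTensor_counit_comul, LinearMap.rTensor_tmul, TensorProduct.lid_tmul,
          TensorProduct.lid_tmul, one_smul, TensorProduct.tmul_sub]
        congr 1
        simp [e, Algebra.algebraMap_eq_smul_one, TensorProduct.smul_tmul', Algebra.TensorProduct.one_def]
      rw [hlid] at hΔ
      have hφe : φ (((1 : R) ⊗ₜ[k] a : R ⊗[k] AU) - algebraMap R (R ⊗[k] AU) e) = y - algebraMap R (R ⊗[k] AM) e := by
        rw [map_sub]
        congr 1
        exact AlgHomClass.commutes φ e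
      rw [hφe] at hΔ
      have h0 : y - algebraMap R (R ⊗[k] AM) e = 0 := by
        refine eq_zero_of_primitive R hM ?_
        rw [map_sub, hΔ, Algebra.algebraMap_eq_smul_one, map_smul, Bialgebra.comul_one, TensorProduct.sub_tmul,
          TensorProduct.tmul_sub, TensorProduct.tmul_smul,
          show (1 : (R ⊗[k] AM) ⊗[R] (R ⊗[k] AM)) = (1 : R ⊗[k] AM) ⊗ₜ[R] (1 : R ⊗[k] AM) from rfl,
          TensorProduct.smul_tmul']
        abel
      exact sub_eq_zero.1 h0
  intro x
  induction x using TensorProduct.induction_on with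
  | zero => simp
  | tmul r a =>
    obtain ⟨n, hn⟩ := GrothLib.Unip.exists_mem_soc hU a
    have hr : (r ⊗ₜ[k] a : R ⊗[k] AU) = r • ((1 : R) ⊗ₜ[k] a) := by
      rw [TensorProduct.smul_tmul', smul_eq_mul, mul_one]
    rw [hr, map_smul, key n a hn, map_smul, smul_eq_mul, map_mul, Algebra.smul_def]
    congr 1
    simp [Algebra.algebraMap_eq_smul_one]
  | add s t hs ht => simp only [map_add, hs, ht]

theorem bialgHom_mult_to_unip {AU AM : Type u} [CommRing AU] [CommRing AM] [HopfAlgebra k AU] [HopfAlgebra k AM]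
    (hM : HopfRep.IsDiagonalizable (AlgebraicClosure k) (AlgebraicClosure k ⊗[k] AM)) (hU : HopfRep.IsUnipotent k AU)
    (ψ : AM →ₐc[k] AU) : SGA3t2b.IsTrivialBialgHom ψ := by
  classical
  let K := AlgebraicClosure k
  let ι : AU →ₗ[k] K ⊗[k] AU := TensorProduct.mk k K AU 1
  let F : ℕ → Submodule K (K ⊗[k] AU) := fun n => (GrothLib.Unip.soc k AU AU n).baseChange K
  -- the group-likes of the base change are trivial
  have hone : ∀ (n : ℕ) (χ : K ⊗[k] AU), IsGroupLikeElem K χ → χ ∈ F n → χ = 1 := by
    intro n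
    induction n with
    | zero =>
      intro χ hχ h
      have h0 : χ = 0 := by
        simpa [F, GrothLib.Unip.soc_zero] using h
      have := hχ.counit_eq_one
      rw [h0, map_zero] at this
      exact absurd this zero_ne_one
    | succ n ih =>
      intro χ hχ h
      by_contra hne
      have hnot : χ ∉ F n := fun h' => hne (ih χ hχ h')
      obtain ⟨θ, hθ1, hθ⟩ : ∃ θ : Module.Dual K (K ⊗[k] AU), θ χ = 1 ∧ ∀ x ∈ F n, θ x = 0 := by
        have h1 : (F n).mkQ χ ≠ 0 := fun h0 => hnot ((Submodule.Quotient.mk_eq_zero _).1 h0)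
        obtain ⟨θ₀, hθ₀⟩ : ∃ θ₀ : Module.Dual K ((K ⊗[k] AU) ⧸ F n), θ₀ ((F n).mkQ χ) ≠ 0 := by
          by_contra! hno
          exact h1 ((Module.forall_dual_apply_eq_zero_iff K _).1 hno)
        refine ⟨(θ₀ ((F n).mkQ χ))⁻¹ • (θ₀ ∘ₗ (F n).mkQ), ?_, fun x hx => ?_⟩
        · simp only [LinearMap.smul_apply, LinearMap.comp_apply, smul_eq_mul]
          exact inv_mul_cancel₀ hθ₀
        · simp [Submodule.mkQ_apply, (Submodule.Quotient.mk_eq_zero _).2 hx]
      let Θ : (K ⊗[k] AU) ⊗[K] (K ⊗[k] AU) →ₗ[K] K ⊗[k] AU :=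
        (TensorProduct.lid K _).toLinearMap ∘ₗ θ.rTensor _
      have hdev : ∀ x ∈ F (n + 1), Θ (CoalgebraStruct.comul (R := K) x - x ⊗ₜ[K] (1 : K ⊗[k] AU)) = 0 := by
        intro x hx
        simp only [F, Submodule.baseChange_eq_span] at hx
        induction hx using Submodule.span_induction with
        | mem y hy =>
          obtain ⟨a, ha, rfl⟩ := hy
          rw [GrothLib.Unip.soc_succ] at ha
          obtain ⟨z, hz⟩ := GrothLib.Unip.mem_next.1 ha
          change Θ (CoalgebraStruct.comul (R := K) ((1 : K) ⊗ₜ[k] a) - ((1 : K) ⊗ₜ[k] a) ⊗ₜ[K] ((1 : K) ⊗ₜ[k] (1 : AU))) = 0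
          rw [comul_tmul_one', ← pairMap_tmul, ← map_sub]
          change Θ (pairMap K (HopfRep.Comod.coact (k := k) (A := AU) a - a ⊗ₜ[k] (1 : AU))) = 0
          rw [← hz]
          clear hz
          induction z using TensorProduct.induction_on with
          | zero => simp
          | tmul p q =>
            simp only [LinearMap.rTensor_tmul, Submodule.coe_subtype, pairMap_tmul, Θ, LinearMap.comp_apply,
              LinearEquiv.coe_coe, TensorProduct.lid_tmul]
            rw [hθ _ (Submodule.tmul_mem_baseChange_of_mem _ p.2), zero_smul]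
          | add s t hs ht => simp only [map_add, hs, ht, add_zero]
        | zero => simp
        | add a b _ _ ha hb =>
          have : CoalgebraStruct.comul (R := K) (a + b) - (a + b) ⊗ₜ[K] (1 : K ⊗[k] AU) =
              (CoalgebraStruct.comul (R := K) a - a ⊗ₜ[K] (1 : K ⊗[k] AU)) +
              (CoalgebraStruct.comul (R := K) b - b ⊗ₜ[K] (1 : K ⊗[k] AU)) := by
            rw [map_add, TensorProduct.add_tmul]; abel
          rw [this, map_add, ha, hb, add_zero]
        | smul c a _ ha =>
          rw [map_smul, ← TensorProduct.smul_tmul', map_sub, map_smul, map_smul, ← smul_sub, ← map_sub, ha, smul_zero]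
      have h2 := hdev χ h
      rw [hχ.comul_eq_tmul_self] at h2
      simp only [Θ, map_sub, LinearMap.comp_apply, LinearMap.rTensor_tmul, LinearEquiv.coe_coe, TensorProduct.lid_tmul,
        hθ1, one_smul, sub_eq_zero] at h2
      exact hne h2
  have hall : ∀ χ : K ⊗[k] AU, IsGroupLikeElem K χ → χ = 1 := by
    intro χ hχ
    have htop : ∀ x : K ⊗[k] AU, ∃ n, x ∈ F n := by
      intro x
      induction x using TensorProduct.induction_on with
      | zero => exact ⟨0, zero_mem _⟩
      | tmul c a =>
        obtain ⟨n, hn⟩ := GrothLib.Unip.exists_mem_soc hU a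
        exact ⟨n, Submodule.tmul_mem_baseChange_of_mem _ hn⟩
      | add s t hs ht =>
        obtain ⟨a, ha⟩ := hs
        obtain ⟨b, hb⟩ := ht
        have hmono : ∀ {a b : ℕ}, a ≤ b → F a ≤ F b := fun h => by
          simp only [F, Submodule.baseChange_eq_span]
          exact Submodule.span_mono (Submodule.map_mono (GrothLib.Unip.soc_mono h))
        exact ⟨max a b, add_mem (hmono (le_max_left a b) ha) (hmono (le_max_right a b) hb)⟩
    obtain ⟨n, hn⟩ := htop χ
    exact hone n χ hχ hn
  let ψK : K ⊗[k] AM →ₗ[K] K ⊗[k] AU := (ψ : AM →ₐ[k] AU).toLinearMap.baseChange K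
  let triv : K ⊗[k] AM →ₗ[K] K ⊗[k] AU :=
    (CoalgebraStruct.counit (R := K) (A := K ⊗[k] AM)).smulRight (1 : K ⊗[k] AU)
  have hψΔ : ∀ x : K ⊗[k] AM, CoalgebraStruct.comul (R := K) (ψK x) =
      TensorProduct.map ψK ψK (CoalgebraStruct.comul (R := K) x) := by
    intro x
    induction x using TensorProduct.induction_on with
    | zero => simp
    | tmul c a =>
      have hr : (c ⊗ₜ[k] a : K ⊗[k] AM) = c • ((1 : K) ⊗ₜ[k] a) := by
        rw [TensorProduct.smul_tmul', smul_eq_mul, mul_one]
      rw [hr, map_smul, map_smul, map_smul, map_smul]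
      congr 1
      change CoalgebraStruct.comul (R := K) ((1 : K) ⊗ₜ[k] ψ a) = _
      rw [comul_tmul_one', comul_tmul_one', ← CoalgHomClass.map_comp_comul_apply ψ]
      induction CoalgebraStruct.comul (R := k) a using TensorProduct.induction_on with
      | zero => simp
      | tmul p q => simp [pairMap_tmul, ψK]
      | add s t hs ht => simp only [map_add, hs, ht]
    | add s t hs ht => simp only [map_add, hs, ht]
  have hψε : ∀ x : K ⊗[k] AM, CoalgebraStruct.counit (R := K) (ψK x) = CoalgebraStruct.counit (R := K) x := by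
    intro x
    induction x using TensorProduct.induction_on with
    | zero => simp
    | tmul c a => simp [ψK, TensorProduct.counit_tmul, CoalgHomClass.counit_comp_apply ψ]
    | add s t hs ht => simp only [map_add, hs, ht]
  have heq : ψK = triv := by
    refine LinearMap.ext_on (show Submodule.span K {a : K ⊗[k] AM | IsGroupLikeElem K a} = ⊤ from hM) fun g hg => ?_
    have hg' : IsGroupLikeElem K (ψK g) :=
      ⟨(hψε g).trans hg.counit_eq_one, by rw [hψΔ, hg.comul_eq_tmul_self, TensorProduct.map_tmul]⟩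
    rw [hall _ hg']
    simp [triv, hg.counit_eq_one]
  intro a
  have h := LinearMap.congr_fun heq ((1 : K) ⊗ₜ[k] a)
  refine Algebra.TensorProduct.includeRight_injective (A := K) (algebraMap k K).injective ?_
  change (1 : K) ⊗ₜ[k] ψ a = (1 : K) ⊗ₜ[k] algebraMap k AU (CoalgebraStruct.counit (R := k) a)
  refine h.trans ?_
  simp [triv, TensorProduct.counit_tmul, Algebra.algebraMap_eq_smul_one, TensorProduct.smul_tmul',
    Algebra.TensorProduct.one_def]

end GrothLib.TrivHom
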