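import Groth.Agent.Lib.HopfAG.Unip
import Mathlib.RingTheory.HopfAlgebra.Convolution
import Mathlib.RingTheory.Bialgebra.Convolution
import Mathlib.RingTheory.Polynomial.Pochhammer
import Mathlib.Algebra.Polynomial.Roots
import Mathlib.Algebra.Polynomial.AlgebraMap
import Mathlib.Algebra.CharP.Lemmas
import Mathlib.RingTheory.FiniteType
import Mathlib.GroupTheory.Nilpotent

/-!
# The rational points of a unipotent group
-/

universe u v

set_option linter.style.haveILetI false

open TensorProduct HopfRep WithConv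
open scoped commutatorElement

namespace GrothLib.Unip

variable {k : Type u} [Field k] {A : Type v} [CommRing A]

local notation "L" => WithConv (A →ₗ[k] k)

section Bialgebra

variable [Bialgebra k A]

/-- The functional kills the `i`-th socle step. -/
def Kills (i : ℕ) (φ : L) : Prop := ∀ a ∈ soc k A A i, φ a = 0

theorem kills_mul {i j : ℕ} {φ ψ : L} (hφ : Kills i φ) (hψ : Kills j ψ) : Kills (i + j) (φ * ψ) := by
  intro a ha
  have h : ∀ t : A ⊗[k] A, LinearMap.mul' k k (TensorProduct.map φ.ofConv ψ.ofConv t) =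
      ψ.ofConv (TensorProduct.lid k A (φ.ofConv.rTensor A t)) := fun t => by
    induction t using TensorProduct.induction_on with
    | zero => simp
    | tmul p q => simp
    | add p q hp hq => simp only [map_add, hp, hq]
  rw [LinearMap.convMul_apply, h]
  exact hψ _ (cfMap_mem_soc hφ j (by rwa [add_comm]))

theorem kills_zero_left (φ : L) : Kills 0 φ := fun a ha => by
  rw [(Submodule.mem_bot k).mp ha, map_zero]

theorem kills_mono {i j : ℕ} (h : i ≤ j) {φ : L} (hφ : Kills j φ) : Kills i φ :=
  fun a ha => hφ a (soc_mono h ha)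

theorem kills_add {i : ℕ} {φ ψ : L} (hφ : Kills i φ) (hψ : Kills i ψ) : Kills i (φ + ψ) := fun a ha => by
  change φ.ofConv a + ψ.ofConv a = 0
  rw [show φ.ofConv a = 0 from hφ a ha, show ψ.ofConv a = 0 from hψ a ha, add_zero]

theorem kills_neg {i : ℕ} {φ : L} (hφ : Kills i φ) : Kills i (-φ) := fun a ha => by
  change -(φ.ofConv a) = 0
  rw [show φ.ofConv a = 0 from hφ a ha, neg_zero]

theorem kills_sub {i : ℕ} {φ ψ : L} (hφ : Kills i φ) (hψ : Kills i ψ) : Kills i (φ - ψ) := by
  rw [sub_eq_add_neg]; exact kills_add hφ (kills_neg hψ)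

theorem kills_mul_left {i : ℕ} (φ : L) {ψ : L} (hψ : Kills i ψ) : Kills i (φ * ψ) :=
  zero_add i ▸ kills_mul (kills_zero_left φ) hψ

theorem kills_mul_right {i : ℕ} {φ : L} (hφ : Kills i φ) (ψ : L) : Kills i (φ * ψ) :=
  add_zero i ▸ kills_mul hφ (kills_zero_left ψ)

theorem kills_pow {i : ℕ} {φ : L} (hφ : Kills i φ) : ∀ n, Kills (n * i) (φ ^ n)
  | 0 => by rw [zero_mul]; exact kills_zero_left _
  | n + 1 => by rw [Nat.succ_mul, pow_succ]; exact kills_mul (kills_pow hφ n) hφ

theorem exists_soc_adjoin [Algebra.FiniteType k A] (hU : ∀ a : A, ∃ n, a ∈ soc k A A n) :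
    ∃ m : ℕ, Algebra.adjoin k (soc k A A m : Set A) = ⊤ := by
  classical
  obtain ⟨s, hs⟩ := ‹Algebra.FiniteType k A›.out
  choose n hn using hU
  refine ⟨s.sup n, eq_top_iff.mpr (hs ▸ Algebra.adjoin_mono fun a ha => ?_)⟩
  exact soc_mono (Finset.le_sup ha) (hn a)

/-- A point, as a functional. -/
noncomputable def lin (g : WithConv (A →ₐ[k] k)) : L := toConv g.ofConv.toLinearMap

theorem lin_mul (g h : WithConv (A →ₐ[k] k)) : lin (g * h) = lin g * lin h :=
  AlgHom.toLinearMap_convMul g h

theorem lin_one : lin (1 : WithConv (A →ₐ[k] k)) = 1 := rfl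

theorem lin_pow (g : WithConv (A →ₐ[k] k)) (n : ℕ) : lin (g ^ n) = lin g ^ n :=
  AlgHom.toLinearMap_convPow g n

theorem eq_of_kills {m : ℕ} (hm : Algebra.adjoin k (soc k A A m : Set A) = ⊤) {g h : WithConv (A →ₐ[k] k)}
    (hgh : Kills m (lin g - lin h)) : g = h := by
  refine WithConv.ext (AlgHom.ext_of_adjoin_eq_top hm fun a ha => ?_)
  have := hgh a ha
  change g.ofConv a - h.ofConv a = 0 at this
  exact sub_eq_zero.mp this

theorem kills_one_sub_one (g : WithConv (A →ₐ[k] k)) : Kills 1 (lin g - 1) := fun a ha => by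
  rw [soc_regular_one] at ha
  obtain ⟨c, rfl⟩ := Submodule.mem_span_singleton.mp ha
  change g.ofConv (c • (1 : A)) - algebraMap k k (Coalgebra.counit (R := k) (c • (1 : A))) = 0
  simp

/-- Powers prime to the characteristic are injective, graded step. -/
theorem kills_pow_sub_pow {i : ℕ} {g h : L} (hg : Kills 1 (g - 1)) (hh : Kills 1 (h - 1))
    (hgh : Kills i (g - h)) : ∀ e : ℕ, Kills (i + 1) (g ^ e - h ^ e - (e : L) * (g - h))
  | 0 => by simp only [pow_zero, sub_self, Nat.cast_zero, zero_mul]; exact fun a _ => rfl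
  | e + 1 => by
    have ih := kills_pow_sub_pow hg hh hgh e
    have hpow : Kills i (g ^ e - h ^ e) := by
      have := kills_add (kills_mono i.le_succ ih) (kills_mul_left (e : L) hgh)
      rwa [sub_add_cancel] at this
    have hh' : Kills 1 (h ^ e - 1) := by
      clear ih hpow hgh
      induction e with
      | zero => rw [pow_zero, sub_self]; exact fun a _ => rfl
      | succ e ihe =>
        rw [pow_succ, show h ^ e * h - 1 = (h ^ e - 1) * h + (h - 1) by rw [sub_mul, one_mul]; abel]
        exact kills_add (kills_mul_right ihe _) hh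
    rw [show g ^ (e + 1) - h ^ (e + 1) - ((e + 1 : ℕ) : L) * (g - h) =
        (g - 1) * (g ^ e - h ^ e) + (g ^ e - h ^ e - (e : L) * (g - h)) + (g - h) * (h ^ e - 1) by
      rw [pow_succ', pow_succ', Nat.cast_succ]; simp only [sub_mul, mul_sub, add_mul, one_mul, mul_one]; abel]
    exact kills_add (kills_add (add_comm 1 i ▸ kills_mul hg hpow) ih) (kills_mul hgh hh')

theorem pow_injective [Algebra.FiniteType k A] (hU : ∀ a : A, ∃ n, a ∈ soc k A A n) {e : ℕ}
    (he : (e : k) ≠ 0) : Function.Injective fun g : WithConv (A →ₐ[k] k) => g ^ e := by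
  intro g h hgh
  obtain ⟨m, hm⟩ := exists_soc_adjoin hU
  refine eq_of_kills hm ?_
  suffices ∀ i, Kills i (lin g - lin h) from this m
  intro i
  induction i with
  | zero => exact kills_zero_left _
  | succ i ih =>
    have h1 := kills_pow_sub_pow (kills_one_sub_one g) (kills_one_sub_one h) ih e
    simp only [← lin_pow] at h1
    rw [show g ^ e = h ^ e from hgh, sub_self, zero_sub] at h1
    intro a ha
    have h2 := kills_neg h1 a ha
    rw [neg_neg, ← nsmul_eq_mul] at h2
    change e • ((lin g - lin h).ofConv a) = 0 at h2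
    rw [nsmul_eq_mul, mul_eq_zero] at h2
    exact h2.resolve_left he

theorem pow_char_pow_eq_one [Algebra.FiniteType k A] (hU : ∀ a : A, ∃ n, a ∈ soc k A A n) (p : ℕ)
    [Fact p.Prime] [CharP k p] : ∃ s : ℕ, ∀ g : WithConv (A →ₐ[k] k), g ^ p ^ s = 1 := by
  obtain ⟨m, hm⟩ := exists_soc_adjoin hU
  refine ⟨m, fun g => eq_of_kills hm ?_⟩
  rw [lin_pow, lin_one]
  haveI : Nontrivial L := ⟨1, 0, fun h => one_ne_zero (α := k) (by
    have h1 : algebraMap k k (Coalgebra.counit (R := k) (1 : A)) = 0 :=
      congrArg (fun φ : L => φ.ofConv 1) h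
    simpa using h1)⟩
  haveI : CharP L p := charP_of_injective_algebraMap (algebraMap k L).injective p
  have h := kills_pow (kills_one_sub_one g) (p ^ m)
  rw [sub_pow_char_pow_of_commute p m (Commute.one_right _), one_pow] at h
  exact kills_mono (by rw [mul_one]; exact (Nat.lt_pow_self (Fact.out : p.Prime).one_lt).le) h

/-- Fractional powers of a point, as a polynomial family. -/
theorem exists_interpolation [CharZero k] (hU : ∀ a : A, ∃ n, a ∈ soc k A A n) (g : WithConv (A →ₐ[k] k)) :
    ∃ P : A →ₐ[k] Polynomial k, ∀ (t : ℕ) (a : A), (P a).eval (t : k) = (g ^ t).ofConv a := by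
  classical
  set d := lin g - 1
  have hd : ∀ a, ∃ N, ∀ n ≥ N, (d ^ n) a = 0 := fun a => by
    obtain ⟨N, hN⟩ := hU a
    exact ⟨N, fun n hn => kills_mono (by omega : N ≤ n * 1) (kills_pow (kills_one_sub_one g) n) a hN⟩
  choose N hN using hd
  let b : ℕ → Polynomial k := fun n => Polynomial.C (n.factorial : k)⁻¹ * descPochhammer k n
  have hb : ∀ n t : ℕ, (b n).eval (t : k) = (t.choose n : k) := fun n t => by
    rw [Polynomial.eval_mul, Polynomial.eval_C, descPochhammer_eval_eq_descFactorial,
      Nat.descFactorial_eq_factorial_mul_choose, Nat.cast_mul, ← mul_assoc,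
      inv_mul_cancel₀ (Nat.cast_ne_zero.mpr n.factorial_ne_zero), one_mul]
  let P : A → Polynomial k := fun a => ∑ n ∈ Finset.range (N a), Polynomial.C ((d ^ n) a) * b n
  have hP : ∀ (t : ℕ) (a : A), (P a).eval (t : k) = (g ^ t).ofConv a := fun t a => by
    have e1 : lin (g ^ t) = ∑ n ∈ Finset.range (t + 1), d ^ n * (t.choose n : L) := by
      rw [lin_pow, show lin g = d + 1 by simp [d], (Commute.one_right d).add_pow]
      simp
    have e2 : (g ^ t).ofConv a = ∑ n ∈ Finset.range (t + 1), (d ^ n) a * (t.choose n : k) := by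
      change (lin (g ^ t)).ofConv a = _
      rw [e1]
      simp only [← nsmul_eq_mul', WithConv.ofConv_sum, LinearMap.sum_apply]
      refine Finset.sum_congr rfl fun n _ => ?_
      change (t.choose n) • ((d ^ n).ofConv a) = _
      rw [nsmul_eq_mul, mul_comm]
    rw [e2, Polynomial.eval_finsetSum]
    have e3 : ∀ n, (Polynomial.C ((d ^ n) a) * b n).eval (t : k) = (d ^ n) a * (t.choose n : k) := fun n => by
      rw [Polynomial.eval_mul, Polynomial.eval_C, hb]
    rw [Finset.sum_congr rfl fun n _ => e3 n,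
      Finset.sum_subset (Finset.range_mono (le_max_left (N a) (t + 1))) fun n _ hn => by
        rw [hN a n (by simpa using hn), zero_mul],
      Finset.sum_subset (Finset.range_mono (le_max_right (N a) (t + 1))) fun n _ hn => by
        rw [Nat.choose_eq_zero_of_lt (by simpa using hn), Nat.cast_zero, mul_zero]]
  have hext : ∀ p q : Polynomial k, (∀ t : ℕ, p.eval (t : k) = q.eval (t : k)) → p = q := fun p q h =>
    Polynomial.eq_of_infinite_eval_eq p q
      ((Set.infinite_range_of_injective Nat.cast_injective).mono (by rintro _ ⟨t, rfl⟩; exact h t))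
  refine ⟨{ toFun := P
            map_one' := hext _ _ fun t => by simp [hP]
            map_mul' := fun a a' => hext _ _ fun t => by simp [hP]
            map_zero' := hext _ _ fun t => by simp [hP]
            map_add' := fun a a' => hext _ _ fun t => by simp [hP]
            commutes' := fun c => hext _ _ fun t => by simp [hP] }, hP⟩

theorem pow_surjective [CharZero k] (hU : ∀ a : A, ∃ n, a ∈ soc k A A n) {e : ℕ} (he : e ≠ 0) :
    Function.Surjective fun g : WithConv (A →ₐ[k] k) => g ^ e := by
  intro g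
  obtain ⟨P, hP⟩ := exists_interpolation hU g
  let ev : k → (Polynomial k →ₐ[k] k) := fun s => Polynomial.aeval s
  refine ⟨toConv ((ev (e : k)⁻¹).comp P), ?_⟩
  have hcomp : ∀ (φ : Polynomial k →ₐ[k] k) (F : WithConv (A →ₐ[k] Polynomial k)) (n : ℕ),
      toConv (φ.comp (F ^ n).ofConv) = toConv (φ.comp F.ofConv) ^ n := fun φ F n => by
    induction n with
    | zero =>
      refine WithConv.ext (AlgHom.ext fun a => ?_)
      change φ (algebraMap k (Polynomial k) (Coalgebra.counit (R := k) a)) = algebraMap k k (Coalgebra.counit (R := k) a)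
      exact φ.commutes _
    | succ n ih =>
      rw [pow_succ, pow_succ, ← ih]
      refine WithConv.ext ?_
      exact AlgHom.comp_convMul_distrib φ (F ^ n) F
  have key : ∀ a, (toConv P ^ e).ofConv a = (P a).comp (Polynomial.C (e : k) * Polynomial.X) := fun a => by
    refine Polynomial.eq_of_infinite_eval_eq _ _ ((Set.infinite_range_of_injective Nat.cast_injective).mono ?_)
    rintro _ ⟨t, rfl⟩
    change Polynomial.eval (t : k) _ = Polynomial.eval (t : k) _
    rw [Polynomial.eval_comp, Polynomial.eval_mul, Polynomial.eval_C, Polynomial.eval_X, ← Nat.cast_mul, hP,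
      mul_comm, pow_mul]
    have h := hcomp (ev (t : k)) (toConv P) e
    have h1 : toConv ((ev (t : k)).comp P) = g ^ t := WithConv.ext (AlgHom.ext fun b => hP t b)
    rw [ofConv_toConv, h1] at h
    rw [← h]
    exact (Polynomial.aeval_def _ _).trans (by simp) |>.symm
  refine WithConv.ext (AlgHom.ext fun a => ?_)
  have h := hcomp (ev (e : k)⁻¹) (toConv P) e
  rw [ofConv_toConv] at h
  change (toConv ((ev (e : k)⁻¹).comp P) ^ e).ofConv a = g.ofConv a
  rw [← h]
  change Polynomial.aeval (e : k)⁻¹ ((toConv P ^ e).ofConv a) = _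
  rw [key, Polynomial.coe_aeval_eq_eval, Polynomial.eval_comp, Polynomial.eval_mul, Polynomial.eval_C,
    Polynomial.eval_X, mul_inv_cancel₀ (Nat.cast_ne_zero.mpr he)]
  simpa using hP 1 a

end Bialgebra

variable [HopfAlgebra k A]

/-- The filtration subgroups. -/
noncomputable def filSubgroup (i : ℕ) : Subgroup (WithConv (A →ₐ[k] k)) where
  carrier := {g | Kills i (lin g - 1)}
  one_mem' := by
    change Kills i (lin 1 - 1)
    rw [lin_one, sub_self]
    exact fun a _ => rfl
  mul_mem' {g h} hg hh := by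
    change Kills i (lin (g * h) - 1)
    rw [lin_mul, show lin g * lin h - 1 = (lin g - 1) * lin h + (lin h - 1) by rw [sub_mul, one_mul]; abel]
    exact kills_add (kills_mul_right hg _) hh
  inv_mem' {g} hg := by
    change Kills i (lin g⁻¹ - 1)
    rw [show lin g⁻¹ - 1 = -(lin g⁻¹ * (lin g - 1)) by
      rw [mul_sub, mul_one, ← lin_mul, inv_mul_cancel, lin_one]; abel]
    exact kills_neg (kills_mul_left _ hg)

theorem commutator_mem {i j : ℕ} {g h : WithConv (A →ₐ[k] k)} (hg : g ∈ filSubgroup i)
    (hh : h ∈ filSubgroup j) : ⁅g, h⁆ ∈ filSubgroup (i + j) := by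
  change Kills _ (lin ⁅g, h⁆ - 1)
  have e : lin ⁅g, h⁆ - 1 =
      ((lin g - 1) * (lin h - 1) - (lin h - 1) * (lin g - 1)) * (lin (g⁻¹ * h⁻¹)) := by
    have e1 : lin h * lin g * lin (g⁻¹ * h⁻¹) = 1 := by
      rw [← lin_mul, ← lin_mul, show h * g * (g⁻¹ * h⁻¹) = 1 by group, lin_one]
    have e2 : lin g * lin h * lin (g⁻¹ * h⁻¹) = lin ⁅g, h⁆ := by
      rw [← lin_mul, ← lin_mul, commutatorElement_def, mul_assoc (g * h)]
    rw [show (lin g - 1) * (lin h - 1) - (lin h - 1) * (lin g - 1) = lin g * lin h - lin h * lin g by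
      simp only [sub_mul, mul_sub, one_mul, mul_one]; abel, sub_mul, e1, e2]
  rw [e]
  exact kills_mul_right (kills_sub (kills_mul hg hh) (add_comm j i ▸ kills_mul hh hg)) _

theorem isNilpotent_points [Algebra.FiniteType k A] (hU : ∀ a : A, ∃ n, a ∈ soc k A A n) :
    Group.IsNilpotent (WithConv (A →ₐ[k] k)) := by
  obtain ⟨m, hm⟩ := exists_soc_adjoin hU
  refine Subgroup.nilpotent_iff_lowerCentralSeries.mpr ⟨m, ?_⟩
  have h : ∀ n, (⊤ : Subgroup (WithConv (A →ₐ[k] k))).lowerCentralSeries n ≤ filSubgroup (n + 1) := by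
    intro n
    induction n with
    | zero => exact fun g _ => kills_one_sub_one g
    | succ n ih =>
      rw [Subgroup.lowerCentralSeries_succ, Subgroup.commutator_le]
      exact fun g hg h _ => commutator_mem (ih hg) (kills_one_sub_one h)
  refine eq_bot_iff.mpr fun g hg => ?_
  exact Subgroup.mem_bot.mpr (eq_of_kills hm (by rw [lin_one]; exact kills_mono m.le_succ (h m hg)))

end GrothLib.Unip
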