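import Mathlib.RingTheory.HopfAlgebra.Convolution
import Mathlib.RingTheory.Bialgebra.Hom
import Mathlib.RingTheory.Derivation.Basic
import Mathlib.RingTheory.Ideal.Cotangent
import Mathlib.LinearAlgebra.TensorProduct.Tower

/-!
Derivations of a commutative Hopf algebra correspond to linear forms on the cotangent space at the
identity.
-/

universe u v w

open TensorProduct

namespace GrothLib.HopfAG

variable {R : Type u} [CommRing R] {A : Type v} [CommRing A] [HopfAlgebra R A]
  {M : Type w} [AddCommGroup M] [Module R M] [Module A M] [IsScalarTower R A M]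

variable (R A) in
/-- The augmentation ideal. -/
abbrev augI : Ideal A := RingHom.ker (Bialgebra.counitAlgHom R A)

/-- `a ↦ Σ θ(a₁) • δ(a₂)`. -/
noncomputable def conv (θ : A →ₗ[R] A) (δ : A →ₗ[R] M) : A →ₗ[R] M :=
  ((LinearMap.id (R := R) (M := M)).liftBaseChange A).restrictScalars R ∘ₗ
    TensorProduct.map θ δ ∘ₗ Coalgebra.comul

/-- `a ↦ Σ a₁ • δ(a₂)`. -/
noncomputable def derOf (δ : A →ₗ[R] M) : A →ₗ[R] M :=
  ((LinearMap.id (R := R) (M := M)).liftBaseChange A).restrictScalars R ∘ₗ
    δ.lTensor A ∘ₗ CoalgebraStruct.comul (R := R) (A := A)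

theorem derOf_eq_conv (δ : A →ₗ[R] M) : derOf δ = conv LinearMap.id δ := rfl

theorem conv_apply (θ : A →ₗ[R] A) (δ : A →ₗ[R] M) {ι : Type*} {a : A} (r : Coalgebra.Repr R a ι) :
    conv θ δ a = ∑ i ∈ r.index, θ (r.left i) • δ (r.right i) := by
  rw [conv, LinearMap.comp_apply, LinearMap.comp_apply, ← r.eq, map_sum, map_sum]
  refine Finset.sum_congr rfl fun i _ => ?_
  simp

/-- An `ε`-derivation. -/
def IsEpsDer (δ : A →ₗ[R] M) : Prop :=
  ∀ a b : A, δ (a * b) =
    CoalgebraStruct.counit (R := R) a • δ b + CoalgebraStruct.counit (R := R) b • δ a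

theorem counit_smul_right (a : A) :
    (TensorProduct.rid R A) ((Coalgebra.counit (R := R) (A := A)).lTensor A
      (Coalgebra.comul (R := R) a)) = a := by
  rw [Coalgebra.lTensor_counit_comul, TensorProduct.rid_tmul, one_smul]

theorem sum_counit_right_smul {ι : Type*} {a : A} (r : Coalgebra.Repr R a ι) :
    ∑ i ∈ r.index, Coalgebra.counit (R := R) (r.right i) • r.left i = a := by
  have h := counit_smul_right (R := R) a
  rw [← r.eq, map_sum, map_sum] at h
  simpa using h

theorem derOf_leibniz {δ : A →ₗ[R] M} (hδ : IsEpsDer δ) (a b : A) :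
    derOf δ (a * b) = a • derOf δ b + b • derOf δ a := by
  rw [derOf_eq_conv]
  have ra := Coalgebra.Repr.arbitrary R a
  have rb := Coalgebra.Repr.arbitrary R b
  obtain ⟨s, la, rra, hra⟩ := ra
  obtain ⟨t, lb, rrb, hrb⟩ := rb
  have key : conv LinearMap.id δ (a * b) =
      ∑ i ∈ s, ∑ j ∈ t, (la i * lb j) • δ (rra i * rrb j) := by
    rw [conv, LinearMap.comp_apply, LinearMap.comp_apply, Bialgebra.comul_mul, ← hra, ← hrb,
      Finset.sum_mul_sum, map_sum, map_sum]
    refine Finset.sum_congr rfl fun i _ => ?_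
    rw [map_sum, map_sum]
    refine Finset.sum_congr rfl fun j _ => ?_
    simp [Algebra.TensorProduct.tmul_mul_tmul]
  rw [key, conv_apply _ _ ⟨s, la, rra, hra⟩, conv_apply _ _ ⟨t, lb, rrb, hrb⟩, Finset.smul_sum,
    Finset.smul_sum]
  have ha := sum_counit_right_smul (R := R) ⟨s, la, rra, hra⟩
  have hb := sum_counit_right_smul (R := R) ⟨t, lb, rrb, hrb⟩
  simp only [hδ _ _, smul_add, Finset.sum_add_distrib]
  congr 1
  · rw [Finset.sum_comm]
    refine Finset.sum_congr rfl fun j _ => ?_
    conv_rhs => rw [← ha, Finset.sum_smul]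
    refine Finset.sum_congr rfl fun i _ => ?_
    rw [LinearMap.id_apply, ← algebraMap_smul A (CoalgebraStruct.counit (R := R) (rra i)) (δ (rrb j)), smul_smul, smul_smul]
    congr 1
    rw [Algebra.smul_def]
    ring
  · refine Finset.sum_congr rfl fun i _ => ?_
    conv_rhs => rw [← hb, Finset.sum_smul]
    refine Finset.sum_congr rfl fun j _ => ?_
    rw [LinearMap.id_apply, ← algebraMap_smul A (CoalgebraStruct.counit (R := R) (rrb j)) (δ (rra i)), smul_smul, smul_smul]
    congr 1
    rw [Algebra.smul_def]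
    ring

/-- The `ε`-derivation of a derivation: `a ↦ Σ S(a₁) • D(a₂)`. -/
noncomputable def epsOf (D : A →ₗ[R] M) : A →ₗ[R] M := conv (HopfAlgebraStruct.antipode R) D

theorem smul_conv_assoc (θ θ' : A →ₗ[R] A) (δ : A →ₗ[R] M) :
    conv θ (conv θ' δ) =
      conv (LinearMap.mul' R A ∘ₗ TensorProduct.map θ θ' ∘ₗ Coalgebra.comul) δ := by
  refine LinearMap.ext fun a => ?_
  set L := ((LinearMap.id (R := R) (M := M)).liftBaseChange A).restrictScalars R
  show L (TensorProduct.map θ (conv θ' δ) (Coalgebra.comul a)) =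
    L (TensorProduct.map (LinearMap.mul' R A ∘ₗ TensorProduct.map θ θ' ∘ₗ Coalgebra.comul) δ
      (Coalgebra.comul a))
  have h1 : ∀ x : A ⊗[R] A, TensorProduct.map θ (conv θ' δ) x =
      (L ∘ₗ TensorProduct.map θ' δ).lTensor A
        ((θ.rTensor (A ⊗[R] A)) ((Coalgebra.comul (R := R) (A := A)).lTensor A x)) := by
    intro x
    induction x using TensorProduct.induction_on with
    | zero => simp
    | add p q hp hq => simp only [map_add, hp, hq]
    | tmul p q =>
      simp only [TensorProduct.map_tmul, LinearMap.lTensor_tmul, LinearMap.rTensor_tmul]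
      rfl
  rw [h1, ← Coalgebra.coassoc_apply]
  induction Coalgebra.comul (R := R) a using TensorProduct.induction_on with
  | zero => simp
  | add p q hp hq => simp only [map_add, hp, hq]
  | tmul p q =>
    simp only [LinearMap.rTensor_tmul, TensorProduct.map_tmul, LinearMap.coe_comp, Function.comp_apply]
    induction Coalgebra.comul (R := R) p using TensorProduct.induction_on with
    | zero => simp
    | add x y hx hy => simp only [map_add, TensorProduct.add_tmul, hx, hy]
    | tmul x y => simp [L, smul_smul]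

theorem conv_counit_left (δ : A →ₗ[R] M) :
    conv (Algebra.linearMap R A ∘ₗ Coalgebra.counit) δ = δ := by
  refine LinearMap.ext fun a => ?_
  conv_rhs => rw [← one_smul R a, ← TensorProduct.lid_tmul a (1 : R),
    ← Coalgebra.rTensor_counit_comul (R := R) a]
  simp only [conv, LinearMap.coe_comp, Function.comp_apply]
  induction Coalgebra.comul (R := R) a using TensorProduct.induction_on with
  | zero => simp
  | add x y hx hy => simp only [map_add, hx, hy]
  | tmul x y => simp

theorem derOf_epsOf (D : A →ₗ[R] M) : derOf (epsOf D) = D := by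
  rw [derOf_eq_conv, epsOf, smul_conv_assoc, ← LinearMap.lTensor_def,
    HopfAlgebra.mul_antipode_lTensor_comul, conv_counit_left]

theorem epsOf_derOf (δ : A →ₗ[R] M) : epsOf (derOf δ) = δ := by
  rw [derOf_eq_conv, epsOf, smul_conv_assoc, ← LinearMap.rTensor_def,
    HopfAlgebra.mul_antipode_rTensor_comul, conv_counit_left]

theorem isEpsDer_epsOf (D : Derivation R A M) : IsEpsDer (epsOf D.toLinearMap) := by
  intro a b
  obtain ⟨s, la, rra, hra⟩ := Coalgebra.Repr.arbitrary R a
  obtain ⟨t, lb, rrb, hrb⟩ := Coalgebra.Repr.arbitrary R b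
  set S := HopfAlgebraStruct.antipode (R := R) (A := A)
  have key : epsOf D.toLinearMap (a * b) =
      ∑ i ∈ s, ∑ j ∈ t, S (la i * lb j) • D (rra i * rrb j) := by
    rw [epsOf, conv, LinearMap.comp_apply, LinearMap.comp_apply, Bialgebra.comul_mul, ← hra, ← hrb,
      Finset.sum_mul_sum, map_sum, map_sum]
    refine Finset.sum_congr rfl fun i _ => ?_
    rw [map_sum, map_sum]
    refine Finset.sum_congr rfl fun j _ => ?_
    simp [Algebra.TensorProduct.tmul_mul_tmul, S]
  have ha := HopfAlgebra.sum_antipode_mul_eq_algebraMap_counit (R := R) ⟨s, la, rra, hra⟩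
  have hb := HopfAlgebra.sum_antipode_mul_eq_algebraMap_counit (R := R) ⟨t, lb, rrb, hrb⟩
  rw [key, epsOf, conv_apply _ _ ⟨s, la, rra, hra⟩, conv_apply _ _ ⟨t, lb, rrb, hrb⟩]
  simp only [Derivation.leibniz, smul_add, Finset.sum_add_distrib, Finset.smul_sum]
  congr 1
  · rw [Finset.sum_comm]
    refine Finset.sum_congr rfl fun j _ => ?_
    rw [← algebraMap_smul A (Coalgebra.counit (R := R) a), ← ha, Finset.sum_smul]
    refine Finset.sum_congr rfl fun i _ => ?_
    simp only [S, HopfAlgebra.antipode_mul_distrib, smul_smul, Derivation.coeFn_coe]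
    congr 1
    ring
  · refine Finset.sum_congr rfl fun i _ => ?_
    rw [← algebraMap_smul A (Coalgebra.counit (R := R) b), ← hb, Finset.sum_smul]
    refine Finset.sum_congr rfl fun j _ => ?_
    simp only [S, HopfAlgebra.antipode_mul_distrib, smul_smul, Derivation.coeFn_coe]
    congr 1
    ring

theorem epsDer_one {δ : A →ₗ[R] M} (hδ : IsEpsDer δ) : δ 1 = 0 := by
  have h := hδ 1 1
  rw [mul_one, Bialgebra.counit_one, one_smul] at h
  simpa using h

theorem epsDer_eq_zero_of_mem_sq {δ : A →ₗ[R] M} (hδ : IsEpsDer δ) {x : A} (hx : x ∈ augI R A ^ 2) :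
    δ x = 0 := by
  rw [pow_two] at hx
  refine Submodule.mul_induction_on hx (fun a ha b hb => ?_) (fun a b ha hb => by rw [map_add, ha, hb, add_zero])
  rw [hδ, show CoalgebraStruct.counit (R := R) a = 0 from ha,
    show CoalgebraStruct.counit (R := R) b = 0 from hb, zero_smul, zero_smul, add_zero]

section Proj

variable (π : A →ₗ[R] (augI R A).Cotangent)
  (hπI : ∀ x : augI R A, π (x : A) = (augI R A).toCotangent x) (hπ1 : π 1 = 0)

include hπI hπ1

theorem isEpsDer_proj : IsEpsDer (M := (augI R A).Cotangent) π := by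
  intro a b
  set ea := CoalgebraStruct.counit (R := R) a
  set eb := CoalgebraStruct.counit (R := R) b
  have ha : a - ea • (1 : A) ∈ augI R A := by simp [ea]
  have hb : b - eb • (1 : A) ∈ augI R A := by simp [eb]
  have e : a * b = (a - ea • (1 : A)) * (b - eb • (1 : A)) +
      (ea • b + eb • a - (ea * eb) • (1 : A)) := by
    simp only [Algebra.smul_def, map_mul, mul_one]; ring
  have h0 : π ((a - ea • (1 : A)) * (b - eb • (1 : A))) = 0 := by
    rw [show (a - ea • (1 : A)) * (b - eb • (1 : A)) =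
      ((⟨_, Ideal.mul_mem_left _ (a - ea • (1 : A)) hb⟩ : augI R A) : A) from rfl, hπI,
      Ideal.toCotangent_eq_zero, pow_two]
    exact Ideal.mul_mem_mul ha hb
  rw [e, map_add, h0, zero_add, map_sub, map_add, map_smul, map_smul, map_smul, hπ1, smul_zero, sub_zero]

theorem isEpsDer_comp_proj (l : (augI R A).Cotangent →ₗ[R] M) : IsEpsDer (l ∘ₗ π) := fun a b => by
  simp only [LinearMap.comp_apply, isEpsDer_proj π hπI hπ1 a b, map_add, map_smul]

theorem exists_eq_comp_proj {δ : A →ₗ[R] M} (hδ : IsEpsDer δ) :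
    ∃! l : (augI R A).Cotangent →ₗ[R] M, l ∘ₗ π = δ := by
  have hsurj := (augI R A).toCotangent_surjective
  have hwd : ∀ x y : augI R A, (augI R A).toCotangent x = (augI R A).toCotangent y →
      δ (x : A) = δ (y : A) := fun x y h => by
    rw [← sub_eq_zero, ← map_sub]
    exact epsDer_eq_zero_of_mem_sq hδ ((Ideal.toCotangent_eq _).1 h)
  choose σ hσ using hsurj
  refine ⟨{ toFun := fun c => δ (σ c : A), map_add' := fun c d => ?_, map_smul' := fun r c => ?_ }, ?_, ?_⟩
  · rw [← map_add]
    exact hwd _ (σ c + σ d) (by rw [map_add, hσ, hσ, hσ])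
  · rw [RingHom.id_apply, ← map_smul]
    refine hwd _ ⟨r • (σ c : A), Submodule.smul_of_tower_mem _ r (σ c).2⟩ ?_
    rw [hσ, ← hπI ⟨r • (σ c : A), _⟩, map_smul, hπI, hσ]
  · refine LinearMap.ext fun a => ?_
    have ha : a - CoalgebraStruct.counit (R := R) a • (1 : A) ∈ augI R A := by simp
    have e : π a = (augI R A).toCotangent ⟨_, ha⟩ := by rw [← hπI, map_sub, map_smul, hπ1, smul_zero, sub_zero]
    show δ (σ (π a) : A) = δ a
    rw [hwd _ ⟨_, ha⟩ (by rw [hσ, e]), map_sub, map_smul, epsDer_one hδ, smul_zero, sub_zero]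
  · intro l hl
    refine LinearMap.ext fun c => ?_
    show l c = δ (σ c : A)
    rw [← hl, LinearMap.comp_apply, hπI, hσ]

theorem existsUnique_derOf_comp_proj (D : Derivation R A M) :
    ∃! l : (augI R A).Cotangent →ₗ[R] M, derOf (l ∘ₗ π) = D.toLinearMap := by
  obtain ⟨l, hl, huniq⟩ := exists_eq_comp_proj π hπI hπ1 (isEpsDer_epsOf D)
  refine ⟨l, ?_, fun l' hl' => huniq _ ?_⟩
  · show derOf (l ∘ₗ π) = _
    rw [hl, derOf_epsOf]
  · show l' ∘ₗ π = _
    rw [← hl', epsOf_derOf]

end Proj

variable (R A) in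
/-- The projection to the cotangent space exists. -/
theorem exists_proj : ∃ π : A →ₗ[R] (augI R A).Cotangent,
    (∀ x : augI R A, π (x : A) = (augI R A).toCotangent x) ∧ π 1 = 0 := by
  let q : A →ₗ[R] augI R A := (LinearMap.id - Algebra.linearMap R A ∘ₗ Coalgebra.counit).codRestrict
    ((augI R A).restrictScalars R) fun a => by simp
  refine ⟨((augI R A).toCotangent.restrictScalars R) ∘ₗ q, fun x => ?_, ?_⟩
  · have hx : Coalgebra.counit (R := R) (x : A) = 0 := x.2
    show (augI R A).toCotangent (q x) = _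
    congr 1
    exact Subtype.ext (show (x : A) - algebraMap R A (Coalgebra.counit (R := R) (x : A)) = x by simp [hx])
  · show (augI R A).toCotangent (q 1) = 0
    rw [show q 1 = 0 from Subtype.ext (show (1 : A) - algebraMap R A (Coalgebra.counit (R := R) (1 : A)) = 0 by simp), map_zero]

end GrothLib.HopfAG
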