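import Groth.Agent.Lib.HopfAG.HeightOne
import Mathlib.RingTheory.Bialgebra.TensorProduct
import Mathlib.RingTheory.HopfAlgebra.TensorProduct
import Mathlib.RingTheory.Jacobson.Ring

/-!
# Finite group schemes over a field: orders and Frobenius kernels
-/

universe u v w

set_option linter.style.haveILetI false

open TensorProduct WithConv

namespace GrothLib.HopfAG

/-- The Frobenius kernel of a finite group has order `p` to the dimension of the tangent space. -/
theorem nonempty_algEquiv_frobKernel {k : Type u} [Field k] (p : ℕ) [Fact p.Prime] [CharP k p]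
    (A : Type u) [CommRing A] [HopfAlgebra k A] [Module.Finite k A] :
    Nonempty ((A ⧸ frobIdeal (k := k) p A) ≃ₐ[k]
      Trunc k (Module.finrank k (RingHom.ker (Bialgebra.counitAlgHom k A)).Cotangent) p) := by
  haveI := isHopfIdeal_frobIdeal (k := k) p A
  set J := frobIdeal (k := k) p A
  set I := RingHom.ker (Bialgebra.counitAlgHom k A)
  set I' := RingHom.ker (Bialgebra.counitAlgHom k (A ⧸ J))
  have h1 : ∀ a : A ⧸ J, Bialgebra.counitAlgHom k (A ⧸ J) a = 0 → a ^ p = 0 := fun a ha => by
    obtain ⟨b, rfl⟩ := Ideal.Quotient.mk_surjective a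
    rw [← map_pow, Ideal.Quotient.eq_zero_iff_mem]
    exact Ideal.subset_span ⟨b, ha, rfl⟩
  haveI : Module.Finite k (A ⧸ J) := Module.Finite.of_surjective (Ideal.Quotient.mkₐ k J).toLinearMap
    (Ideal.Quotient.mkₐ_surjective k J)
  have h := (nonempty_algEquiv_trunc k p (A := A ⧸ J) h1).1
  let L := Ideal.mapCotangent I I' (Ideal.Quotient.mkₐ k J) fun a ha => ha
  have hJ2 : J ≤ I ^ 2 := by
    refine Ideal.span_le.mpr ?_
    rintro _ ⟨a, ha, rfl⟩
    exact Ideal.pow_le_pow_right (Fact.out : p.Prime).two_le (Ideal.pow_mem_pow ha p)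
  have hI' : I' = I.map (Ideal.Quotient.mk J) := by
    refine le_antisymm (fun a ha => ?_) (Ideal.map_le_iff_le_comap.mpr fun a ha => ha)
    obtain ⟨b, rfl⟩ := Ideal.Quotient.mk_surjective a
    exact Ideal.mem_map_of_mem _ ha
  have hL : Function.Bijective L := by
    refine ⟨(injective_iff_map_eq_zero L).mpr fun z hz => ?_, fun z => ?_⟩
    · obtain ⟨⟨a, ha⟩, rfl⟩ := Ideal.toCotangent_surjective _ z
      rw [Ideal.mapCotangent_toCotangent, Ideal.toCotangent_eq_zero] at hz
      have hsq : I' ^ 2 = (I ^ 2).map (Ideal.Quotient.mk J) := by rw [hI', Ideal.map_pow]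
      rw [hsq] at hz
      change Ideal.Quotient.mk J a ∈ _ at hz
      rw [Ideal.mem_map_iff_of_surjective _ Ideal.Quotient.mk_surjective] at hz
      obtain ⟨b, hb, hab⟩ := hz
      rw [Ideal.toCotangent_eq_zero]
      simpa using sub_mem hb (hJ2 (Ideal.Quotient.eq.mp hab))
    · obtain ⟨⟨a, ha⟩, rfl⟩ := Ideal.toCotangent_surjective _ z
      obtain ⟨b, rfl⟩ := Ideal.Quotient.mk_surjective a
      exact ⟨Ideal.toCotangent I ⟨b, ha⟩, rfl⟩
  rwa [(LinearEquiv.ofBijective L hL).finrank_eq]

/-- The order of an infinitesimal group is a power of the characteristic exponent. -/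
theorem exists_finrank_eq_ringExpChar_pow (k : Type u) [Field k] (A : Type u) [CommRing A]
    [HopfAlgebra k A] [Module.Finite k A] [IsLocalRing A] :
    ∃ n : ℕ, Module.finrank k A = ringExpChar k ^ n := by
  let K := AlgebraicClosure k
  have hnil : ∀ a : A, IsNilpotent (a - algebraMap k A (Bialgebra.counitAlgHom k A a)) := fun a => by
    haveI : IsArtinianRing A := isArtinian_of_tower k inferInstance
    refine Ring.KrullDimLE.isNilpotent_iff_mem_maximalIdeal.mpr ?_
    intro hu
    have := hu.map (Bialgebra.counitAlgHom k A)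
    simp at this
  have hnilK : ∀ z : K ⊗[k] A, IsNilpotent (z - algebraMap K _ (Bialgebra.counitAlgHom K (K ⊗[k] A) z)) := fun z => by
    induction z using TensorProduct.induction_on with
    | zero => simp
    | tmul c a =>
      obtain ⟨m, hm⟩ := hnil a
      refine ⟨m + 1, ?_⟩
      have : c ⊗ₜ[k] a - algebraMap K _ (Bialgebra.counitAlgHom K (K ⊗[k] A) (c ⊗ₜ[k] a)) =
          c ⊗ₜ[k] (a - algebraMap k A (Bialgebra.counitAlgHom k A a)) := by
        rw [TensorProduct.tmul_sub]
        congr 1
        rw [Algebra.algebraMap_eq_smul_one (A := A), TensorProduct.tmul_smul, Algebra.TensorProduct.algebraMap_apply]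
        simp [TensorProduct.smul_tmul']
      rw [this, Algebra.TensorProduct.tmul_pow, pow_succ, pow_succ, hm, zero_mul, TensorProduct.tmul_zero]
    | add z w hz hw =>
      rw [map_add, map_add, add_sub_add_comm]
      exact (Commute.all _ _).isNilpotent_add hz hw
  have haug : ∀ z ∈ GrothLib.Hopf.HeightOne.aug K (K ⊗[k] A), IsNilpotent z := fun z hz => by
    simpa [show Bialgebra.counitAlgHom K (K ⊗[k] A) z = 0 from hz] using hnilK z
  have hK : Module.finrank K (K ⊗[k] A) = Module.finrank k A := Module.finrank_baseChange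
  obtain ⟨q, hq⟩ := CharP.exists k
  rcases CharP.char_is_prime_or_zero k q with hqp | rfl
  · haveI := Fact.mk hqp
    haveI : CharP K q := charP_of_injective_algebraMap (algebraMap k K).injective q
    obtain ⟨s, hs⟩ := GrothLib.Hopf.FiniteRank.exists_finrank_eq_pow (K := K) q _ haug rfl
    haveI : ExpChar k q := ExpChar.prime hqp
    exact ⟨s, by rw [ringExpChar.eq k q, ← hK, hs]⟩
  · haveI : CharZero k := CharP.charP_to_charZero k
    haveI : CharZero K := charZero_of_injective_algebraMap (algebraMap k K).injective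
    exact ⟨0, by rw [pow_zero, ← hK, GrothLib.Hopf.FiniteRank.finrank_eq_one_charZero (K := K) haug]⟩

/-- A finite group over an algebraically closed field is reduced iff its Frobenius kernels vanish. -/
theorem span_pow_eq_ker_iff {k : Type u} [Field k] [IsAlgClosed k] {A : Type v} [CommRing A]
    [HopfAlgebra k A] [Module.Finite k A] {q : ℕ} (hq : 2 ≤ q) :
    Ideal.span ((fun f : A => f ^ q) '' (RingHom.ker (Bialgebra.counitAlgHom k A) : Set A)) =
      RingHom.ker (Bialgebra.counitAlgHom k A) ↔ IsReduced A := by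
  classical
  set ε := Bialgebra.counitAlgHom k A
  set I := RingHom.ker ε
  haveI : IsArtinianRing A := isArtinian_of_tower k inferInstance
  haveI : Fintype (MaximalSpectrum A) := Fintype.ofFinite _
  refine ⟨fun h => ?_, fun hred => ?_⟩
  · have hI : I ^ 2 = I := by
      refine le_antisymm (Ideal.pow_le_self two_ne_zero) ?_
      conv_lhs => rw [← h]
      refine Ideal.span_le.mpr ?_
      rintro _ ⟨a, ha, rfl⟩
      exact Ideal.pow_le_pow_right hq (Ideal.pow_mem_pow ha q)
    have hM : ∀ M : MaximalSpectrum A, M.asIdeal ^ 2 = M.asIdeal := fun M => by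
      letI := Ideal.Quotient.field M.asIdeal
      let e : k ≃ₐ[k] A ⧸ M.asIdeal := AlgEquiv.ofBijective (Algebra.ofId k _)
        IsAlgClosed.algebraMap_bijective_of_isIntegral
      let g : A →ₐ[k] k := e.symm.toAlgHom.comp (Ideal.Quotient.mkₐ k _)
      have hg : ∀ a, g a = 0 ↔ a ∈ M.asIdeal := fun a => by
        change e.symm (Ideal.Quotient.mk M.asIdeal a) = 0 ↔ _
        rw [EmbeddingLike.map_eq_zero_iff, Ideal.Quotient.eq_zero_iff_mem]
      set s := GrothLib.Hopf.shiftEquiv (toConv g)
      have hs : ∀ a, ε (s a) = g a := fun a => by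
        have h1 := DFunLike.congr_fun (congrArg ofConv (GrothLib.Hopf.point_comp_shift (toConv g) 1)) a
        rw [mul_one] at h1
        exact h1
      have hMI : M.asIdeal = I.comap s := by
        ext a
        exact (hg a).symm.trans (by rw [← hs a]; rfl)
      have hmap : I.map (s.symm : A →ₐ[k] A) = M.asIdeal := by
        rw [hMI]
        exact Ideal.map_symm (s : A ≃+* A)
      rw [← hmap, ← Ideal.map_pow, hI]
    set N := nilradical A
    have hN : N = ∏ M : MaximalSpectrum A, M.asIdeal := by
      rw [Ideal.prod_eq_iInf_of_pairwise_isCoprime (fun M _ M' _ hne =>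
        Ideal.isCoprime_of_isMaximal fun h => hne (MaximalSpectrum.ext h))]
      ext a
      simp only [N, nilradical_eq_sInf, Submodule.mem_sInf, Submodule.mem_iInf, Finset.mem_univ, forall_const]
      exact ⟨fun h M => h _ M.isMaximal.isPrime,
        fun h P hP => h ⟨P, haveI : Ideal.IsPrime P := hP; IsArtinianRing.isMaximal_of_isPrime P⟩⟩
    have hN2 : N ^ 2 = N := by rw [hN, ← Finset.prod_pow]; simp only [hM]
    obtain ⟨n, hn⟩ := (IsArtinianRing.isNilpotent_nilradical : IsNilpotent N)
    have hpow : ∀ j : ℕ, N ^ (j + 1) = N := fun j => by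
      induction j with
      | zero => rw [pow_one]
      | succ j ih => rw [pow_succ, ih, ← pow_two, hN2]
    rw [← nilradical_eq_bot_iff]
    change N = ⊥
    rw [← hpow n, pow_succ, hn, zero_mul, Ideal.zero_eq_bot]
  · refine le_antisymm (Ideal.span_le.mpr ?_) fun a ha => ?_
    · rintro _ ⟨f, hf, rfl⟩
      exact Ideal.pow_mem_of_mem _ hf q (by omega)
    · let E := IsArtinianRing.equivPi A
      let e : A := E.symm fun M => if E a M = 0 then 0 else 1
      have hee : ∀ M, E e M = if E a M = 0 then 0 else 1 := fun M => congrFun (E.apply_symm_apply _) M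
      have hea : e * a = a := E.injective <| funext fun M => by
        rw [map_mul, Pi.mul_apply, hee]
        split_ifs with hz <;> simp [hz]
      have heq : e ^ q = e := E.injective <| funext fun M => by
        rw [map_pow, Pi.pow_apply, hee]
        split_ifs <;> simp <;> omega
      have heI : e ∈ I := by
        letI : ∀ M : MaximalSpectrum A, Field (A ⧸ M.asIdeal) := fun M => Ideal.Quotient.field M.asIdeal
        have hdiv : e ∈ Ideal.span {a} := by
          refine Ideal.mem_span_singleton.mpr ⟨E.symm fun M => (E a M)⁻¹, E.injective <| funext fun M => ?_⟩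
          rw [map_mul, Pi.mul_apply, hee, AlgEquiv.apply_symm_apply]
          split_ifs with hz
          · simp [hz]
          · exact (mul_inv_cancel₀ hz).symm
        exact (Ideal.span_singleton_le_iff_mem _).mpr ha hdiv
      rw [← hea, ← heq]
      exact Ideal.mul_mem_right _ _ (Ideal.subset_span ⟨e, heI, rfl⟩)

end GrothLib.HopfAG
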