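import Groth.Agent.Lib.Comod.TensorGen
import Groth.Agent.Lib.Comod.Semi
import Groth.Agent.Lib.HopfAG.PointAct
import Groth.Prelude.Def_SGA3
import Groth.Prelude.Def_Dyn
import Mathlib.LinearAlgebra.PiTensorProduct.Basis
import Mathlib.LinearAlgebra.Matrix.Adjugate
import Mathlib.RingTheory.HopfAlgebra.Quotient

/-!
Chevalley: a closed subgroup is the stabiliser of a line; stabilisers of lines in tensor products.
-/

universe u v

open TensorProduct
open GrothLib.Comodule (cfOf cfOf_apply cfOf_tensor cfOf_ofEquiv)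

namespace GrothLib.LineStab

variable {k : Type u} [Field k] {A : Type u} [CommRing A] [HopfAlgebra k A]
  {V : Type v} [AddCommGroup V] [Module k V] {R : Type*} [CommRing R] [Algebra k R]

theorem point_cfOf (c : HopfRep.Comod k A V) (g : A →ₐ[k] R) (φ : Module.Dual k V) (v : V) :
    g (cfOf c φ v) = TensorProduct.lid k R (φ.rTensor R (g.toLinearMap.lTensor V (c.coact v))) := by
  rw [cfOf_apply]
  induction c.coact v using TensorProduct.induction_on with
  | zero => simp
  | tmul p q => simp
  | add x y hx hy => simp only [map_add, hx, hy]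

theorem ext_coord {ι : Type*} (b : Module.Basis ι k V) {x y : V ⊗[k] R}
    (h : ∀ i, TensorProduct.lid k R ((b.coord i).rTensor R x) = TensorProduct.lid k R ((b.coord i).rTensor R y)) :
    x = y := by
  classical
  have key : ∀ z : V ⊗[k] R, ∀ i, TensorProduct.equivFinsuppOfBasisLeft b z i =
      TensorProduct.lid k R ((b.coord i).rTensor R z) := fun z i => by
    induction z using TensorProduct.induction_on with
    | zero => simp
    | tmul p q => simp
    | add x y hx hy => simp only [map_add, Finsupp.add_apply, hx, hy]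
  exact (TensorProduct.equivFinsuppOfBasisLeft b).injective (Finsupp.ext fun i => by rw [key, key, h i])

/-- a point sends `v` to `v ⊗ r` iff it does so on every coefficient of a basis -/
theorem coact_eq_iff {ι : Type*} (b : Module.Basis ι k V) (c : HopfRep.Comod k A V) (g : A →ₐ[k] R) (v w : V)
    (r : R) :
    g.toLinearMap.lTensor V (c.coact v) = w ⊗ₜ[k] r ↔ ∀ i, g (cfOf c (b.coord i) v) = b.coord i w • r := by
  constructor
  · intro h i; rw [point_cfOf, h]; simp
  · intro h
    refine ext_coord b fun i => ?_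
    rw [← point_cfOf, h i]; simp

theorem stab_iff (c : HopfRep.Comod k A V) (g : A →ₐ[k] R) (v : V) :
    (∃ r : R, g.toLinearMap.lTensor V (c.coact v) = v ⊗ₜ[k] r) ↔
      ∃ r : R, ∀ φ : Module.Dual k V, g (cfOf c φ v) = φ v • r := by
  constructor
  · rintro ⟨r, hr⟩; exact ⟨r, fun φ => by rw [point_cfOf, hr]; simp⟩
  · rintro ⟨r, hr⟩; exact ⟨r, (coact_eq_iff (Module.Free.chooseBasis k V) c g v v r).2 fun i => hr _⟩

/-- the multiplier of a stabilised line is a unit -/
theorem isUnit_of_stab (c : HopfRep.Comod k A V) (g : A →ₐ[k] R) {v : V} (hv : v ≠ 0) {r : R}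
    (h : g.toLinearMap.lTensor V (c.coact v) = v ⊗ₜ[k] r) : IsUnit r := by
  let _ := c
  obtain ⟨φ₀, hφ₀⟩ : ∃ φ : Module.Dual k V, φ v ≠ 0 := by
    by_contra hc
    push Not at hc
    exact hv ((Module.forall_dual_apply_eq_zero_iff k v).1 hc)
  let φ : Module.Dual k V := (φ₀ v)⁻¹ • φ₀
  have hφ : φ v = 1 := by simp [φ, inv_mul_cancel₀ hφ₀]
  have h1 := LinearMap.congr_fun (GrothLib.PointAct.G_inv_comp (V := V) g) ((1 : R) ⊗ₜ[k] v)
  rw [LinearMap.comp_apply, GrothLib.PointAct.G_tmul g, one_smul, h, TensorProduct.comm_tmul,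
    LinearMap.id_apply, ← mul_one r, ← smul_eq_mul, ← TensorProduct.smul_tmul', map_smul] at h1
  have h2 := congrArg (φ.baseChange R) h1
  rw [map_smul, LinearMap.baseChange_tmul, hφ] at h2
  refine IsUnit.of_mul_eq_one (TensorProduct.rid k R (φ.baseChange R
    (GrothLib.PointAct.G (g.comp (HopfAlgebra.antipodeAlgHom k A)) ((1 : R) ⊗ₜ[k] v)))) ?_
  have h3 := congrArg (TensorProduct.rid k R) h2
  rw [TensorProduct.rid_tmul, one_smul] at h3
  refine Eq.trans ?_ h3
  generalize φ.baseChange R (GrothLib.PointAct.G (g.comp (HopfAlgebra.antipodeAlgHom k A)) ((1 : R) ⊗ₜ[k] v)) = z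
  induction z using TensorProduct.induction_on with
  | zero => simp
  | tmul p q => simp [TensorProduct.smul_tmul', mul_comm]
  | add x y hx hy => simp only [smul_add, map_add, mul_add, hx, hy]

/-- functional `⊗ ξᵢ` on a tensor power -/
noncomputable def pf {n : ℕ} (ξ : Fin n → Module.Dual k V) : Module.Dual k (TensorPower k n V) :=
  PiTensorProduct.lift ((MultilinearMap.mkPiAlgebra k (Fin n) k).compLinearMap ξ)

theorem pf_tprod {n : ℕ} (ξ : Fin n → Module.Dual k V) (x : Fin n → V) :
    pf ξ (PiTensorProduct.tprod k x) = ∏ i, ξ i (x i) := by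
  simp [pf]

theorem cfOf_tpow (c : HopfRep.Comod k A V) : ∀ (n : ℕ) (ξ : Fin n → Module.Dual k V) (x : Fin n → V),
    cfOf (ComodTens.Comod.tpow c n) (pf ξ) (PiTensorProduct.tprod k x) = ∏ i, cfOf c (ξ i) (x i)
  | 0, ξ, x => by
    let e := (PiTensorProduct.isEmptyEquiv (Fin 0) (R := k) (s := fun _ : Fin 0 => V)).symm
    have hx : (PiTensorProduct.tprod k x : TensorPower k 0 V) = e 1 := e.symm.injective (by simp [e])
    have hξ : pf ξ = (LinearMap.id : k →ₗ[k] k) ∘ₗ e.symm.toLinearMap := by
      refine PiTensorProduct.ext (MultilinearMap.ext fun y => ?_)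
      simp [pf_tprod, e]
    rw [ComodTens.tpow_zero, hx, hξ, cfOf_ofEquiv]
    simp [cfOf_apply, HopfRep.Comod.trivial]
  | n + 1, ξ, x => by
    let e := TensorPower.mulEquiv (R := k) (M := V) (n := n) (m := 1)
    let e₁ := (PiTensorProduct.subsingletonEquiv (R := k) (s := fun _ : Fin 1 => V) (0 : Fin 1)).symm
    let x₀ : Fin n → V := fun i => x i.castSucc
    have h1 : e₁ (x (Fin.last n)) = PiTensorProduct.tprod k (fun _ : Fin 1 => x (Fin.last n)) :=
      e₁.symm.injective (by simp [e₁])
    have happ : ∀ (y : Fin n → V) (z : Fin 1 → V),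
        e (PiTensorProduct.tprod k y ⊗ₜ PiTensorProduct.tprod k z) = PiTensorProduct.tprod k (Fin.append y z) :=
      fun y z => TensorPower.tprod_mul_tprod (R := k) y z
    have hx : PiTensorProduct.tprod k x = e (PiTensorProduct.tprod k x₀ ⊗ₜ e₁ (x (Fin.last n))) := by
      rw [h1, happ]
      congr 1
      funext i
      refine Fin.addCases (fun j => ?_) (fun j => ?_) i
      · rw [Fin.append_left]; rfl
      · rw [Fin.append_right, Subsingleton.elim j 0]; rfl
    have hξ : pf ξ = ((TensorProduct.lid k k).toLinearMap ∘ₗ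
        TensorProduct.map (pf fun i => ξ i.castSucc) (ξ (Fin.last n) ∘ₗ e₁.symm.toLinearMap)) ∘ₗ e.symm.toLinearMap := by
      refine PiTensorProduct.ext (MultilinearMap.ext fun y => ?_)
      have hy : PiTensorProduct.tprod k y =
          e (PiTensorProduct.tprod k (fun i : Fin n => y i.castSucc) ⊗ₜ e₁ (y (Fin.last n))) := by
        rw [show e₁ (y (Fin.last n)) = PiTensorProduct.tprod k (fun _ : Fin 1 => y (Fin.last n)) from
          e₁.symm.injective (by simp [e₁]), happ]
        congr 1
        funext i
        refine Fin.addCases (fun j => ?_) (fun j => ?_) i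
        · rw [Fin.append_left]; rfl
        · rw [Fin.append_right, Subsingleton.elim j 0]; rfl
      simp only [LinearMap.compMultilinearMap_apply, LinearMap.comp_apply, LinearEquiv.coe_coe]
      rw [pf_tprod, hy, e.symm_apply_apply, TensorProduct.map_tmul, LinearMap.comp_apply, LinearEquiv.coe_coe,
        e₁.symm_apply_apply, pf_tprod, TensorProduct.lid_tmul, smul_eq_mul, Fin.prod_univ_castSucc]
    rw [ComodTens.tpow_succ, hx, hξ, cfOf_ofEquiv, cfOf_tensor, cfOf_tpow c n, Fin.prod_univ_castSucc]
    congr 1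
    exact cfOf_ofEquiv c e₁ _ _

theorem coord_piTensor {n : ℕ} {ι : Type*} (b : Module.Basis ι k V) (p : Fin n → ι) :
    (_root_.Basis.piTensorProduct fun _ : Fin n => b).coord p = pf (fun i => b.coord (p i)) := by
  refine PiTensorProduct.ext (MultilinearMap.ext fun y => ?_)
  simp only [LinearMap.compMultilinearMap_apply, pf_tprod, Module.Basis.coord_apply,
    _root_.Basis.piTensorProduct_repr_tprod_apply]

/-- antisymmetrised pure tensor -/
noncomputable def wedgeVec {d : ℕ} (w : Fin d → V) : TensorPower k d V :=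
  ∑ σ : Equiv.Perm (Fin d), ((Equiv.Perm.sign σ : ℤ) : k) • PiTensorProduct.tprod k (w ∘ σ)

theorem pf_wedgeVec {d : ℕ} (ξ : Fin d → Module.Dual k V) (w : Fin d → V) :
    pf ξ (wedgeVec w) = (Matrix.of fun i m => ξ m (w i)).det := by
  rw [Matrix.det_apply, wedgeVec, map_sum]
  refine Finset.sum_congr rfl fun σ _ => ?_
  rw [map_smul, pf_tprod, Units.smul_def, zsmul_eq_mul, smul_eq_mul]
  rfl

theorem point_pf_wedgeVec (c : HopfRep.Comod k A V) (g : A →ₐ[k] R) {d : ℕ} (ξ : Fin d → Module.Dual k V)
    (w : Fin d → V) :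
    g (cfOf (ComodTens.Comod.tpow c d) (pf ξ) (wedgeVec w)) =
      (Matrix.of fun i m => g (cfOf c (ξ m) (w i))).det := by
  rw [Matrix.det_apply, wedgeVec, map_sum, map_sum]
  refine Finset.sum_congr rfl fun σ _ => ?_
  rw [map_smul, cfOf_tpow, map_smul, map_prod, Units.smul_def, zsmul_eq_mul, Algebra.smul_def, map_intCast]
  rfl

/-- stabiliser of a subspace = stabiliser of the line spanned by the antisymmetrised basis tensor -/
theorem stab_wedge_iff {d : ℕ} {J : Type*} (b : Module.Basis (Fin d ⊕ J) k V)
    (c : HopfRep.Comod k A V) (g : A →ₐ[k] R) :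
    (∃ r : R, g.toLinearMap.lTensor _ ((ComodTens.Comod.tpow c d).coact (wedgeVec fun i => b (Sum.inl i))) =
      wedgeVec (fun i => b (Sum.inl i)) ⊗ₜ[k] r) ↔ ∀ j i, g (cfOf c (b.coord (Sum.inr j)) (b (Sum.inl i))) = 0 := by
  classical
  set w : Fin d → V := fun i => b (Sum.inl i)
  have hv1 : pf (fun m => b.coord (Sum.inl m)) (wedgeVec w) = 1 := by
    rw [pf_wedgeVec]
    refine Eq.trans (congrArg Matrix.det ?_) (Matrix.det_one (n := Fin d))
    ext i m
    simp [w, Matrix.one_apply, Finsupp.single_apply]
  constructor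
  · rintro ⟨r, hr⟩ j i
    have hv : wedgeVec w ≠ 0 := fun h => by rw [h, map_zero] at hv1; exact zero_ne_one hv1
    have hu := isUnit_of_stab _ g hv hr
    have key : ∀ ξ : Fin d → Module.Dual k V,
        (Matrix.of fun i m => g (cfOf c (ξ m) (w i))).det = (Matrix.of fun i m => ξ m (w i)).det • r := fun ξ => by
      rw [← point_pf_wedgeVec, point_cfOf, hr, ← pf_wedgeVec]; simp
    set M : Matrix (Fin d) (Fin d) R := Matrix.of fun m i => g (cfOf c (b.coord (Sum.inl m)) (w i)) with hM
    set L : Fin d → R := fun i => g (cfOf c (b.coord (Sum.inr j)) (w i))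
    have hdet : M.det = r := by
      have h := key fun m => b.coord (Sum.inl m)
      rw [← pf_wedgeVec, hv1, one_smul] at h
      rw [← h, ← Matrix.det_transpose]; rfl
    have hcr : Matrix.cramer M.transpose L = 0 := by
      funext m
      rw [Matrix.cramer_transpose_apply]
      let ξ : Fin d → Module.Dual k V := Function.update (fun m => b.coord (Sum.inl m)) m (b.coord (Sum.inr j))
      have h := key ξ
      have hz : (Matrix.of fun i m => ξ m (w i)).det = 0 := by
        refine Matrix.det_eq_zero_of_column_eq_zero m fun i => ?_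
        simp [ξ, w, Finsupp.single_apply]
      rw [hz, zero_smul, ← Matrix.det_transpose] at h
      rw [Pi.zero_apply, ← h]
      congr 1
      ext a i
      rcases eq_or_ne a m with rfl | ha
      · simp [ξ, L, M, Matrix.transpose_apply]
      · simp [ξ, L, M, Matrix.transpose_apply, ha]
    have hmul := Matrix.mulVec_cramer M.transpose L
    rw [hcr, Matrix.mulVec_zero, Matrix.det_transpose, hdet] at hmul
    have := congrFun hmul i
    rw [Pi.zero_apply, Pi.smul_apply, smul_eq_mul, eq_comm] at this
    exact hu.mul_right_eq_zero.1 this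
  · intro h
    let B : Matrix (Fin d) (Fin d) R := Matrix.of fun i l => g (cfOf c (b.coord (Sum.inl l)) (w i))
    refine ⟨B.det, (coact_eq_iff (_root_.Basis.piTensorProduct fun _ : Fin d => b) _ g _ _ _).2 fun p => ?_⟩
    rw [coord_piTensor, point_pf_wedgeVec, pf_wedgeVec]
    have hfac : (Matrix.of fun i m => g (cfOf c (b.coord (p m)) (w i))) =
        B * (Matrix.of fun i m => b.coord (p m) (w i)).map (algebraMap k R) := by
      ext i m
      simp only [Matrix.mul_apply, Matrix.of_apply, Matrix.map_apply, B, w, Module.Basis.coord_apply,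
        Module.Basis.repr_self, Finsupp.single_apply]
      rcases p m with l | j
      · simp [Sum.inl_injective.eq_iff]
      · rw [h j i, eq_comm]
        exact Finset.sum_eq_zero fun l _ => by simp
    rw [hfac, Matrix.det_mul, ← RingHom.mapMatrix_apply, ← RingHom.map_det, Algebra.smul_def, mul_comm]

/-- the subgroup cut out by a Hopf ideal is the stabiliser of `I ∩ V₀` in the regular comodule -/
theorem exists_line [Algebra.FiniteType k A] (I : Ideal A) [I.IsHopfIdeal k] :
    ∃ (V : Type u) (_ : AddCommGroup V) (_ : Module k V) (_ : HopfRep.Comod k A V) (_ : Module.Finite k V) (v : V),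
      v ≠ 0 ∧ Dyn.Represents k A I (fun R _ _ g => SGA3.StabilizesLine k A v R g) := by
  classical
  have : IsNoetherianRing A := Algebra.FiniteType.isNoetherianRing k A
  obtain ⟨s, hs⟩ := (IsNoetherian.noetherian I : I.FG)
  choose U hUfin hmem hU using fun a : A => GrothLib.Comodule.exists_finite_subcomod (k := k) (C := A) a
  let V0 : Submodule k A := ⨆ a ∈ s, U a
  have hV0fin : Module.Finite k V0 := by
    have : ∀ a ∈ s, (U a).FG := fun a _ => Module.Finite.iff_fg.1 (hUfin a)
    exact Module.Finite.iff_fg.2 (Submodule.fg_biSup _ _ this)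
  have hV0 : HopfRep.IsSubcomod (k := k) (A := A) V0 := by
    intro x hx
    have : V0 ≤ (LinearMap.range (V0.subtype.rTensor A)).comap (HopfRep.Comod.coact (k := k) (A := A) (V := A)) := by
      refine iSup₂_le fun a ha y hy => ?_
      obtain ⟨z, hz⟩ := hU a y hy
      have hle : U a ≤ V0 := le_iSup₂_of_le a ha le_rfl
      refine ⟨(Submodule.inclusion hle).rTensor A z, ?_⟩
      rw [← hz, ← LinearMap.comp_apply, ← LinearMap.rTensor_comp]
      rfl
    exact this hx
  let cV := ComodSub.Comod.restr (HopfRep.Comod.regular k A) V0 hV0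
  let W : Submodule k V0 := (I.restrictScalars k).comap V0.subtype
  have : Module.Free k W := Module.Free.of_divisionRing k W
  let d := Module.finrank k W
  obtain ⟨W', hW'⟩ := Submodule.exists_isCompl W
  have : Module.Free k W' := Module.Free.of_divisionRing k W'
  let b : Module.Basis (Fin d ⊕ Fin (Module.finrank k W')) k V0 :=
    ((Module.finBasis k W).prod (Module.finBasis k W')).map (Submodule.prodEquivOfIsCompl W W' hW')
  have hbl : ∀ i, b (Sum.inl i) = (Module.finBasis k W i : V0) := fun i => by simp [b]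
  refine ⟨TensorPower k d V0, inferInstance, inferInstance, ComodTens.Comod.tpow cV d,
    Module.Finite.of_basis (_root_.Basis.piTensorProduct fun _ : Fin d => b), wedgeVec fun i => b (Sum.inl i),
    fun h => ?_, fun R _ _ g => ?_⟩
  · have h1 := congrArg (pf fun m => b.coord (Sum.inl m)) h
    rw [pf_wedgeVec, map_zero] at h1
    refine one_ne_zero (Eq.trans ?_ h1)
    rw [← Matrix.det_one (n := Fin d)]
    congr 1
    ext i m
    simp [Matrix.one_apply, Finsupp.single_apply]
  · refine Iff.trans ?_ (stab_wedge_iff b cV g).symm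
    constructor
    · intro hg j i
      rw [point_cfOf]
      set w := b (Sum.inl i)
      have hwI : (w : A) ∈ I := by
        have : w ∈ W := by simp only [w, hbl]; exact Subtype.mem _
        exact this
      let q : V0 →ₗ[k] A ⧸ I := (Ideal.Quotient.mkₐ k I).toLinearMap ∘ₗ V0.subtype
      have hq : q.rTensor R (g.toLinearMap.lTensor V0 (cV.coact w)) = 0 := by
        have h1 : ∀ z : V0 ⊗[k] A, q.rTensor R (g.toLinearMap.lTensor V0 z) =
            TensorProduct.map (Ideal.Quotient.mkₐ k I).toLinearMap g.toLinearMap (V0.subtype.rTensor A z) := by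
          intro z
          induction z using TensorProduct.induction_on with
          | zero => simp
          | tmul p a => simp [q]
          | add x y hx hy => simp only [map_add, hx, hy]
        rw [h1, ComodSub.restr_coact_coe]
        have h2 : TensorProduct.map (Ideal.Quotient.mkₐ k I).toLinearMap (Ideal.Quotient.mkₐ k I).toLinearMap
            (CoalgebraStruct.comul (R := k) (w : A)) = 0 :=
          (inferInstance : I.IsHopfIdeal k).map_mkQ_comul_eq_zero hwI
        have h3 : ∀ z : A ⊗[k] A, TensorProduct.map (Ideal.Quotient.mkₐ k I).toLinearMap g.toLinearMap z =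
            (Ideal.Quotient.liftₐ I g hg).toLinearMap.lTensor (A ⧸ I)
              (TensorProduct.map (Ideal.Quotient.mkₐ k I).toLinearMap (Ideal.Quotient.mkₐ k I).toLinearMap z) := by
          intro z
          induction z using TensorProduct.induction_on with
          | zero => simp
          | tmul p a => simp
          | add x y hx hy => simp only [map_add, hx, hy]
        exact (h3 _).trans ((congrArg _ h2).trans (map_zero _))
      have hker : LinearMap.ker q = W := by
        ext x
        exact Ideal.Quotient.eq_zero_iff_mem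
      obtain ⟨L, hL⟩ := LinearMap.exists_leftInverse_of_injective (K := k) (V := W') (V' := A ⧸ I) (q ∘ₗ W'.subtype) (by
        rw [LinearMap.ker_comp, hker]
        rw [eq_bot_iff]; intro x hx
        exact Subtype.ext (Submodule.disjoint_def.1 hW'.disjoint.symm x.1 x.2 hx))
      have h0 : b.coord (Sum.inr j) = (Module.finBasis k W').coord j ∘ₗ L ∘ₗ q := by
        refine b.ext fun l => ?_
        rcases l with l | l
        · have hzero : q (b (Sum.inl l)) = 0 := by
            rw [← LinearMap.mem_ker, hker, hbl]; exact Subtype.mem _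
          simp [hzero]
        · have hbr : b (Sum.inr l) = W'.subtype (Module.finBasis k W' l) := by simp [b]
          have := LinearMap.congr_fun hL (Module.finBasis k W' l)
          simp only [LinearMap.comp_apply, LinearMap.id_apply] at this
          simp only [LinearMap.comp_apply, hbr, this]
          rw [← hbr]
          simp [Finsupp.single_apply]
      rw [h0, LinearMap.rTensor_comp, LinearMap.rTensor_comp, LinearMap.comp_apply, LinearMap.comp_apply, hq]
      simp
    · intro h a ha
      suffices hgen : ∀ x ∈ s, g x = 0 by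
        rw [← hs] at ha
        exact (Ideal.span_le.2 fun x hx => (RingHom.mem_ker (f := (g : A →+* R))).2 (hgen x hx)) ha
      intro x hx
      have hxV : x ∈ V0 := (le_iSup₂_of_le x hx le_rfl : U x ≤ V0) (hmem x)
      have hxW : (⟨x, hxV⟩ : V0) ∈ W := by
        change x ∈ I
        rw [← hs]; exact Ideal.subset_span hx
      let εV : Module.Dual k V0 := (CoalgebraStruct.counit (R := k) (A := A)) ∘ₗ V0.subtype
      have hεW : ∀ y : V0, y ∈ W → εV y = 0 := fun y hy =>
        (inferInstance : I.IsHopfIdeal k).counit_eq_zero hy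
      have hgx : ∀ y : V0, g (cfOf cV εV y) = g (y : A) := fun y => by
        rw [cfOf_apply, LinearMap.rTensor_comp, LinearMap.comp_apply, ComodSub.restr_coact_coe]
        congr 1
        change TensorProduct.lid k A ((CoalgebraStruct.counit (R := k) (A := A)).rTensor A (Coalgebra.comul (R := k) (y : A))) = _
        rw [Coalgebra.rTensor_counit_comul, TensorProduct.lid_tmul, one_smul]
      have hdec : εV = ∑ j, εV (b (Sum.inr j)) • b.coord (Sum.inr j) := by
        refine b.ext fun l => ?_
        rcases l with i | j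
        · rw [hεW _ (by rw [hbl]; exact Subtype.mem _)]
          simp [Finsupp.single_apply]
        · simp [Finsupp.single_apply]
      have hgen : ∀ i, g ((b (Sum.inl i) : V0) : A) = 0 := fun i => by
        rw [← hgx, point_cfOf, hdec, ← LinearMap.coe_rTensorHom, map_sum, LinearMap.sum_apply, map_sum]
        refine Finset.sum_eq_zero fun j _ => ?_
        rw [map_smul, LinearMap.smul_apply, map_smul, LinearMap.coe_rTensorHom]
        have := h j i
        rw [point_cfOf] at this
        rw [this, smul_zero]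
      let f : W →ₗ[k] R := g.toLinearMap ∘ₗ V0.subtype ∘ₗ W.subtype
      have hf : f = 0 := (Module.finBasis k W).ext fun i => by
        simpa [f, hbl] using hgen i
      exact LinearMap.congr_fun hf ⟨_, hxW⟩

theorem mem_range_rTensor_iff (W : Submodule k V) (x : V ⊗[k] R) :
    x ∈ LinearMap.range (W.subtype.rTensor R) ↔
      ∀ ζ : Module.Dual k V, (∀ w ∈ W, ζ w = 0) → TensorProduct.lid k R (ζ.rTensor R x) = 0 := by
  constructor
  · rintro ⟨z, rfl⟩ ζ hζ
    rw [← LinearMap.comp_apply (ζ.rTensor R), ← LinearMap.rTensor_comp]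
    have h : ζ ∘ₗ W.subtype = 0 := LinearMap.ext fun w => hζ _ w.2
    rw [h]; simp
  · intro h
    obtain ⟨p, hp⟩ := LinearMap.exists_leftInverse_of_injective W.subtype (Submodule.ker_subtype W)
    refine ⟨p.rTensor R x, ext_coord (Module.Free.chooseBasis k V) fun i => ?_⟩
    have h1 := h ((Module.Free.chooseBasis k V).coord i ∘ₗ (LinearMap.id - W.subtype ∘ₗ p)) fun w hw => by
      have := LinearMap.congr_fun hp ⟨w, hw⟩
      simp only [LinearMap.comp_apply, Submodule.coe_subtype, LinearMap.id_apply] at this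
      simp [this]
    rw [LinearMap.rTensor_comp, LinearMap.rTensor_sub, LinearMap.comp_apply, LinearMap.sub_apply, map_sub,
      LinearMap.rTensor_id, LinearMap.id_apply, map_sub, sub_eq_zero, LinearMap.rTensor_comp, LinearMap.comp_apply] at h1
    exact h1.symm

/-- the coefficients of a translated nonzero vector generate the unit ideal -/
theorem span_coeff_eq_top (c : HopfRep.Comod k A V) (g : A →ₐ[k] R) {y : V} (hy : y ≠ 0) :
    Ideal.span (Set.range fun φ : Module.Dual k V => g (cfOf c φ y)) = ⊤ := by
  let _ := c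
  obtain ⟨φ₀, hφ₀⟩ : ∃ φ : Module.Dual k V, φ y ≠ 0 := by
    by_contra hc
    push Not at hc
    exact hy ((Module.forall_dual_apply_eq_zero_iff k y).1 hc)
  let φ : Module.Dual k V := (φ₀ y)⁻¹ • φ₀
  have hφ : φ y = 1 := by simp [φ, inv_mul_cancel₀ hφ₀]
  set J := Ideal.span (Set.range fun φ : Module.Dual k V => g (cfOf c φ y))
  have hz : GrothLib.PointAct.G g ((1 : R) ⊗ₜ[k] y) ∈ J • (⊤ : Submodule R (R ⊗[k] V)) := by
    rw [GrothLib.PointAct.G_tmul, one_smul]
    let b := Module.Free.chooseBasis k V
    have hx : g.toLinearMap.lTensor V (c.coact y) =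
        (TensorProduct.equivFinsuppOfBasisLeft b (N := R)).symm
          (TensorProduct.equivFinsuppOfBasisLeft b (g.toLinearMap.lTensor V (c.coact y))) :=
      (LinearEquiv.symm_apply_apply _ _).symm
    rw [hx, TensorProduct.equivFinsuppOfBasisLeft_symm_apply, Finsupp.sum, map_sum]
    refine Submodule.sum_mem _ fun i _ => ?_
    rw [TensorProduct.comm_tmul]
    have hc : ∀ z : V ⊗[k] R, TensorProduct.equivFinsuppOfBasisLeft b z i =
        TensorProduct.lid k R ((b.coord i).rTensor R z) := fun z => by
      induction z using TensorProduct.induction_on with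
      | zero => simp
      | tmul p q => simp
      | add x y hx hy => simp only [map_add, Finsupp.add_apply, hx, hy]
    rw [hc, ← point_cfOf, ← mul_one (g (cfOf c (b.coord i) y)), ← smul_eq_mul, ← TensorProduct.smul_tmul']
    exact Submodule.smul_mem_smul (Ideal.subset_span ⟨_, rfl⟩) trivial
  let F : R ⊗[k] V →ₗ[R] R := (TensorProduct.AlgebraTensorModule.rid k R R).toLinearMap ∘ₗ φ.baseChange R
  have h1 : F (GrothLib.PointAct.G (g.comp (HopfAlgebra.antipodeAlgHom k A))
      (GrothLib.PointAct.G g ((1 : R) ⊗ₜ[k] y))) = 1 := by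
    rw [← LinearMap.comp_apply (GrothLib.PointAct.G (g.comp (HopfAlgebra.antipodeAlgHom k A))),
      GrothLib.PointAct.G_inv_comp]
    simp [F, hφ]
  rw [Ideal.eq_top_iff_one, ← h1]
  have h2 := Submodule.mem_map_of_mem (f := F ∘ₗ GrothLib.PointAct.G (g.comp (HopfAlgebra.antipodeAlgHom k A))) hz
  rw [Submodule.map_smul''] at h2
  exact Submodule.smul_le.2 (fun a ha b _ => J.mul_mem_right b ha) h2

/-- `g` scales `v ^⊗m ⊗ w` iff it scales `v` and `w`, for `0 < m` -/
theorem stab_tpow_tensor_iff {W : Type v} [AddCommGroup W] [Module k W] (c : HopfRep.Comod k A V)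
    (c' : HopfRep.Comod k A W) {m : ℕ} (hm : 0 < m) (g : A →ₐ[k] R) {v : V} (hv : v ≠ 0) {w : W} (hw : w ≠ 0) :
    (∃ r : R, g.toLinearMap.lTensor _ ((ComodTens.Comod.tensor (ComodTens.Comod.tpow c m) c').coact
        (PiTensorProduct.tprod k (fun _ : Fin m => v) ⊗ₜ[k] w)) =
      (PiTensorProduct.tprod k (fun _ : Fin m => v) ⊗ₜ[k] w) ⊗ₜ[k] r) ↔
    (∃ r : R, g.toLinearMap.lTensor V (c.coact v) = v ⊗ₜ[k] r) ∧
      ∃ r : R, g.toLinearMap.lTensor W (c'.coact w) = w ⊗ₜ[k] r := by
  classical
  let u := (PiTensorProduct.tprod k (fun _ : Fin m => v) ⊗ₜ[k] w)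
  let F : (Fin m → Module.Dual k V) → Module.Dual k W → Module.Dual k (TensorPower k m V ⊗[k] W) := fun ξ η =>
    (TensorProduct.lid k k).toLinearMap ∘ₗ TensorProduct.map (pf ξ) η
  have hF : ∀ ξ η, g (cfOf (ComodTens.Comod.tensor (ComodTens.Comod.tpow c m) c') (F ξ η) u) =
      (∏ i, g (cfOf c (ξ i) v)) * g (cfOf c' η w) := fun ξ η => by
    rw [cfOf_tensor, cfOf_tpow, map_mul, map_prod]
  have hF' : ∀ ξ η, F ξ η u = (∏ i, ξ i v) * η w := fun ξ η => by
    simp [F, u, pf_tprod]
  constructor
  · rintro ⟨r, hr⟩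
    have key : ∀ (ξ : Fin m → Module.Dual k V) (η : Module.Dual k W), (∏ i, g (cfOf c (ξ i) v)) * g (cfOf c' η w) = ((∏ i, ξ i v) * η w) • r := fun ξ η => by
      rw [← hF, point_cfOf, hr, ← hF']; simp [u]
    have hne : u ≠ 0 := by
      intro h
      obtain ⟨φ, hφ⟩ : ∃ φ : Module.Dual k V, φ v ≠ 0 := by
        by_contra hc; push Not at hc; exact hv ((Module.forall_dual_apply_eq_zero_iff k v).1 hc)
      obtain ⟨η, hη⟩ : ∃ η : Module.Dual k W, η w ≠ 0 := by
        by_contra hc; push Not at hc; exact hw ((Module.forall_dual_apply_eq_zero_iff k w).1 hc)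
      have := hF' (fun _ => φ) η
      rw [h, map_zero] at this
      exact mul_ne_zero (Finset.prod_ne_zero_iff.2 fun _ _ => hφ) hη this.symm
    have hu := isUnit_of_stab _ g hne hr
    obtain ⟨φ₀, hφ₀⟩ : ∃ φ : Module.Dual k V, φ v ≠ 0 := by
      by_contra hc; push Not at hc; exact hv ((Module.forall_dual_apply_eq_zero_iff k v).1 hc)
    obtain ⟨η₀, hη₀⟩ : ∃ η : Module.Dual k W, η w ≠ 0 := by
      by_contra hc; push Not at hc; exact hw ((Module.forall_dual_apply_eq_zero_iff k w).1 hc)
    let φ : Module.Dual k V := (φ₀ v)⁻¹ • φ₀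
    let η : Module.Dual k W := (η₀ w)⁻¹ • η₀
    have hφ : φ v = 1 := by simp [φ, inv_mul_cancel₀ hφ₀]
    have hη : η w = 1 := by simp [η, inv_mul_cancel₀ hη₀]
    set a := g (cfOf c φ v)
    set b := g (cfOf c' η w)
    have hab : a ^ m * b = r := by
      have := key (fun _ => φ) η
      simpa [hφ, hη] using this
    have ha : IsUnit a := (isUnit_pow_iff hm.ne').1 (isUnit_of_mul_isUnit_left (hab ▸ hu))
    have hb : IsUnit b := isUnit_of_mul_isUnit_right (hab ▸ hu)
    refine ⟨(stab_iff c g v).2 ⟨a, fun ζ => ?_⟩, (stab_iff c' g w).2 ⟨b, fun ζ => ?_⟩⟩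
    · have h1 := key (Function.update (fun _ => φ) ⟨0, hm⟩ ζ) η
      simp only [Finset.prod_update_of_mem (Finset.mem_univ _), Finset.prod_const,
        Function.apply_update (fun _ (f : Module.Dual k V) => g (cfOf c f v)),
        Function.apply_update (fun _ (f : Module.Dual k V) => f v)] at h1
      rw [hφ, one_pow, mul_one, hη, mul_one, ← hab] at h1
      have hcard : (Finset.univ \ {(⟨0, hm⟩ : Fin m)}).card = m - 1 := by
        simp [Finset.card_sdiff, Finset.card_univ]
      rw [hcard] at h1
      have hsucc : a ^ m = a * a ^ (m - 1) := by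
        rw [← pow_succ', Nat.sub_add_cancel hm]
      refine ((ha.pow (m - 1)).mul hb).mul_left_injective ?_
      change g (cfOf c ζ v) * (a ^ (m - 1) * b) = (ζ v • a) * (a ^ (m - 1) * b)
      rw [← mul_assoc, h1, hsucc, smul_mul_assoc, mul_assoc]
    · have h1 := key (fun _ => φ) ζ
      simp only [Finset.prod_const, Finset.card_univ, Fintype.card_fin, hφ, one_pow, one_mul] at h1
      rw [← hab] at h1
      refine (ha.pow m).mul_right_injective ?_
      change a ^ m * g (cfOf c' ζ w) = a ^ m * (ζ w • b)
      rw [h1, mul_smul_comm]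
  · rintro ⟨⟨r, hr⟩, ⟨r', hr'⟩⟩
    let bV := Module.Free.chooseBasis k V
    refine ⟨r ^ m * r', (coact_eq_iff
      ((_root_.Basis.piTensorProduct fun _ : Fin m => bV).tensorProduct (Module.Free.chooseBasis k W)) _ g _ _ _).2 ?_⟩
    rintro ⟨p, q⟩
    have hc : (((_root_.Basis.piTensorProduct fun _ : Fin m => bV).tensorProduct (Module.Free.chooseBasis k W)).coord (p, q)) =
        F (fun i => bV.coord (p i)) ((Module.Free.chooseBasis k W).coord q) := by
      refine TensorProduct.ext' fun x y => ?_
      simp only [F, LinearMap.comp_apply, TensorProduct.map_tmul, LinearEquiv.coe_coe, TensorProduct.lid_tmul,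
        ← coord_piTensor, Module.Basis.coord_apply, Module.Basis.tensorProduct_repr_tmul_apply, smul_eq_mul]
      ring
    rw [hc, hF, hF']
    simp only [point_cfOf, hr, hr', LinearMap.rTensor_tmul, TensorProduct.lid_tmul, Algebra.smul_def,
      Finset.prod_mul_distrib, Finset.prod_const, Finset.card_univ, Fintype.card_fin, map_mul, map_prod]
    ring

end GrothLib.LineStab
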