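import Groth.Prelude.Def_Hoch
import Mathlib.LinearAlgebra.TensorProduct.RightExactness

/-!
The contracting homotopy of the Hochschild complex of an induced comodule.
-/

universe u v w

open TensorProduct

namespace GrothLib.HopfAG

variable {k : Type u} [CommRing k] {A : Type v} [Ring A] [Bialgebra k A]

section
variable {P : Type w} [AddCommGroup P] [Module k P]

/-- Applying the counit to the induced factor undoes the induced coaction. -/
theorem counit_rTensor_coact (x : Hoch.Ind k A P) :
    Hoch.Ind.equiv k A P ((Hoch.Ind.counit k A P).rTensor A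
      (HopfRep.Comod.coact (k := k) (A := A) x)) = x := by
  obtain ⟨x, rfl⟩ := (Hoch.Ind.equiv k A P).surjective x
  refine congrArg (Hoch.Ind.equiv k A P) ?_
  induction x using TensorProduct.induction_on with
  | zero => rw [map_zero, map_zero, map_zero]
  | add a b ha hb => rw [map_add, map_add, map_add, ha, hb]
  | tmul p a =>
    rw [Hoch.Ind.coact_equiv_tmul]
    have h : ∀ z : A ⊗[k] A, (Hoch.Ind.counit k A P).rTensor A
        ((TensorProduct.assoc k P A A).symm (p ⊗ₜ[k] z) : Hoch.Ind k A P ⊗[k] A) =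
        p ⊗ₜ[k] TensorProduct.lid k A ((Coalgebra.counit (R := k) (A := A)).rTensor A z) := by
      intro z
      induction z using TensorProduct.induction_on with
      | zero => simp only [TensorProduct.tmul_zero, map_zero]; exact map_zero _
      | add a b ha hb => simp only [TensorProduct.tmul_add, map_add, ← ha, ← hb]; exact map_add _ _ _
      | tmul a b =>
        rw [TensorProduct.assoc_symm_tmul, LinearMap.rTensor_tmul, TensorProduct.lid_tmul,
          ← TensorProduct.smul_tmul]
        exact congrArg (· ⊗ₜ[k] b) (Hoch.Ind.counit_equiv_tmul k A P p a)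
    rw [h, Coalgebra.rTensor_counit_comul, TensorProduct.lid_tmul, one_smul]

theorem coact_equiv_tmul_one (p : P) :
    HopfRep.Comod.coact (k := k) (A := A) (Hoch.Ind.equiv k A P (p ⊗ₜ (1 : A))) =
      Hoch.Ind.equiv k A P (p ⊗ₜ (1 : A)) ⊗ₜ[k] (1 : A) := by
  refine (Hoch.Ind.coact_equiv_tmul k A P p 1).trans ?_
  rw [Bialgebra.comul_one, Algebra.TensorProduct.one_def, TensorProduct.assoc_symm_tmul]
  rfl

/-- The invariants of an induced comodule. -/
theorem range_tmul_one_eq_fixedPts :
    LinearMap.range ((Hoch.Ind.equiv k A P).toLinearMap ∘ₗ (TensorProduct.mk k P A).flip (1 : A)) =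
      HopfRep.fixedPts k A (Hoch.Ind k A P) := by
  ext x
  constructor
  · rintro ⟨p, rfl⟩
    exact coact_equiv_tmul_one p
  · intro hx
    refine ⟨Hoch.Ind.counit k A P x, ?_⟩
    conv_rhs => rw [← counit_rTensor_coact x,
      show HopfRep.Comod.coact (k := k) (A := A) x = x ⊗ₜ[k] (1 : A) from hx, LinearMap.rTensor_tmul]
    rfl

end

section
variable (k A) (P : Type v) [AddCommGroup P] [Module k P]

/-- The contracting homotopy. -/
noncomputable def hIndHom : (n : ℕ) → ((Hoch.cochain k A (Hoch.Ind k A P) (n + 1) : Type v) →ₗ[k]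
    (Hoch.cochain k A (Hoch.Ind k A P) n : Type v))
  | 0 => (Hoch.Ind.equiv k A P).toLinearMap ∘ₗ (Hoch.Ind.counit k A P).rTensor A
  | n + 1 => (hIndHom n).rTensor A

theorem tail_naturality {M N : Type v} [AddCommGroup M] [Module k M] [AddCommGroup N] [Module k N]
    (f : M →ₗ[k] N) :
    (f.rTensor A).rTensor A ∘ₗ Hoch.tail k A M = Hoch.tail k A N ∘ₗ f.rTensor A := by
  refine TensorProduct.ext' fun m a => ?_
  simp only [LinearMap.comp_apply, Hoch.tail_tmul, LinearMap.rTensor_tmul]
  induction (Coalgebra.comul (R := k) a - a ⊗ₜ[k] (1 : A) - 1 ⊗ₜ a) using TensorProduct.induction_on with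
  | zero => simp
  | add a b ha hb => simp only [TensorProduct.tmul_add, map_add, ha, hb]
  | tmul a b => simp

theorem hIndHom_homotopy : ∀ n : ℕ,
    hIndHom k A P (n + 1) ∘ₗ Hoch.d k A (Hoch.Ind k A P) (n + 1) +
      Hoch.d k A (Hoch.Ind k A P) n ∘ₗ hIndHom k A P n = LinearMap.id
  | 0 => by
    refine TensorProduct.ext' fun x a => ?_
    obtain ⟨x, rfl⟩ := (Hoch.Ind.equiv k A P).surjective x
    induction x using TensorProduct.induction_on with
    | zero => simp only [map_zero, TensorProduct.zero_tmul]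
    | add y z hy hz => simp only [map_add, TensorProduct.add_tmul, hy, hz]
    | tmul p b =>
      set X := Hoch.Ind.equiv k A P (p ⊗ₜ[k] b)
      let h0 := hIndHom k A P 0
      have h0c : h0 (HopfRep.Comod.coact (k := k) (A := A) X) = X := counit_rTensor_coact X
      have h0t : ∀ y : A, h0 (X ⊗ₜ[k] y) =
          Hoch.Ind.equiv k A P ((Coalgebra.counit (R := k) b • p) ⊗ₜ[k] y) := by
        intro y
        show Hoch.Ind.equiv k A P ((Hoch.Ind.counit k A P).rTensor A (X ⊗ₜ[k] y)) = _
        rw [LinearMap.rTensor_tmul, Hoch.Ind.counit_equiv_tmul]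
      set q := Coalgebra.counit (R := k) b • p
      show h0.rTensor A ((Hoch.d k A (Hoch.Ind k A P) 0).rTensor A (X ⊗ₜ[k] a) +
          ((-1 : k) ^ 1) • Hoch.tail k A (Hoch.Ind k A P) (X ⊗ₜ[k] a)) +
          Hoch.d k A (Hoch.Ind k A P) 0 (h0 (X ⊗ₜ[k] a)) = X ⊗ₜ[k] a
      have hd : ∀ Y, Hoch.d k A (Hoch.Ind k A P) 0 Y =
          HopfRep.Comod.coact (k := k) (A := A) Y - Y ⊗ₜ[k] (1 : A) := fun Y => rfl
      have hA : h0.rTensor A ((Hoch.d k A (Hoch.Ind k A P) 0).rTensor A (X ⊗ₜ[k] a)) =
          (X - Hoch.Ind.equiv k A P (q ⊗ₜ[k] (1 : A))) ⊗ₜ[k] a := by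
        rw [LinearMap.rTensor_tmul, LinearMap.rTensor_tmul, hd, map_sub, h0c, h0t]
      have hB : h0.rTensor A (Hoch.tail k A (Hoch.Ind k A P) (X ⊗ₜ[k] a)) =
          HopfRep.Comod.coact (k := k) (A := A) (Hoch.Ind.equiv k A P (q ⊗ₜ[k] a)) -
            Hoch.Ind.equiv k A P (q ⊗ₜ[k] a) ⊗ₜ[k] (1 : A) -
            Hoch.Ind.equiv k A P (q ⊗ₜ[k] (1 : A)) ⊗ₜ[k] a := by
        have h : ∀ z : A ⊗[k] A, h0.rTensor A
            ((TensorProduct.assoc k (Hoch.Ind k A P) A A).symm (X ⊗ₜ[k] z)) =
            ((Hoch.Ind.equiv k A P).toLinearMap.rTensor A)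
              ((TensorProduct.assoc k P A A).symm (q ⊗ₜ[k] z)) := by
          intro z
          induction z using TensorProduct.induction_on with
          | zero => simp only [TensorProduct.tmul_zero, map_zero]
          | add a b ha hb => simp only [TensorProduct.tmul_add, map_add, ha, hb]
          | tmul c e =>
            rw [TensorProduct.assoc_symm_tmul, TensorProduct.assoc_symm_tmul, LinearMap.rTensor_tmul,
              LinearMap.rTensor_tmul, h0t]
            rfl
        rw [Hoch.tail_tmul, h, TensorProduct.tmul_sub, TensorProduct.tmul_sub, map_sub, map_sub,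
          map_sub, map_sub, TensorProduct.assoc_symm_tmul, TensorProduct.assoc_symm_tmul,
          LinearMap.rTensor_tmul, LinearMap.rTensor_tmul]
        congr 2
        rw [show (Hoch.Ind.equiv k A P).toLinearMap.rTensor A = LinearMap.id from
          LinearMap.rTensor_id A _]
        exact (Hoch.Ind.coact_equiv_tmul k A P q a).symm
      rw [map_add, map_smul, hA, hB, h0t, hd, pow_one, neg_one_smul, TensorProduct.sub_tmul]
      abel
  | n + 1 => by
    have IH := congrArg (LinearMap.rTensor A) (hIndHom_homotopy n)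
    rw [LinearMap.rTensor_id, LinearMap.rTensor_add, LinearMap.rTensor_comp, LinearMap.rTensor_comp] at IH
    have hn := tail_naturality k A (hIndHom k A P n)
    refine LinearMap.ext fun x => ?_
    have IHx := LinearMap.congr_fun IH x
    have hnx := LinearMap.congr_fun hn x
    simp only [LinearMap.add_apply, LinearMap.comp_apply, LinearMap.id_apply] at IHx hnx
    show (hIndHom k A P (n + 1)).rTensor A
        ((Hoch.d k A (Hoch.Ind k A P) (n + 1)).rTensor A x +
          ((-1 : k) ^ (n + 2)) • Hoch.tail k A (Hoch.cochain k A (Hoch.Ind k A P) (n + 1)) x) +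
        ((Hoch.d k A (Hoch.Ind k A P) n).rTensor A ((hIndHom k A P n).rTensor A x) +
          ((-1 : k) ^ (n + 1)) • Hoch.tail k A (Hoch.cochain k A (Hoch.Ind k A P) n)
            ((hIndHom k A P n).rTensor A x)) = x
    have hnx' : (hIndHom k A P (n + 1)).rTensor A
        (Hoch.tail k A (Hoch.cochain k A (Hoch.Ind k A P) (n + 1)) x) =
        Hoch.tail k A (Hoch.cochain k A (Hoch.Ind k A P) n) ((hIndHom k A P n).rTensor A x) := hnx
    rw [map_add, map_smul, hnx', pow_succ (-1 : k) (n + 1), mul_neg_one, neg_smul]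
    conv_rhs => rw [← IHx]
    abel

theorem cocycles_le_coboundaries_ind (n : ℕ) :
    Hoch.cocycles k A (Hoch.Ind k A P) (n + 1) ≤ Hoch.coboundaries k A (Hoch.Ind k A P) (n + 1) := by
  intro z hz
  refine ⟨hIndHom k A P n z, ?_⟩
  have := LinearMap.congr_fun (hIndHom_homotopy k A P n) z
  simp only [LinearMap.add_apply, LinearMap.comp_apply, LinearMap.id_apply] at this
  rwa [LinearMap.mem_ker.1 hz, map_zero, zero_add] at this

end

end GrothLib.HopfAG
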