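import Groth.Agent.Lib.Comod.Semi
import Groth.Agent.Lib.Comod.Integral
import Groth.Agent.Lib.HopfAG.IndExact
import Groth.Agent.S16471

/-!
Linear reductivity: exactness of invariants, vanishing of Hochschild cohomology.
-/

universe u v w

open TensorProduct HopfRep

namespace GrothLib.LRCoh

open GrothLib.Comodule

variable {k : Type u} [Field k] {A : Type v} [CommRing A] [HopfAlgebra k A]

/-- lifting property of fixed vectors along surjections -/
def InvExact (k : Type u) [Field k] (A : Type v) [CommRing A] [HopfAlgebra k A] : Prop :=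
  ∀ (V W : Type v) [AddCommGroup V] [Module k V] [Comod k A V]
    [AddCommGroup W] [Module k W] [Comod k A W] (φ : V →ₗ[k] W),
    LinearMap.rTensor A φ ∘ₗ Comod.coact (k := k) (A := A) (V := V) =
        Comod.coact (k := k) (A := A) (V := W) ∘ₗ φ →
      Function.Surjective φ → ∀ w ∈ fixedPts k A W, ∃ v ∈ fixedPts k A V, φ v = w

section Hom

variable {X : Type w} [AddCommGroup X] [Module k X] {U : Type v} [AddCommGroup U] [Module k U]

/-- evaluation `(X* ⊗ U) ⊗ A → Hom(X, U ⊗ A)` -/
noncomputable def ev : (Module.Dual k X ⊗[k] U) ⊗[k] A →ₗ[k] (X →ₗ[k] U ⊗[k] A) :=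
  dualTensorHom k X (U ⊗[k] A) ∘ₗ (TensorProduct.assoc k (Module.Dual k X) U A).toLinearMap

theorem ev_injective [Module.Finite k X] : Function.Injective (ev (k := k) (A := A) (X := X) (U := U)) :=
  (dualTensorHom_bijective (R := k) (M := X) (N := U ⊗[k] A)).1.comp (TensorProduct.assoc k _ _ _).injective

variable (cX : Comod k A X) (cU : Comod k A U)

/-- `y ⊗ a ↦ (coact (q y)) * (1 ⊗ S a)` -/
noncomputable def twistL : (X →ₗ[k] U) →ₗ[k] X ⊗[k] A →ₗ[k] U ⊗[k] A :=
  LinearMap.mk₂ k (fun q z => TensorProduct.lift
      (LinearMap.mk₂ k (fun (y : X) (a : A) => (LinearMap.mulRight k (HopfAlgebraStruct.antipode k a)).lTensor U (cU.coact (q y)))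
        (fun y y' a => by simp only [map_add])
        (fun r y a => by simp only [map_smul])
        (fun y a a' => by
          have hm : ∀ b b' : A, LinearMap.mulRight k (b + b') = LinearMap.mulRight k b + LinearMap.mulRight k b' :=
            fun b b' => LinearMap.ext fun x => mul_add x b b'
          rw [map_add, hm, LinearMap.lTensor_add, LinearMap.add_apply])
        (fun r y a => by
          induction cU.coact (q y) using TensorProduct.induction_on with
          | zero => simp
          | tmul p s => simp [TensorProduct.tmul_smul]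
          | add s t hs ht => simp only [map_add, hs, ht, smul_add])) z)
    (fun q q' z => by
      induction z using TensorProduct.induction_on with
      | zero => simp
      | tmul p s => simp
      | add s t hs ht => simp only [map_add, hs, ht]; abel)
    (fun r q z => by
      induction z using TensorProduct.induction_on with
      | zero => simp
      | tmul p s => simp
      | add s t hs ht => simp only [map_add, hs, ht, smul_add])
    (fun q z z' => map_add _ _ _) (fun r q z => map_smul _ _ _)

theorem twistL_tmul (q : X →ₗ[k] U) (y : X) (a : A) :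
    twistL cU q (y ⊗ₜ[k] a) = (LinearMap.mulRight k (HopfAlgebraStruct.antipode k a)).lTensor U (cU.coact (q y)) := rfl

theorem ev_coact {d : Comod k A (Module.Dual k X)} (hd : ComodTens.Comod.IsDual cX d)
    (z : Module.Dual k X ⊗[k] U) (x : X) :
    ev ((ComodTens.Comod.tensor d cU).coact z) x = twistL cU (dualTensorHom k X U z) (cX.coact x) := by
  induction z using TensorProduct.induction_on with
  | zero => simp
  | add s t hs ht => simp only [map_add, LinearMap.add_apply, hs, ht]
  | tmul f u =>
    rw [ComodTens.tensor_coact_tmul]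
    have h1 : ∀ s : Module.Dual k X ⊗[k] A, ev (TensorProduct.map LinearMap.id (LinearMap.mul' k A)
        (TensorProduct.AlgebraTensorModule.tensorTensorTensorComm k k k k (Module.Dual k X) A U A (s ⊗ₜ[k] cU.coact u))) x =
        (LinearMap.mulRight k (dualTensorHom k X A s x)).lTensor U (cU.coact u) := by
      intro s
      induction s using TensorProduct.induction_on with
      | zero => simp
      | tmul f' a =>
        induction cU.coact u using TensorProduct.induction_on with
        | zero => simp
        | tmul p b => simp [ev, mul_comm a, TensorProduct.tmul_smul]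
        | add s t hs ht => simp only [TensorProduct.tmul_add, map_add, LinearMap.add_apply, hs, ht]
      | add s t hs ht =>
        simp only [TensorProduct.add_tmul, map_add, LinearMap.add_apply, hs, ht]
        induction cU.coact u using TensorProduct.induction_on with
        | zero => simp
        | tmul p b => simp [mul_add, TensorProduct.tmul_add]
        | add s' t' hs' ht' => simp only [map_add, ← hs', ← ht']; abel
    rw [h1, hd f, ComodTens.dualCoactFun_apply]
    induction cX.coact x using TensorProduct.induction_on with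
    | zero => simp
    | tmul y a =>
      simp only [TensorProduct.map_tmul, TensorProduct.lid_tmul, twistL_tmul, dualTensorHom_apply, map_smul]
      induction cU.coact u using TensorProduct.induction_on with
      | zero => simp
      | tmul p b => simp [TensorProduct.tmul_smul]
      | add s t hs ht => simp only [map_add, smul_add, hs, ht]
    | add s t hs ht =>
      simp only [map_add]
      rw [← hs, ← ht]
      induction cU.coact u using TensorProduct.induction_on with
      | zero => simp
      | tmul p b => simp [mul_add, TensorProduct.tmul_add]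
      | add s' t' hs' ht' => simp only [map_add, hs', ht']; abel

theorem twistL_id (x : U) : twistL cU LinearMap.id (cU.coact x) = x ⊗ₜ[k] (1 : A) := by
  let P : U ⊗[k] (A ⊗[k] A) →ₗ[k] U ⊗[k] A :=
    (LinearMap.mul' k A ∘ₗ (HopfAlgebraStruct.antipode k).lTensor A).lTensor U
  have h1 : ∀ z : U ⊗[k] A, twistL cU LinearMap.id z = P (TensorProduct.assoc k U A A (cU.coact.rTensor A z)) := by
    intro z
    induction z using TensorProduct.induction_on with
    | zero => simp
    | tmul y a =>
      rw [twistL_tmul, LinearMap.rTensor_tmul, LinearMap.id_apply]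
      induction cU.coact y using TensorProduct.induction_on with
      | zero => simp
      | tmul p b => simp [P]
      | add s t hs ht => simp only [map_add, TensorProduct.add_tmul, hs, ht]
    | add s t hs ht => simp only [map_add, hs, ht]
  have h2 := LinearMap.congr_fun cU.coassoc x
  simp only [LinearMap.comp_apply, LinearEquiv.coe_coe] at h2
  rw [h1, h2, ← LinearMap.comp_apply, ← LinearMap.lTensor_comp, LinearMap.comp_assoc,
    HopfAlgebra.mul_antipode_lTensor_comul, LinearMap.lTensor_comp, LinearMap.comp_apply]
  have h3 := LinearMap.congr_fun cU.counit_comp x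
  simp only [LinearMap.comp_apply, LinearMap.flip_apply, TensorProduct.mk_apply] at h3
  exact (congrArg _ h3).trans (by simp)

theorem isComodHom_of_twistL (q : X →ₗ[k] U) (h : ∀ x, twistL cU q (cX.coact x) = q x ⊗ₜ[k] (1 : A)) (x : X) :
    cU.coact (q x) = q.rTensor A (cX.coact x) := by
  let M : (U ⊗[k] A) ⊗[k] A →ₗ[k] U ⊗[k] A :=
    (LinearMap.mul' k A).lTensor U ∘ₗ (TensorProduct.assoc k U A A).toLinearMap
  have hL : M ((twistL cU q).rTensor A (cX.coact.rTensor A (cX.coact x))) = q.rTensor A (cX.coact x) := by
    induction cX.coact x using TensorProduct.induction_on with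
    | zero => simp
    | tmul y a => simp [M, h y]
    | add s t hs ht => simp only [map_add, hs, ht]
  let N : X ⊗[k] (A ⊗[k] A) →ₗ[k] U ⊗[k] A := TensorProduct.lift
    (LinearMap.mk₂ k (fun (y : X) (w : A ⊗[k] A) => (LinearMap.mulRight k
        (LinearMap.mul' k A ((HopfAlgebraStruct.antipode k).rTensor A w))).lTensor U (cU.coact (q y)))
      (fun y y' w => by simp only [map_add])
      (fun r y w => by simp only [map_smul])
      (fun y w w' => by
        have hm : ∀ b b' : A, LinearMap.mulRight k (b + b') = LinearMap.mulRight k b + LinearMap.mulRight k b' :=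
          fun b b' => LinearMap.ext fun x => mul_add x b b'
        rw [map_add, map_add, hm, LinearMap.lTensor_add, LinearMap.add_apply])
      (fun r y w => by
        induction cU.coact (q y) using TensorProduct.induction_on with
        | zero => simp
        | tmul p s => simp [TensorProduct.tmul_smul]
        | add s t hs ht => simp only [map_add, hs, ht, smul_add]))
  have hN : ∀ z : (X ⊗[k] A) ⊗[k] A, M ((twistL cU q).rTensor A z) = N (TensorProduct.assoc k X A A z) := by
    intro z
    induction z using TensorProduct.induction_on with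
    | zero => simp
    | tmul s a =>
      induction s using TensorProduct.induction_on with
      | zero => simp
      | tmul y b =>
        simp only [LinearMap.rTensor_tmul, twistL_tmul, TensorProduct.assoc_tmul, N, TensorProduct.lift.tmul,
          LinearMap.mk₂_apply, LinearMap.mul'_apply]
        induction cU.coact (q y) using TensorProduct.induction_on with
        | zero => simp
        | tmul p c => simp [M, mul_assoc]
        | add s t hs ht => simp only [map_add, TensorProduct.add_tmul, hs, ht]
      | add s t hs ht => simp only [TensorProduct.add_tmul, map_add, hs, ht]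
    | add s t hs ht => simp only [map_add, hs, ht]
  have hc := LinearMap.congr_fun cX.coassoc x
  simp only [LinearMap.comp_apply, LinearEquiv.coe_coe] at hc
  rw [← hL, hN, hc]
  have h4 : ∀ z : X ⊗[k] A, N ((CoalgebraStruct.comul (R := k) (A := A)).lTensor X z) =
      cU.coact (q (TensorProduct.rid k X ((CoalgebraStruct.counit (R := k) (A := A)).lTensor X z))) := by
    intro z
    induction z using TensorProduct.induction_on with
    | zero => simp
    | tmul y a =>
      simp only [N, LinearMap.lTensor_tmul, TensorProduct.lift.tmul, LinearMap.mk₂_apply, TensorProduct.rid_tmul,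
        map_smul, HopfAlgebra.mul_antipode_rTensor_comul_apply]
      induction cU.coact (q y) using TensorProduct.induction_on with
      | zero => simp
      | tmul p c => simp [Algebra.smul_def, mul_comm, TensorProduct.smul_tmul']
                    rw [TensorProduct.smul_tmul, Algebra.smul_def, mul_comm]
      | add s t hs ht => simp only [map_add, smul_add, hs, ht]
    | add s t hs ht => simp only [map_add, hs, ht]
  have h5 := congrArg (TensorProduct.rid k X) (LinearMap.congr_fun cX.counit_comp x)
  simp only [LinearMap.comp_apply, LinearMap.flip_apply, TensorProduct.mk_apply, TensorProduct.rid_tmul, one_smul] at h5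
  rw [h4, h5]

end Hom

theorem semisimple_regular (hG : IsLinearlyReductive k A) : IsSemisimpleComod k A A := by
  refine semisimple_of_iSup (S := fun U : {U : Submodule k A // IsSimpleSub (k := k) (C := A) U} => U.1)
    (fun U => U.2) (eq_top_iff.2 fun a _ => ?_)
  obtain ⟨U, hfin, haU, hU⟩ := exists_finite_subcomod (k := k) (C := A) a
  let cU := ComodSub.Comod.restr (HopfRep.Comod.regular k A) U hU
  let _ := cU
  have hsub : Hoch.IsComodHom A U.subtype := ComodSub.isComodHom_subtype (HopfRep.Comod.regular k A) U hU
  have hsum := sSup_simpleSub_eq_top (C := A) (V := U) (hG U hfin)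
  have hmem : (⟨a, haU⟩ : U) ∈ (⨆ S : {S : Submodule k U // IsSimpleSub (k := k) (C := A) S}, (S : Submodule k U)) := by
    rw [hsum]; trivial
  have h2 := Submodule.mem_map_of_mem (f := U.subtype) hmem
  rw [Submodule.map_iSup] at h2
  refine SetLike.le_def.1 (iSup_le fun S => ?_) h2
  refine le_iSup_of_le ⟨(S.1).map U.subtype, IsComodHom.map_isSubcomod hsub S.2.1, fun h => S.2.2.1 ?_, fun U' hU' hle => ?_⟩ le_rfl
  · exact Submodule.map_injective_of_injective U.injective_subtype (h.trans (Submodule.map_bot _).symm)
  · have hle' : U'.comap U.subtype ≤ S.1 := fun x hx => by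
      obtain ⟨y, hy, hyx⟩ := hle hx
      exact U.injective_subtype hyx ▸ hy
    have hmc : (U'.comap U.subtype).map U.subtype = U' := by
      rw [Submodule.map_comap_subtype, inf_eq_right.2 (hle.trans (Submodule.map_subtype_le _ _))]
    rcases S.2.2.2 _ (IsComodHom.comap_isSubcomod hsub hU') hle' with e | e
    · left; rw [← hmc, e, Submodule.map_bot]
    · right; rw [← hmc, e]

theorem exists_integral (hG : IsLinearlyReductive k A) :
    ∃ α : Module.Dual k A, IsInvariant α ∧ α 1 = 1 := by
  have hU : IsSubcomod (k := k) (A := A) (Submodule.span k ({1} : Set A)) := by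
    intro x hx
    obtain ⟨c, rfl⟩ := Submodule.mem_span_singleton.1 hx
    refine ⟨(⟨c • 1, hx⟩ : Submodule.span k ({1} : Set A)) ⊗ₜ[k] (1 : A), ?_⟩
    rw [LinearMap.rTensor_tmul, map_smul]
    change (c • (1 : A)) ⊗ₜ[k] (1 : A) = c • CoalgebraStruct.comul (R := k) (1 : A)
    rw [Bialgebra.comul_one]
    rfl
  obtain ⟨U', hU', hc⟩ := semisimple_regular hG _ hU
  let r : A →ₗ[k] A := (Submodule.span k ({1} : Set A)).projection U' hc
  have hr : ∀ b, r b = CoalgebraStruct.counit (R := k) (r b) • (1 : A) := fun b => by
    obtain ⟨c, hc'⟩ := Submodule.mem_span_singleton.1 (show r b ∈ Submodule.span k ({1} : Set A) from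
      Submodule.projection_apply_mem _ _)
    rw [← hc', map_smul, Bialgebra.counit_one, smul_eq_mul, mul_one]
  have hr1 : r 1 = 1 := Submodule.projection_apply_left hc ⟨1, Submodule.mem_span_singleton_self _⟩
  have hhom : ∀ b, r.rTensor A (CoalgebraStruct.comul (R := k) b) = CoalgebraStruct.comul (R := k) (r b) := by
    intro b
    have hb : b ∈ Submodule.span k ({1} : Set A) ⊔ U' := hc.sup_eq_top ▸ Submodule.mem_top
    obtain ⟨p, hp, q, hq, rfl⟩ := Submodule.mem_sup.1 hb
    obtain ⟨c, rfl⟩ := Submodule.mem_span_singleton.1 hp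
    have hrq : r q = 0 := (Submodule.projection_apply_eq_zero_iff hc).2 hq
    obtain ⟨z, hz⟩ := hU' q hq
    have hz0 : r.rTensor A (CoalgebraStruct.comul (R := k) q) = 0 := by
      refine (congrArg (r.rTensor A) hz.symm).trans ?_
      rw [← LinearMap.comp_apply, ← LinearMap.rTensor_comp]
      have : r ∘ₗ U'.subtype = 0 := LinearMap.ext fun x => (Submodule.projection_apply_eq_zero_iff hc).2 x.2
      rw [this]; simp
    simp only [map_add, map_smul, hr1, hrq, hz0, Bialgebra.comul_one, Algebra.TensorProduct.one_def,
      LinearMap.rTensor_tmul, map_zero]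
  refine ⟨(CoalgebraStruct.counit (R := k) (A := A)) ∘ₗ r, fun a => ?_, ?_⟩
  · rw [LinearMap.rTensor_comp, LinearMap.comp_apply, hhom, Coalgebra.rTensor_counit_comul, TensorProduct.lid_tmul,
      one_smul]
    exact hr a
  · rw [LinearMap.comp_apply, hr1]
    exact Bialgebra.counit_one

theorem right_invariant {α : Module.Dual k A} (hα : IsInvariant α) (h1 : α 1 = 1) (a : A) :
    TensorProduct.rid k A (α.lTensor A (CoalgebraStruct.comul (R := k) a)) = α a • (1 : A) := by
  let S := HopfAlgebraStruct.antipode (R := k) (A := A)
  let β : Module.Dual k A := α ∘ₗ S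
  have hS : S 1 = 1 := HopfAlgebra.antipode_one
  have hβ : ∀ b, TensorProduct.rid k A (β.lTensor A (CoalgebraStruct.comul (R := k) b)) = β b • (1 : A) := by
    intro b
    have h := congrArg S (hα (S b))
    rw [map_smul, hS, show Coalgebra.comul (R := k) (S b) = _ from GrothLib.Hopf.comul_antipode (R := k) b] at h
    refine Eq.trans ?_ h
    change _ = S (TensorProduct.lid k A (α.rTensor A (TensorProduct.map S S (TensorProduct.comm k A A (CoalgebraStruct.comul (R := k) b)))))
    induction CoalgebraStruct.comul (R := k) b using TensorProduct.induction_on with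
    | zero => simp
    | tmul p q => simp [β, S, GrothLib.Hopf.antipode_antipode]
    | add s t hs ht => simp only [map_add, hs, ht]
  have heq : ∀ b, α b = β b := by
    intro b
    have e1 := congrArg β (hα b)
    have e2 := congrArg α (hβ b)
    rw [map_smul, show β 1 = 1 by simp only [β, LinearMap.comp_apply, hS, h1], smul_eq_mul, mul_one] at e1
    rw [map_smul, h1, smul_eq_mul, mul_one] at e2
    rw [← e1, ← e2]
    change β (TensorProduct.lid k A (α.rTensor A (CoalgebraStruct.comul (R := k) b))) = _
    induction CoalgebraStruct.comul (R := k) b using TensorProduct.induction_on with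
    | zero => simp
    | tmul p q => simp [mul_comm]
    | add s t hs ht => simp only [map_add, hs, ht]
  have : α = β := LinearMap.ext heq
  rw [this]
  exact hβ a

/-- a carrier in `Type v` for a finite-dimensional space -/
theorem exists_small (X : Type*) [AddCommGroup X] [Module k X] [Module.Finite k X] :
    ∃ (T : Submodule k (Fin (Module.finrank k X) → A)), Nonempty (X ≃ₗ[k] T) := by
  have : Nontrivial A := ⟨⟨0, 1, fun h => by
    have := congrArg (CoalgebraStruct.counit (R := k) (A := A)) h
    simp at this⟩⟩
  let f : X →ₗ[k] (Fin (Module.finrank k X) → A) :=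
    (Algebra.linearMap k A).compLeft _ ∘ₗ (Module.finBasis k X).equivFun.toLinearMap
  refine ⟨LinearMap.range f, ⟨LinearEquiv.ofInjective f ?_⟩⟩
  intro x y h
  exact (Module.finBasis k X).equivFun.injective (funext fun i => (algebraMap k A).injective (congrFun h i))

theorem isComodHom_map {X : Type*} [AddCommGroup X] [Module k X] {Y : Type*} [AddCommGroup Y] [Module k Y]
    {U : Type*} [AddCommGroup U] [Module k U] (cX : Comod k A X) (cY : Comod k A Y) (cU : Comod k A U)
    (f : X →ₗ[k] Y) (hf : ∀ x, cY.coact (f x) = f.rTensor A (cX.coact x)) (z : X ⊗[k] U) :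
    (ComodTens.Comod.tensor cY cU).coact (TensorProduct.map f LinearMap.id z) =
      (TensorProduct.map f LinearMap.id).rTensor A ((ComodTens.Comod.tensor cX cU).coact z) := by
  induction z using TensorProduct.induction_on with
  | zero => simp
  | add s t hs ht => simp only [map_add, hs, ht]
  | tmul x u =>
    rw [TensorProduct.map_tmul, LinearMap.id_apply, ComodTens.tensor_coact_tmul, ComodTens.tensor_coact_tmul, hf]
    generalize cX.coact x = p
    generalize cU.coact u = q
    induction p using TensorProduct.induction_on with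
    | zero => simp
    | tmul x a =>
      induction q using TensorProduct.induction_on with
      | zero => simp
      | tmul y b => simp
      | add s t hs ht => simp only [map_add, TensorProduct.tmul_add, hs, ht]
    | add s t hs ht => simp only [map_add, TensorProduct.add_tmul, hs, ht]

theorem fixed_ofEquiv_iff {X : Type*} [AddCommGroup X] [Module k X] {Y : Type*} [AddCommGroup Y] [Module k Y]
    (c : Comod k A X) (e : X ≃ₗ[k] Y) (x : X) :
    (ComodTens.Comod.ofEquiv e c).coact (e x) = e x ⊗ₜ[k] (1 : A) ↔ c.coact x = x ⊗ₜ[k] (1 : A) := by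
  rw [ComodTens.ofEquiv_coact_apply]
  constructor
  · intro h
    refine Module.Flat.rTensor_preserves_injective_linearMap e.toLinearMap e.injective ?_
    rw [h, LinearMap.rTensor_tmul]
    rfl
  · intro h
    rw [h, LinearMap.rTensor_tmul]
    rfl

theorem exists_compl_of_invExact (hE : InvExact k A) (V : Type v) [AddCommGroup V] [Module k V] (cV : Comod k A V)
    [Module.Finite k V] (U : Submodule k V) (hU : @IsSubcomod k A _ _ _ _ V _ _ cV U) :
    ∃ U'' : Submodule k V, @IsSubcomod k A _ _ _ _ V _ _ cV U'' ∧ IsCompl U U'' := by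
  let cU := ComodSub.Comod.restr cV U hU
  obtain ⟨dV, hdV⟩ := Groth.Agent.S16471.result k A V cV
  obtain ⟨dU, hdU⟩ := Groth.Agent.S16471.result k A U cU
  let c1 := ComodTens.Comod.tensor dV cU
  let c2 := ComodTens.Comod.tensor dU cU
  let Φ : Module.Dual k V ⊗[k] U →ₗ[k] Module.Dual k U ⊗[k] U := TensorProduct.map U.subtype.dualMap LinearMap.id
  have hdual : ∀ f, dU.coact (U.subtype.dualMap f) = U.subtype.dualMap.rTensor A (dV.coact f) := fun f => by
    refine (dualTensorHom_bijective (R := k) (M := U) (N := A)).1 (LinearMap.ext fun u => ?_)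
    rw [hdU]
    have h1 : ∀ z : Module.Dual k V ⊗[k] A, dualTensorHom k U A (U.subtype.dualMap.rTensor A z) u =
        dualTensorHom k V A z (u : V) := by
      intro z
      induction z using TensorProduct.induction_on with
      | zero => simp
      | tmul p q => simp
      | add s t hs ht => simp only [map_add, LinearMap.add_apply, hs, ht]
    rw [h1, hdV, ComodTens.dualCoactFun_apply, ComodTens.dualCoactFun_apply,
      ← ComodSub.restr_coact_coe cV U hU u]
    generalize cU.coact u = z
    induction z using TensorProduct.induction_on with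
    | zero => simp
    | tmul p q => simp
    | add s t hs ht => simp only [map_add, hs, ht]
  have hΦ : ∀ z, c2.coact (Φ z) = Φ.rTensor A (c1.coact z) := isComodHom_map dV dU cU _ hdual
  obtain ⟨e, he⟩ := (dualTensorHom_bijective (R := k) (M := U) (N := U)).2 LinearMap.id
  have hefix : c2.coact e = e ⊗ₜ[k] (1 : A) := by
    refine ev_injective (LinearMap.ext fun x => ?_)
    rw [ev_coact cU cU hdU, he, twistL_id]
    have h1 : ∀ z : Module.Dual k U ⊗[k] U, ev (z ⊗ₜ[k] (1 : A)) x = dualTensorHom k U U z x ⊗ₜ[k] (1 : A) := by
      intro z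
      induction z using TensorProduct.induction_on with
      | zero => simp
      | tmul p q => simp [ev, TensorProduct.smul_tmul']
      | add s t hs ht => simp only [map_add, TensorProduct.add_tmul, LinearMap.add_apply, hs, ht]
    rw [h1, he, LinearMap.id_apply]
  obtain ⟨T1, ⟨e1⟩⟩ := exists_small (k := k) (A := A) (Module.Dual k V ⊗[k] U)
  obtain ⟨T2, ⟨e2⟩⟩ := exists_small (k := k) (A := A) (Module.Dual k U ⊗[k] U)
  let d1 := ComodTens.Comod.ofEquiv e1 c1
  let d2 := ComodTens.Comod.ofEquiv e2 c2
  let φ : T1 →ₗ[k] T2 := e2.toLinearMap ∘ₗ Φ ∘ₗ e1.symm.toLinearMap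
  have hφ : LinearMap.rTensor A φ ∘ₗ d1.coact = d2.coact ∘ₗ φ := by
    refine LinearMap.ext fun y => ?_
    obtain ⟨z, rfl⟩ := e1.surjective y
    simp only [LinearMap.comp_apply, φ, d1, d2, LinearEquiv.coe_coe, LinearEquiv.symm_apply_apply,
      ComodTens.ofEquiv_coact_apply, hΦ]
    induction c1.coact z using TensorProduct.induction_on with
    | zero => simp
    | tmul p q => simp
    | add s t hs ht => simp only [map_add, hs, ht]
  have hsurj : Function.Surjective φ := e2.surjective.comp
    ((TensorProduct.map_surjective (LinearMap.dualMap_surjective_of_injective U.injective_subtype)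
      Function.surjective_id).comp e1.symm.surjective)
  obtain ⟨y, hy, hye⟩ := @hE T1 T2 _ _ d1 _ _ d2 φ hφ hsurj (e2 e) ((fixed_ofEquiv_iff c2 e2 e).2 hefix)
  obtain ⟨z, rfl⟩ := e1.surjective y
  have hz : c1.coact z = z ⊗ₜ[k] (1 : A) := (fixed_ofEquiv_iff c1 e1 z).1 hy
  let q : V →ₗ[k] U := dualTensorHom k V U z
  have hq : ∀ x, cU.coact (q x) = q.rTensor A (cV.coact x) := by
    refine isComodHom_of_twistL cV cU q fun x => ?_
    rw [← ev_coact cV cU hdV, hz]
    clear hz hye hy
    change ev (z ⊗ₜ[k] (1 : A)) x = dualTensorHom k V U z x ⊗ₜ[k] (1 : A)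
    induction z using TensorProduct.induction_on with
    | zero => simp
    | tmul p q => simp [ev, TensorProduct.smul_tmul']
    | add s t hs ht => simp only [map_add, TensorProduct.add_tmul, LinearMap.add_apply, hs, ht]
  have hqu : ∀ u : U, q (u : V) = u := by
    intro u
    have hze : Φ z = e := e2.injective (by simpa [φ] using hye)
    have h1 := LinearMap.congr_fun he u
    rw [← hze, LinearMap.id_apply] at h1
    refine Eq.trans ?_ h1
    simp only [q, Φ]
    clear hz hye hy hze h1 hq
    induction z using TensorProduct.induction_on with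
    | zero => simp
    | tmul p r => simp
    | add s t hs ht => simp only [map_add, LinearMap.add_apply, hs, ht]
  refine ⟨LinearMap.ker q, ?_, ?_⟩
  · exact IsComodHom.ker_isSubcomod (g := q) (LinearMap.ext fun x => hq x)
  · exact LinearMap.isCompl_of_proj (f := q) hqu

theorem isLinearlyReductive_of_invExact (hE : InvExact k A) : IsLinearlyReductive k A :=
  fun V _ _ cV _ U hU => exists_compl_of_invExact hE V cV U hU

theorem invExact_of_isLinearlyReductive (hG : IsLinearlyReductive k A) : InvExact k A := by
  intro V W _ _ _ _ _ _ φ hφ hs w hw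
  obtain ⟨α, hα, h1⟩ := exists_integral hG
  obtain ⟨v, rfl⟩ := hs w
  let avg : V → V := fun x => TensorProduct.rid k V (α.lTensor V (Comod.coact (k := k) (A := A) x))
  refine ⟨avg v, ?_, ?_⟩
  · change _ = _ ⊗ₜ[k] (1 : A)
    have hc := LinearMap.congr_fun (Comod.coassoc (k := k) (A := A) (V := V)) v
    simp only [LinearMap.comp_apply, LinearEquiv.coe_coe] at hc
    let P : V ⊗[k] (A ⊗[k] A) →ₗ[k] V ⊗[k] A := ((TensorProduct.rid k A).toLinearMap ∘ₗ α.lTensor A).lTensor V
    have h2 : ∀ z : V ⊗[k] A, Comod.coact (k := k) (A := A) (TensorProduct.rid k V (α.lTensor V z)) =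
        P (TensorProduct.assoc k V A A ((Comod.coact (k := k) (A := A) (V := V)).rTensor A z)) := by
      intro z
      induction z using TensorProduct.induction_on with
      | zero => simp
      | tmul p q =>
        simp only [LinearMap.lTensor_tmul, TensorProduct.rid_tmul, map_smul, LinearMap.rTensor_tmul]
        induction Comod.coact (k := k) (A := A) p using TensorProduct.induction_on with
        | zero => simp
        | tmul a b => simp [P]
        | add s t hs ht => simp only [smul_add, TensorProduct.add_tmul, map_add, hs, ht]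
      | add s t hs ht => simp only [map_add, hs, ht]
    change Comod.coact (k := k) (A := A) (avg v) = _
    simp only [avg]
    rw [h2, hc]
    induction Comod.coact (k := k) (A := A) v using TensorProduct.induction_on with
    | zero => simp
    | tmul p q =>
      have hβ := GrothLib.LRCoh.right_invariant hα h1 q
      simp only [P, LinearMap.lTensor_tmul, LinearMap.comp_apply, LinearEquiv.coe_coe, TensorProduct.rid_tmul]
      rw [hβ, TensorProduct.tmul_smul, TensorProduct.smul_tmul']
    | add s t hs ht => simp only [map_add, TensorProduct.add_tmul, hs, ht]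
  · simp only [avg]
    have h3 := LinearMap.congr_fun hφ v
    simp only [LinearMap.comp_apply] at h3
    have hw' : Comod.coact (k := k) (A := A) (φ v) = φ v ⊗ₜ[k] (1 : A) := hw
    rw [hw'] at h3
    have h4 : φ (TensorProduct.rid k V (α.lTensor V (Comod.coact (k := k) (A := A) v))) =
        TensorProduct.rid k W (α.lTensor W (φ.rTensor A (Comod.coact (k := k) (A := A) v))) := by
      induction Comod.coact (k := k) (A := A) v using TensorProduct.induction_on with
      | zero => simp
      | tmul p q => simp
      | add s t hs ht => simp only [map_add, hs, ht]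
    rw [h4, h3]; simp [h1]

end GrothLib.LRCoh

namespace GrothLib.LRCoh

open GrothLib.Comodule

section Functorial

variable {k : Type u} [Field k] {A : Type v} [CommRing A] [HopfAlgebra k A]
  {V : Type v} [AddCommGroup V] [Module k V] [Comod k A V]
  {W : Type v} [AddCommGroup W] [Module k W] [Comod k A W]

/-- the map of cochains induced by a linear map -/
noncomputable def cochainMap (f : V →ₗ[k] W) :
    (n : ℕ) → ((Hoch.cochain k A V n : Type v) →ₗ[k] (Hoch.cochain k A W n : Type v))
  | 0 => f
  | n + 1 => (cochainMap f n).rTensor A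

theorem cochainMap_comp_apply {X : Type v} [AddCommGroup X] [Module k X] (f : V →ₗ[k] W) (g : W →ₗ[k] X)
    (h : V →ₗ[k] X) (hfg : g ∘ₗ f = h) : ∀ (n : ℕ) (z),
    cochainMap (A := A) g n (cochainMap f n z) = cochainMap (A := A) h n z
  | 0, z => LinearMap.congr_fun hfg z
  | n + 1, z => by
    induction z using TensorProduct.induction_on with
    | zero => simp
    | tmul p q =>
      change cochainMap g n (cochainMap f n p) ⊗ₜ[k] q = cochainMap h n p ⊗ₜ[k] q
      rw [cochainMap_comp_apply f g h hfg n p]
    | add s t hs ht => simp only [map_add, hs, ht]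

theorem cochainMap_id : ∀ (n : ℕ) (z), cochainMap (A := A) (LinearMap.id : V →ₗ[k] V) n z = z
  | 0, z => rfl
  | n + 1, z => by
    induction z using TensorProduct.induction_on with
    | zero => simp
    | tmul p q =>
      change cochainMap (A := A) (LinearMap.id : V →ₗ[k] V) n p ⊗ₜ[k] q = p ⊗ₜ[k] q
      rw [cochainMap_id n p]
    | add s t hs ht => simp only [map_add, hs, ht]

theorem cochainMap_d (f : V →ₗ[k] W) (hf : Hoch.IsComodHom A f) : ∀ (n : ℕ) (z),
    Hoch.d k A W n (cochainMap f n z) = cochainMap f (n + 1) (Hoch.d k A V n z)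
  | 0, z => by
    simp only [cochainMap, Hoch.d, LinearMap.sub_apply, map_sub, LinearMap.flip_apply, TensorProduct.mk_apply,
      LinearMap.rTensor_tmul]
    rw [IsComodHom.apply hf]
  | n + 1, z => by
    induction z using TensorProduct.induction_on with
    | zero => simp
    | tmul p q =>
      change (Hoch.d k A W n).rTensor A (cochainMap f n p ⊗ₜ[k] q) +
          ((-1 : k) ^ (n + 1)) • Hoch.tail k A (Hoch.cochain k A W n) (cochainMap f n p ⊗ₜ[k] q) =
        (cochainMap f (n + 1)).rTensor A ((Hoch.d k A V n).rTensor A (p ⊗ₜ[k] q) +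
          ((-1 : k) ^ (n + 1)) • Hoch.tail k A (Hoch.cochain k A V n) (p ⊗ₜ[k] q))
      rw [map_add, map_smul, LinearMap.rTensor_tmul, LinearMap.rTensor_tmul, LinearMap.rTensor_tmul,
        cochainMap_d f hf n p, Hoch.tail, Hoch.tail]
      congr 2
      simp only [LinearMap.comp_apply, LinearEquiv.coe_coe, LinearMap.lTensor_tmul]
      induction Hoch.redComul k A q using TensorProduct.induction_on with
      | zero => simp
      | tmul a b => rfl
      | add s t hs ht => simp only [TensorProduct.tmul_add, map_add, hs, ht]
    | add s t hs ht => simp only [map_add, hs, ht]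

end Functorial

theorem d_d_zero {k : Type u} [Field k] {A : Type v} [CommRing A] [HopfAlgebra k A] {V : Type v} [AddCommGroup V]
    [Module k V] [Comod k A V] (v : V) :
    Hoch.d k A V 1 (Comod.coact (k := k) (A := A) v - v ⊗ₜ[k] (1 : A) : V ⊗[k] A) = 0 := by
  set ρ := Comod.coact (k := k) (A := A) (V := V)
  have hc := LinearMap.congr_fun (Comod.coassoc (k := k) (A := A) (V := V)) v
  simp only [LinearMap.comp_apply, LinearEquiv.coe_coe] at hc
  have h1 : ∀ z : V ⊗[k] A, Hoch.d k A V 1 z =
      ρ.rTensor A z - (TensorProduct.assoc k V A A).symm ((CoalgebraStruct.comul (R := k) (A := A)).lTensor V z) +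
        z ⊗ₜ[k] (1 : A) := by
    intro z
    induction z using TensorProduct.induction_on with
    | zero => simp
    | tmul p q =>
      change (Hoch.d k A V 0).rTensor A (p ⊗ₜ[k] q) + ((-1 : k) ^ (0 + 1)) • Hoch.tail k A V (p ⊗ₜ[k] q) = _
      rw [LinearMap.rTensor_tmul, Hoch.d_zero_apply, Hoch.tail_tmul, TensorProduct.tmul_sub, TensorProduct.tmul_sub,
        map_sub, map_sub, TensorProduct.assoc_symm_tmul, TensorProduct.assoc_symm_tmul, LinearMap.rTensor_tmul,
        LinearMap.lTensor_tmul, show ((-1 : k) ^ (0 + 1)) = -1 from by norm_num]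
      refine (congrArg (fun w : (V ⊗[k] A) ⊗[k] A => (Comod.coact (k := k) (A := A) p - p ⊗ₜ[k] (1 : A)) ⊗ₜ[k] q + w) (neg_one_smul k (_ : (V ⊗[k] A) ⊗[k] A))).trans ?_
      simp only [ρ, TensorProduct.sub_tmul]
      abel
    | add s t hs ht => simp only [map_add, TensorProduct.add_tmul, hs, ht]; abel
  refine (h1 _).trans ?_
  rw [map_sub, map_sub, map_sub, LinearMap.rTensor_tmul, LinearMap.lTensor_tmul, Bialgebra.comul_one,
    Algebra.TensorProduct.one_def, TensorProduct.assoc_symm_tmul, TensorProduct.sub_tmul, ← hc,
    LinearEquiv.symm_apply_apply]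
  abel

theorem cocycles_le {k : Type u} [Field k] {A : Type v} [CommRing A] [HopfAlgebra k A] (hG : IsLinearlyReductive k A)
    (V : Type v) [AddCommGroup V] [Module k V] [cV : Comod k A V] (n : ℕ) :
    Hoch.cocycles k A V (n + 1) ≤ Hoch.coboundaries k A V (n + 1) := by
  obtain ⟨α, hα, h1⟩ := exists_integral hG
  let ι : V →ₗ[k] Hoch.Ind k A V := Hoch.toInd k A V
  let r : Hoch.Ind k A V →ₗ[k] V := average α
  have hri : r ∘ₗ ι = LinearMap.id := LinearMap.ext fun x => average_coact α h1 x
  intro z hz
  have hz' : cochainMap ι (n + 1) z ∈ Hoch.cocycles k A (Hoch.Ind k A V) (n + 1) := by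
    refine LinearMap.mem_ker.2 ?_
    rw [cochainMap_d ι isComodHom_toInd, LinearMap.mem_ker.1 hz, map_zero]
  obtain ⟨h, hh⟩ := GrothLib.HopfAG.cocycles_le_coboundaries_ind (k := k) (A := A) (P := V) n hz'
  refine ⟨cochainMap r n h, ?_⟩
  rw [cochainMap_d r (isComodHom_average α hα), hh, cochainMap_comp_apply ι r LinearMap.id hri, cochainMap_id]

theorem invExact_of_H1 {k : Type u} [Field k] {A : Type v} [CommRing A] [HopfAlgebra k A]
    (h : ∀ (V : Type v) [AddCommGroup V] [Module k V] [Comod k A V], Module.Finite k V →
      Hoch.cocycles k A V 1 ≤ Hoch.coboundaries k A V 1) : InvExact k A := by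
  intro V W _ _ cV _ _ _ φ hφ hs w hw
  obtain ⟨v, rfl⟩ := hs w
  obtain ⟨U, hfin, hvU, hU⟩ := exists_finite_subcomod (k := k) (C := A) v
  let K : Submodule k V := U ⊓ LinearMap.ker φ
  have hφ' : Hoch.IsComodHom A φ := hφ.symm
  have hK : IsSubcomod (k := k) (A := A) K := isSubcomod_inf hU (IsComodHom.ker_isSubcomod hφ')
  have : Module.Finite k K := Module.Finite.of_injective (Submodule.inclusion (inf_le_left : K ≤ U)) (Submodule.inclusion_injective _)
  let cK := ComodSub.Comod.restr cV K hK
  have hsub : Hoch.IsComodHom A K.subtype := ComodSub.isComodHom_subtype cV K hK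
  let z : V ⊗[k] A := Comod.coact (k := k) (A := A) v - v ⊗ₜ[k] (1 : A)
  obtain ⟨zU, hzU⟩ : z ∈ LinearMap.range (U.subtype.rTensor A) :=
    Submodule.sub_mem _ (hU v hvU) ⟨⟨v, hvU⟩ ⊗ₜ[k] (1 : A), rfl⟩
  obtain ⟨p, hp⟩ := LinearMap.exists_leftInverse_of_injective (V := K) (V' := U)
    (Submodule.inclusion (inf_le_left : K ≤ U)) (Submodule.ker_inclusion _ _ _)
  have hzK : z ∈ LinearMap.range (K.subtype.rTensor A) := by
    refine ⟨p.rTensor A zU, ?_⟩
    have h0 : φ.rTensor A z = 0 := by
      rw [map_sub, LinearMap.rTensor_tmul, ← IsComodHom.apply hφ', sub_eq_zero]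
      exact hw
    obtain ⟨q, hq⟩ : ∃ q : W →ₗ[k] V, ∀ x : U, K.subtype (p x) = (x : V) - q (φ (x : V)) := by
      let g : U →ₗ[k] V := U.subtype - K.subtype ∘ₗ p
      have hg : LinearMap.ker (φ ∘ₗ U.subtype) ≤ LinearMap.ker g := by
        intro x hx
        have hxK : (x : V) ∈ K := ⟨x.2, hx⟩
        have := LinearMap.congr_fun hp ⟨(x : V), hxK⟩
        simp only [LinearMap.comp_apply, LinearMap.id_apply] at this
        change (x : V) - (p x : V) = 0
        rw [show p x = ⟨(x : V), hxK⟩ from this, sub_self]
      obtain ⟨q', hq'⟩ : ∃ q' : W →ₗ[k] V, q' ∘ₗ (φ ∘ₗ U.subtype) = g := by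
        let g₁ := (LinearMap.ker (φ ∘ₗ U.subtype)).liftQ g hg
        let e := (φ ∘ₗ U.subtype).quotKerEquivRange
        obtain ⟨q', hq'⟩ := LinearMap.exists_extend (g₁ ∘ₗ e.symm.toLinearMap)
        refine ⟨q', LinearMap.ext fun x => ?_⟩
        have h2 := LinearMap.congr_fun hq' (e (Submodule.Quotient.mk x))
        simp only [LinearMap.comp_apply, LinearEquiv.coe_coe, LinearEquiv.symm_apply_apply] at h2
        exact h2
      refine ⟨q', fun x => ?_⟩
      have h2 := LinearMap.congr_fun hq' x
      simp only [LinearMap.comp_apply] at h2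
      change (p x : V) = _
      rw [show q' (φ (x : V)) = (x : V) - (p x : V) from h2]
      abel
    have hmap : K.subtype ∘ₗ p = U.subtype - (q ∘ₗ φ) ∘ₗ U.subtype := LinearMap.ext fun x => hq x
    rw [← LinearMap.comp_apply, ← LinearMap.rTensor_comp, hmap, LinearMap.rTensor_sub, LinearMap.sub_apply,
      LinearMap.rTensor_comp, LinearMap.comp_apply, hzU, LinearMap.rTensor_comp, LinearMap.comp_apply, h0, map_zero,
      sub_zero]
  obtain ⟨zK, hzK⟩ := hzK
  have hcoc : (zK : (Hoch.cochain k A K 1 : Type v)) ∈ Hoch.cocycles k A K 1 := by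
    refine LinearMap.mem_ker.2 ?_
    have hinj : Function.Injective (cochainMap (A := A) K.subtype 2) :=
      Module.Flat.rTensor_preserves_injective_linearMap _
        (Module.Flat.rTensor_preserves_injective_linearMap _ K.injective_subtype)
    refine hinj ?_
    rw [← cochainMap_d K.subtype hsub 1, map_zero]
    change Hoch.d k A V 1 (K.subtype.rTensor A zK) = 0
    rw [hzK]
    exact d_d_zero v
  obtain ⟨u, hu⟩ := h K inferInstance hcoc
  refine ⟨v - (u : V), ?_, by rw [map_sub, LinearMap.mem_ker.1 u.2.2, sub_zero]⟩
  change Comod.coact (k := k) (A := A) (v - (u : V)) = (v - (u : V)) ⊗ₜ[k] (1 : A)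
  have h2 := congrArg (cochainMap (A := A) K.subtype 1) hu
  rw [← cochainMap_d K.subtype hsub 0] at h2
  have h3 : Comod.coact (k := k) (A := A) (u : V) - (u : V) ⊗ₜ[k] (1 : A) = z := h2.trans hzK
  rw [map_sub, TensorProduct.sub_tmul, sub_eq_sub_iff_sub_eq_sub]
  exact h3.symm

end GrothLib.LRCoh
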