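import Mathlib.RingTheory.Ideal.AssociatedPrime.Finiteness
import Mathlib.RingTheory.Support
import Mathlib.RingTheory.LocalRing.Module
import Mathlib.Algebra.DirectSum.Module
import Mathlib.LinearAlgebra.TensorProduct.Tower
import Mathlib.LinearAlgebra.Dimension.Finite

/-!
A finite module over a Noetherian ring has boundedly many summands in any decomposition.
-/

universe u v w

open TensorProduct

namespace GrothLib.AssBound

theorem exists_bound (R : Type u) [CommRing R] [IsNoetherianRing R]
    (M : Type v) [AddCommGroup M] [Module R M] [Module.Finite R M] :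
    ∃ n : ℕ, ∀ (ι : Type w) [DecidableEq ι] (N : ι → Submodule R M), DirectSum.IsInternal N →
      ∃ s : Finset ι, s.card ≤ n ∧ ∀ i, N i ≠ ⊥ → i ∈ s := by
  classical
  set P := (associatedPrimes.finite R M).toFinset
  let d : Ideal R → ℕ := fun p => if h : p.IsPrime then
    haveI := h; Module.finrank p.ResidueField (p.ResidueField ⊗[R] M) else 0
  refine ⟨∑ p ∈ P, d p, fun ι _ N hN => ?_⟩
  let e := LinearEquiv.ofBijective (DirectSum.coeLinearMap N) hN
  let π : ∀ i, M →ₗ[R] N i := fun i => DirectSum.component R ι (fun i => N i) i ∘ₗ e.symm.toLinearMap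
  have hπ : ∀ i j (x : N j), π i (x : M) = if h : j = i then h ▸ x else 0 := by
    intro i j x
    have hx : e.symm (x : M) = DirectSum.lof R ι (fun i => N i) j x := by
      rw [LinearEquiv.symm_apply_eq]
      simp [e]
    simp only [π, LinearMap.comp_apply, LinearEquiv.coe_coe, hx]
    rw [DirectSum.component.of]
  have hprime : ∀ i, N i ≠ ⊥ → ∃ p ∈ P, p ∈ associatedPrimes R (N i) := by
    intro i hi
    haveI : Nontrivial (N i) := Submodule.nontrivial_iff_ne_bot.2 hi
    obtain ⟨p, hp⟩ := associatedPrimes.nonempty R (N i)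
    exact ⟨p, (Set.Finite.mem_toFinset _).2
      (associatedPrimes.subset_of_injective (N i).injective_subtype hp), hp⟩
  have hbound : ∀ p ∈ P, ∀ t : Finset ι, (∀ i ∈ t, p ∈ associatedPrimes R (N i)) → t.card ≤ d p := by
    intro p hpP t ht
    haveI hp : p.IsPrime := ((Set.Finite.mem_toFinset _).1 hpP).isPrime
    simp only [d, dif_pos hp]
    have hne : ∀ i : t, ∃ x : N i, (1 : p.ResidueField) ⊗ₜ[R] x ≠ 0 := by
      intro i
      haveI : Module.Finite R (N i) := Module.Finite.iff_fg.2 (IsNoetherian.noetherian _)
      have hs : (⟨p, hp⟩ : PrimeSpectrum R) ∈ Module.support R (N i) := by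
        rw [Module.mem_support_iff_of_finite]
        have := IsAssociatedPrime.annihilator_le (ht i i.2)
        rwa [Submodule.annihilator_top] at this
      rw [Module.mem_support_iff_nontrivial_residueField_tensorProduct] at hs
      by_contra! h
      refine not_subsingleton_iff_nontrivial.mpr hs ⟨fun a b => ?_⟩
      suffices ∀ z : p.ResidueField ⊗[R] (N i), z = 0 by rw [this a, this b]
      intro z
      induction z using TensorProduct.induction_on with
      | zero => rfl
      | tmul c x =>
        rw [show c ⊗ₜ[R] x = c • ((1 : p.ResidueField) ⊗ₜ[R] x) by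
          rw [TensorProduct.smul_tmul', smul_eq_mul, mul_one], h x, smul_zero]
      | add a b ha hb => rw [ha, hb, add_zero]
    choose x hx using hne
    have hli : LinearIndependent p.ResidueField
        fun i : t => (1 : p.ResidueField) ⊗ₜ[R] ((x i : N i) : M) := by
      rw [Fintype.linearIndependent_iff]
      intro c hc j
      have h := congrArg ((π (j : ι)).baseChange p.ResidueField) hc
      rw [map_sum, map_zero, Finset.sum_eq_single j] at h
      · rw [map_smul, LinearMap.baseChange_tmul, hπ, dif_pos rfl] at h
        exact (smul_eq_zero.1 h).resolve_right (hx j)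
      · intro i _ hij
        rw [map_smul, LinearMap.baseChange_tmul, hπ, dif_neg (fun h => hij (Subtype.ext h)),
          TensorProduct.tmul_zero, smul_zero]
      · simp
    simpa using hli.fintype_card_le_finrank
  have hcover : ∀ t : Finset ι, (∀ i ∈ t, N i ≠ ⊥) → t.card ≤ ∑ p ∈ P, d p := by
    intro t ht
    calc t.card ≤ (P.biUnion fun p => t.filter fun i => p ∈ associatedPrimes R (N i)).card := by
          refine Finset.card_le_card fun i hi => ?_
          obtain ⟨p, hp, hpi⟩ := hprime i (ht i hi)
          exact Finset.mem_biUnion.2 ⟨p, hp, Finset.mem_filter.2 ⟨hi, hpi⟩⟩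
      _ ≤ ∑ p ∈ P, (t.filter fun i => p ∈ associatedPrimes R (N i)).card := Finset.card_biUnion_le
      _ ≤ ∑ p ∈ P, d p := Finset.sum_le_sum fun p hp =>
          hbound p hp _ fun i hi => (Finset.mem_filter.1 hi).2
  have hfinite : {i | N i ≠ ⊥}.Finite := by
    by_contra hinf
    obtain ⟨t, hts, htc⟩ := Set.Infinite.exists_subset_card_eq hinf (∑ p ∈ P, d p + 1)
    have := hcover t fun i hi => hts hi
    omega
  exact ⟨hfinite.toFinset, hcover _ fun i hi => (Set.Finite.mem_toFinset _).1 hi,
    fun i hi => (Set.Finite.mem_toFinset _).2 hi⟩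

end GrothLib.AssBound
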