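import Groth.Prelude.Def_Conn
import Mathlib.LinearAlgebra.Trace
import Mathlib.LinearAlgebra.TensorProduct.Basis

/-!
Connections in coordinates: covariant derivatives along linear forms.
-/

universe u v

open TensorProduct

namespace GrothLib.ConnCoord

variable {A : Type v} {B Ω M N P : Type u} [CommRing A] [CommRing B] [Algebra A B]
  [AddCommGroup Ω] [Module B Ω] [Module A Ω] [IsScalarTower A B Ω]
  [AddCommGroup M] [Module B M] [Module A M] [IsScalarTower A B M]
  [AddCommGroup N] [Module B N] [Module A N] [IsScalarTower A B N]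
  [AddCommGroup P] [Module B P] [Module A P] [IsScalarTower A B P]

omit [Module A Ω] [IsScalarTower A B Ω] [Module A M] [IsScalarTower A B M] [Module A N]
  [IsScalarTower A B N] in
/-- Contraction commutes with maps of the first factor. -/
theorem contract_map (θ : Ω →ₗ[B] B) (f : M →ₗ[B] N) (z : M ⊗[B] Ω) :
    TensorProduct.rid B N (TensorProduct.map LinearMap.id θ (TensorProduct.map f LinearMap.id z)) =
      f (TensorProduct.rid B M (TensorProduct.map LinearMap.id θ z)) := by
  induction z using TensorProduct.induction_on with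
  | zero => simp
  | add a b ha hb => simp only [map_add, ha, hb]
  | tmul m w => simp

omit [Module A Ω] [IsScalarTower A B Ω] [Module A M] [IsScalarTower A B M] in
theorem ext_coord [Module.Free B Ω] {z z' : M ⊗[B] Ω}
    (h : ∀ θ : Ω →ₗ[B] B, TensorProduct.rid B M (TensorProduct.map LinearMap.id θ z) =
      TensorProduct.rid B M (TensorProduct.map LinearMap.id θ z')) : z = z' := by
  classical
  let b := Module.Free.chooseBasis B Ω
  refine (TensorProduct.equivFinsuppOfBasisRight b).injective (Finsupp.ext fun i => ?_)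
  have key : ∀ w : M ⊗[B] Ω, TensorProduct.equivFinsuppOfBasisRight b w i =
      TensorProduct.rid B M (TensorProduct.map LinearMap.id (b.coord i) w) := fun w => by
    induction w using TensorProduct.induction_on with
    | zero => simp
    | add a c ha hc => simp [ha, hc]
    | tmul m c => simp
  rw [key, key, h]

/-- Leibniz rule of a covariant derivative. -/
theorem along_smul {δ : Derivation A B Ω} {n : M →ₗ[A] M ⊗[B] Ω} (hc : Conn.IsConn δ n) (θ : Ω →ₗ[B] B)
    (b : B) (m : M) : Conn.along n θ (b • m) = b • Conn.along n θ m + θ (δ b) • m := by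
  simp [Conn.along_apply, hc b m, map_add]

/-- The induced connection on linear maps, in coordinates. -/
theorem along_hom {nM : M →ₗ[A] M ⊗[B] Ω} {nN : N →ₗ[A] N ⊗[B] Ω}
    {n'' : (M →ₗ[B] N) →ₗ[A] (M →ₗ[B] N) ⊗[B] Ω} (hE : Conn.IsHomConn nM nN n'') (θ : Ω →ₗ[B] B)
    (φ : M →ₗ[B] N) (m : M) :
    Conn.along n'' θ φ m = Conn.along nN θ (φ m) - φ (Conn.along nM θ m) := by
  rw [Conn.along_apply, Conn.along_apply, Conn.along_apply]
  have h := congrArg (fun z => TensorProduct.rid B N (TensorProduct.map LinearMap.id θ z)) (hE φ m)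
  simp only [map_sub, contract_map] at h
  exact h

/-- The induced connection on a tensor product, in coordinates. -/
theorem along_tensor {nM : M →ₗ[A] M ⊗[B] Ω} {nN : N →ₗ[A] N ⊗[B] Ω}
    {n'' : M ⊗[B] N →ₗ[A] (M ⊗[B] N) ⊗[B] Ω} (hT : Conn.IsTensorConn nM nN n'') (θ : Ω →ₗ[B] B)
    (m : M) (x : N) :
    Conn.along n'' θ (m ⊗ₜ[B] x) = Conn.along nM θ m ⊗ₜ[B] x + m ⊗ₜ[B] Conn.along nN θ x := by
  rw [Conn.along_apply, Conn.along_apply, Conn.along_apply, hT m x, map_add, map_add]
  congr 1
  · induction nM m using TensorProduct.induction_on with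
    | zero => simp
    | add a b ha hb => simp only [map_add, TensorProduct.add_tmul, ha, hb]
    | tmul a w => simp [Conn.swapR_tmul, TensorProduct.smul_tmul']
  · induction nN x using TensorProduct.induction_on with
    | zero => simp
    | add a b ha hb => simp only [map_add, TensorProduct.tmul_add, ha, hb]
    | tmul a w => simp

theorem along_triv (δ : Derivation A B Ω) (θ : Ω →ₗ[B] B) (b : B) :
    Conn.along (Conn.triv δ) θ b = θ (δ b) := by
  simp [Conn.along_apply, Conn.triv_apply]

/-- Horizontality is commutation with the covariant derivatives. -/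
theorem isHorizontal_of_along [Module.Free B Ω] {nM : M →ₗ[A] M ⊗[B] Ω} {nN : N →ₗ[A] N ⊗[B] Ω}
    (f : M →ₗ[B] N) (h : ∀ (θ : Ω →ₗ[B] B) (m : M), Conn.along nN θ (f m) = f (Conn.along nM θ m)) :
    Conn.IsHorizontal nM nN f := by
  intro m
  refine ext_coord fun θ => ?_
  rw [contract_map]
  exact h θ m

/-- The covariant derivative of a composite. -/
theorem along_comp {nM : M →ₗ[A] M ⊗[B] Ω} {nN : N →ₗ[A] N ⊗[B] Ω} {nP : P →ₗ[A] P ⊗[B] Ω}
    {nMN : (M →ₗ[B] N) →ₗ[A] (M →ₗ[B] N) ⊗[B] Ω} {nNP : (N →ₗ[B] P) →ₗ[A] (N →ₗ[B] P) ⊗[B] Ω}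
    {nMP : (M →ₗ[B] P) →ₗ[A] (M →ₗ[B] P) ⊗[B] Ω}
    (h₁ : Conn.IsHomConn nM nN nMN) (h₂ : Conn.IsHomConn nN nP nNP) (h₃ : Conn.IsHomConn nM nP nMP)
    (θ : Ω →ₗ[B] B) (ψ : N →ₗ[B] P) (φ : M →ₗ[B] N) :
    Conn.along nMP θ (ψ ∘ₗ φ) = Conn.along nNP θ ψ ∘ₗ φ + ψ ∘ₗ Conn.along nMN θ φ := by
  refine LinearMap.ext fun m => ?_
  simp only [LinearMap.add_apply, LinearMap.comp_apply, along_hom h₁, along_hom h₂, along_hom h₃, map_sub]
  abel

/-- The trace commutes with covariant derivatives. -/
theorem along_trace [Module.Finite B M] [Module.Free B M] {δ : Derivation A B Ω} {n : M →ₗ[A] M ⊗[B] Ω}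
    (hc : Conn.IsConn δ n) {nE : (M →ₗ[B] M) →ₗ[A] (M →ₗ[B] M) ⊗[B] Ω} (hE : Conn.IsHomConn n n nE)
    (θ : Ω →ₗ[B] B) (φ : M →ₗ[B] M) :
    LinearMap.trace B M (Conn.along nE θ φ) = θ (δ (LinearMap.trace B M φ)) := by
  classical
  let b := Module.Free.chooseBasis B M
  rw [LinearMap.trace_eq_matrix_trace B b, LinearMap.trace_eq_matrix_trace B b]
  simp only [Matrix.trace, Matrix.diag, LinearMap.toMatrix_apply, map_sum]
  have key : ∀ i, b.repr (Conn.along n θ (φ (b i))) i =
      θ (δ (b.repr (φ (b i)) i)) + ∑ j, b.repr (φ (b i)) j * b.repr (Conn.along n θ (b j)) i := by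
    intro i
    conv_lhs => rw [← b.sum_repr (φ (b i))]
    simp only [map_sum, along_smul hc, map_add, map_smul, Finsupp.coe_add, Finsupp.coe_smul,
      Finsupp.coe_finsetSum, Pi.add_apply, Pi.smul_apply, Finset.sum_apply, smul_eq_mul,
      Finset.sum_add_distrib]
    rw [add_comm]
    congr 1
    rw [Finset.sum_eq_single i]
    · simp
    · intro j _ hj; simp [hj]
    · simp
  have key2 : ∀ i, b.repr (φ (Conn.along n θ (b i))) i =
      ∑ j, b.repr (Conn.along n θ (b i)) j * b.repr (φ (b j)) i := by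
    intro i
    conv_lhs => rw [← b.sum_repr (Conn.along n θ (b i))]
    simp only [map_sum, map_smul, Finsupp.coe_finsetSum, Finsupp.coe_smul, Pi.smul_apply,
      Finset.sum_apply, smul_eq_mul]
  simp only [along_hom hE, map_sub, Finsupp.coe_sub, Pi.sub_apply, key, key2, Finset.sum_sub_distrib,
    Finset.sum_add_distrib]
  rw [add_sub_assoc, add_eq_left, sub_eq_zero]
  rw [Finset.sum_comm]
  exact Finset.sum_congr rfl fun i _ => Finset.sum_congr rfl fun j _ => mul_comm _ _

end GrothLib.ConnCoord
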