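import Mathlib.LinearAlgebra.Contraction
import Mathlib.LinearAlgebra.TensorProduct.RightExactness
import Mathlib.RingTheory.Flat.Basic
import Mathlib.Algebra.Module.FinitePresentation
import Mathlib.LinearAlgebra.Dual.Lemmas

/-!
`M^* ⊗ N → Hom(M, N)` is bijective for `M` finitely presented and `N` flat.
-/

universe u v w w'

open TensorProduct

namespace GrothLib.HopfAG

variable {k : Type u} [CommRing k]

theorem dualTensorHom_rTensor_dualMap {M : Type w} [AddCommGroup M] [Module k M]
    {P : Type w'} [AddCommGroup P] [Module k P] {N : Type v} [AddCommGroup N] [Module k N]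
    (q : P →ₗ[k] M) (z : Module.Dual k M ⊗[k] N) :
    dualTensorHom k P N (q.dualMap.rTensor N z) = dualTensorHom k M N z ∘ₗ q := by
  induction z using TensorProduct.induction_on with
  | zero => simp
  | tmul φ a => ext m; simp [LinearMap.dualMap_apply]
  | add a b ha hb => simp only [map_add, ha, hb, LinearMap.add_comp]

theorem bijective_dualTensorHom_of_finitePresentation (M : Type w) [AddCommGroup M] [Module k M]
    [Module.FinitePresentation k M] (N : Type v) [AddCommGroup N] [Module k N] [Module.Flat k N] :
    Function.Bijective (dualTensorHom k M N) := by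
  obtain ⟨n, K, e, hK⟩ := Module.FinitePresentation.exists_fin k M
  obtain ⟨m, s, hs⟩ := Submodule.fg_iff_exists_fin_generating_family.1 hK
  let q : (Fin n → k) →ₗ[k] M := e.symm.toLinearMap ∘ₗ K.mkQ
  let p : (Fin m → k) →ₗ[k] (Fin n → k) := Fintype.linearCombination k s
  have hq : Function.Surjective q := e.symm.surjective.comp K.mkQ_surjective
  have hp : LinearMap.range p = LinearMap.ker q := by
    rw [Fintype.range_linearCombination, hs, LinearEquiv.ker_comp, Submodule.ker_mkQ]
  have hqi : Function.Injective q.dualMap := LinearMap.dualMap_injective_of_surjective hq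
  have hex : Function.Exact q.dualMap p.dualMap := by
    intro φ
    constructor
    · intro hφ
      have hle : LinearMap.ker q ≤ LinearMap.ker φ := by
        rw [← hp]
        rintro _ ⟨x, rfl⟩
        exact LinearMap.congr_fun hφ x
      obtain ⟨ψ, hψ⟩ : ∃ ψ : Module.Dual k M, ψ ∘ₗ q = φ := by
        refine ⟨(LinearMap.ker q).liftQ φ hle ∘ₗ (q.quotKerEquivOfSurjective hq).symm.toLinearMap, ?_⟩
        ext x
        have : (q.quotKerEquivOfSurjective hq).symm (q (Pi.single x 1)) =
            Submodule.Quotient.mk (Pi.single x 1) := by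
          rw [LinearEquiv.symm_apply_eq]; rfl
        simp [this]
      exact ⟨ψ, hψ⟩
    · rintro ⟨ψ, rfl⟩
      refine LinearMap.ext fun x => ?_
      have h : p x ∈ LinearMap.ker q := hp ▸ LinearMap.mem_range_self p x
      simp only [LinearMap.dualMap_apply, LinearMap.mem_ker.1 h, map_zero, LinearMap.zero_apply]
  have hF := dualTensorHom_bijective (R := k) (M := Fin n → k) (N := N)
  have hG := dualTensorHom_bijective (R := k) (M := Fin m → k) (N := N)
  constructor
  · rw [injective_iff_map_eq_zero]
    intro z hz
    have h1 : q.dualMap.rTensor N z = 0 :=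
      hF.1 (by rw [dualTensorHom_rTensor_dualMap, hz, LinearMap.zero_comp, map_zero])
    exact Module.Flat.rTensor_preserves_injective_linearMap _ hqi (h1.trans (map_zero _).symm)
  · intro h
    obtain ⟨w, hw⟩ := hF.2 (h ∘ₗ q)
    have h1 : p.dualMap.rTensor N w = 0 := by
      apply hG.1
      rw [dualTensorHom_rTensor_dualMap, hw, map_zero, LinearMap.comp_assoc,
        show q ∘ₗ p = 0 from LinearMap.range_le_ker_iff.1 hp.le, LinearMap.comp_zero]
    obtain ⟨z, rfl⟩ := (Module.Flat.rTensor_exact N hex w).1 h1
    refine ⟨z, LinearMap.ext fun m => ?_⟩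
    obtain ⟨x, rfl⟩ := hq m
    rw [dualTensorHom_rTensor_dualMap] at hw
    exact LinearMap.congr_fun hw x

end GrothLib.HopfAG
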