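import Groth.Agent.Lib.HopfAG.Model
import Groth.Agent.Lib.Hopf.HeightOneStruct
import Groth.Agent.Lib.Hopf.FiniteRank
import Groth.Agent.Lib.Hopf.Translate
import Mathlib.RingTheory.Bialgebra.Quotient
import Mathlib.RingTheory.MvPolynomial.Ideal
import Mathlib.RingTheory.Ideal.Cotangent
import Mathlib.RingTheory.Ideal.IdempotentFG
import Mathlib.FieldTheory.IsAlgClosed.AlgebraicClosure
import Mathlib.RingTheory.Artinian.Module

/-!
# Finite infinitesimal groups: tangent space and order
-/

universe u v w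

set_option linter.style.haveILetI false

open TensorProduct MvPolynomial

namespace GrothLib.HopfAG

/-- The truncated polynomial ring `k[X₁, …, Xₙ]/(X₁ᵖ, …, Xₙᵖ)`. -/
abbrev Trunc (k : Type u) [CommRing k] (n p : ℕ) : Type u :=
  MvPolynomial (Fin n) k ⧸
    Ideal.span (Set.range fun i : Fin n => (MvPolynomial.X i : MvPolynomial (Fin n) k) ^ p)

/-- The cotangent space at the only rational point of a truncated polynomial ring. -/
theorem finrank_cotangent_of_algEquiv {k : Type u} [Field k] {A : Type v} [CommRing A] [Algebra k A]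
    (ε : A →ₐ[k] k) {n p : ℕ} (hp : 2 ≤ p) (E : A ≃ₐ[k] Trunc k n p) :
    Module.finrank k (RingHom.ker ε).Cotangent = n := by
  classical
  set J : Ideal (MvPolynomial (Fin n) k) := Ideal.span (Set.range fun i : Fin n => (X i) ^ p)
  let π : MvPolynomial (Fin n) k →ₐ[k] A := E.symm.toAlgHom.comp (Ideal.Quotient.mkₐ k J)
  have hπ : Function.Surjective π := E.symm.surjective.comp (Ideal.Quotient.mkₐ_surjective k J)
  have hπker : ∀ q, π q = 0 → q ∈ J := fun q hq => by
    have h : E.symm (Ideal.Quotient.mk J q) = 0 := hq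
    rwa [EmbeddingLike.map_eq_zero_iff, Ideal.Quotient.eq_zero_iff_mem] at h
  set m := idealOfVars (Fin n) k
  have hJ : J ≤ m ^ 2 := by
    rw [Ideal.span_le]
    rintro _ ⟨i, rfl⟩
    exact Ideal.pow_le_pow_right hp (Ideal.pow_mem_pow (Ideal.subset_span ⟨i, rfl⟩ : (X i : MvPolynomial (Fin n) k) ∈ m) p)
  have hX : ∀ i, ε (π (X i)) = 0 := fun i => by
    have h0 : π (X i) ^ p = 0 := by
      rw [← map_pow]
      change E.symm (Ideal.Quotient.mk J _) = 0
      rw [EmbeddingLike.map_eq_zero_iff, Ideal.Quotient.eq_zero_iff_mem]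
      exact Ideal.subset_span ⟨i, rfl⟩
    exact pow_eq_zero_iff (by omega : p ≠ 0) |>.mp (by rw [← map_pow, h0, map_zero])
  have hε : ∀ q, ε (π q) = constantCoeff q := fun q => by
    induction q using MvPolynomial.induction_on with
    | C a =>
      rw [show π (C a) = algebraMap k A a from π.commutes a, ε.commutes, constantCoeff_C]
      rfl
    | add a b ha hb => simp only [map_add, ha, hb]
    | mul_X a i _ => simp [hX i]
  have hker : RingHom.ker ε = m.map π := by
    refine le_antisymm (fun a ha => ?_) (Ideal.map_le_iff_le_comap.mpr (Ideal.span_le.mpr ?_))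
    · obtain ⟨q, rfl⟩ := hπ a
      refine Ideal.mem_map_of_mem _ ?_
      rw [← pow_one m, mem_pow_idealOfVars_iff']
      intro x hx
      rw [Nat.lt_one_iff, Finsupp.degree_eq_zero_iff] at hx
      subst hx
      exact (hε q).symm.trans ha
    · rintro _ ⟨i, rfl⟩
      exact hX i
  have hxI : ∀ i, π (X i) ∈ RingHom.ker ε := hX
  have hsq : RingHom.ker ε ^ 2 = (m ^ 2).map π := by rw [Ideal.map_pow, hker]
  have hmem : ∀ g : Fin n → k, π (∑ i, C (g i) * X i) ∈ RingHom.ker ε := fun g => by
    simp [RingHom.mem_ker, hX]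
  let c : Fin n → (RingHom.ker ε).Cotangent := fun i => (RingHom.ker ε).toCotangent ⟨π (X i), hxI i⟩
  have hq : ∀ g : Fin n → k, ∑ i, g i • c i =
      (RingHom.ker ε).toCotangent ⟨π (∑ i, C (g i) * X i), hmem g⟩ := fun g => by
    simp only [c, ← LinearMap.map_smul_of_tower, ← map_sum]
    refine congrArg _ (Subtype.ext ?_)
    change _ = π (∑ i, C (g i) * X i)
    rw [map_sum, AddSubmonoidClass.coe_finsetSum]
    refine Finset.sum_congr rfl fun i _ => ?_
    rw [map_mul, Submodule.coe_smul_of_tower, Algebra.smul_def]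
    exact congrArg (· * _) (π.commutes (g i)).symm
  have hli : LinearIndependent k c := by
    rw [Fintype.linearIndependent_iff]
    intro g hg i
    rw [hq, Ideal.toCotangent_eq_zero, hsq,
      Ideal.mem_map_iff_of_surjective π hπ] at hg
    obtain ⟨q, hq2, hqe⟩ := hg
    have h2 : (∑ j, C (g j) * X j) ∈ m ^ 2 := by
      have h3 := hJ (hπker (q - ∑ j, C (g j) * X j) (by rw [map_sub, hqe, sub_self]))
      simpa using sub_mem hq2 h3
    have h4 := (mem_pow_idealOfVars_iff' 2 _).mp h2 (Finsupp.single i 1) (by simp)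
    simpa [coeff_sum, coeff_X', Finsupp.single_eq_single_iff] using h4
  have hsp : ⊤ ≤ Submodule.span k (Set.range c) := by
    rintro z -
    obtain ⟨⟨a, ha⟩, rfl⟩ := Ideal.toCotangent_surjective _ z
    obtain ⟨q, rfl⟩ := hπ a
    rw [Submodule.mem_span_range_iff_exists_fun]
    refine ⟨fun i => coeff (Finsupp.single i 1) q, ?_⟩
    rw [hq, ← sub_eq_zero, ← map_sub, Ideal.toCotangent_eq_zero, hsq]
    change π _ - π q ∈ _
    rw [← map_sub]
    refine Ideal.mem_map_of_mem _ ((mem_pow_idealOfVars_iff' 2 _).mpr fun x hx => ?_)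
    rcases Nat.lt_succ_iff.mp hx |>.eq_or_lt with h1 | h0
    · obtain ⟨j, rfl⟩ := (Finsupp.sum_eq_one_iff x).mp h1
      simp [coeff_sum, coeff_X', Finsupp.single_eq_single_iff]
    · rw [Nat.lt_one_iff, Finsupp.degree_eq_zero_iff] at h0
      subst h0
      rw [coeff_sub, show coeff 0 q = 0 from (hε q).symm.trans ha]
      simp [coeff_sum]
  rw [Module.finrank_eq_card_basis (Module.Basis.mk hli hsp), Fintype.card_fin]

/-- The structure of a finite group of height at most one. -/
theorem nonempty_algEquiv_trunc (k : Type u) [Field k] (p : ℕ) [Fact p.Prime] [CharP k p]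
    {A : Type u} [CommRing A] [Bialgebra k A] [Module.Finite k A]
    (h1 : ∀ a : A, Bialgebra.counitAlgHom k A a = 0 → a ^ p = 0) :
    Nonempty (A ≃ₐ[k] Trunc k (Module.finrank k (RingHom.ker (Bialgebra.counitAlgHom k A)).Cotangent) p) ∧
      Module.finrank k A =
        p ^ Module.finrank k (RingHom.ker (Bialgebra.counitAlgHom k A)).Cotangent := by
  have hp := (Fact.out : p.Prime)
  obtain ⟨n, x, hx, hli, hsp⟩ := GrothLib.Hopf.HeightOne.exists_monomial_basis (k := k) (A := A) hp.pos
    (fun j hj hjp h => by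
      rw [CharP.cast_eq_zero_iff k p] at h
      exact absurd (Nat.le_of_dvd hj h) hjp.not_ge) h1
  have hcard : Module.finrank k A = p ^ n := by
    rw [Module.finrank_eq_card_basis (Module.Basis.mk hli hsp.ge), Fintype.card_fun, Fintype.card_fin,
      Fintype.card_fin]
  let Ψ : Trunc k n p →ₐ[k] A := Ideal.Quotient.liftₐ _ (aeval x) fun q hq => by
    refine (Ideal.span_le.mpr ?_ : _ ≤ RingHom.ker (aeval x)) hq
    rintro _ ⟨i, rfl⟩
    simp [h1 (x i) (hx i)]
  set w : Fin n → Trunc k n p := fun i => Ideal.Quotient.mk _ (X i)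
  have hw : Submodule.span k (Set.range (GrothLib.Hopf.HeightOne.mon p w)) = ⊤ := by
    refine GrothLib.Hopf.HeightOne.span_mon_eq_top hp.pos (fun i => ?_) ?_
    · rw [← map_pow, Ideal.Quotient.eq_zero_iff_mem]
      exact Ideal.subset_span ⟨i, rfl⟩
    · have := congrArg (Subalgebra.map (Ideal.Quotient.mkₐ k (Ideal.span (Set.range fun i : Fin n =>
        (X i : MvPolynomial (Fin n) k) ^ p)))) (MvPolynomial.adjoin_range_X (R := k) (σ := Fin n))
      rw [AlgHom.map_adjoin, ← Set.range_comp, Algebra.map_top,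
        (AlgHom.range_eq_top _).mpr (Ideal.Quotient.mkₐ_surjective k _)] at this
      exact this
  have hΨ : ∀ e, Ψ (GrothLib.Hopf.HeightOne.mon p w e) = GrothLib.Hopf.HeightOne.mon p x e := fun e => by
    simp [GrothLib.Hopf.HeightOne.mon, Ψ, w]
  have hb : Function.Bijective Ψ := by
    refine ⟨(injective_iff_map_eq_zero Ψ).mpr fun z hz => ?_, fun z => ?_⟩
    · obtain ⟨c, rfl⟩ := (Submodule.mem_span_range_iff_exists_fun k).mp (hw ▸ Submodule.mem_top : z ∈ _)
      simp only [map_sum, map_smul, hΨ] at hz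
      simp [Fintype.linearIndependent_iff.mp hli c hz]
    · obtain ⟨c, rfl⟩ := (Submodule.mem_span_range_iff_exists_fun k).mp (hsp ▸ Submodule.mem_top : z ∈ _)
      exact ⟨∑ e, c e • GrothLib.Hopf.HeightOne.mon p w e, by simp only [map_sum, map_smul, hΨ]⟩
  have E := (AlgEquiv.ofBijective Ψ hb).symm
  rw [finrank_cotangent_of_algEquiv _ hp.two_le E]
  exact ⟨⟨E⟩, hcard⟩

section frobIdeal

variable {k : Type u} [Field k] (p : ℕ) [Fact p.Prime] [CharP k p] (A : Type v) [CommRing A]
  [HopfAlgebra k A]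

/-- The ideal of the Frobenius kernel. -/
def frobIdeal : Ideal A :=
  Ideal.span ((fun a : A => a ^ p) '' (RingHom.ker (Bialgebra.counitAlgHom k A) : Set A))

theorem frobIdeal_le : frobIdeal (k := k) p A ≤ RingHom.ker (Bialgebra.counitAlgHom k A) := by
  rw [frobIdeal, Ideal.span_le]
  rintro _ ⟨a, ha, rfl⟩
  exact Ideal.pow_mem_of_mem _ ha p (Fact.out : p.Prime).pos

theorem isHopfIdeal_frobIdeal : (frobIdeal (k := k) p A).IsHopfIdeal k := by
  have hp := (Fact.out : p.Prime)
  set J := frobIdeal (k := k) p A with hJdef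
  set ε := Bialgebra.counitAlgHom k A
  set Φ : A →ₐ[k] (A ⧸ J) ⊗[k] (A ⧸ J) :=
    (Algebra.TensorProduct.map (Ideal.Quotient.mkₐ k J) (Ideal.Quotient.mkₐ k J)).comp (Bialgebra.comulAlgHom k A)
  haveI : Nontrivial A := ε.toRingHom.domain_nontrivial
  have hcase : ∀ a ∈ RingHom.ker ε, Φ (a ^ p) = 0 := fun a ha => by
    rw [map_pow]
    change (Algebra.TensorProduct.map (Ideal.Quotient.mkₐ k J) (Ideal.Quotient.mkₐ k J)
      (Coalgebra.comul (R := k) a)) ^ p = 0
    by_cases h : Nontrivial ((A ⧸ J) ⊗[k] (A ⧸ J))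
    · haveI : CharP ((A ⧸ J) ⊗[k] (A ⧸ J)) p :=
        charP_of_injective_algebraMap (algebraMap k _).injective p
      haveI : ExpChar ((A ⧸ J) ⊗[k] (A ⧸ J)) p := ExpChar.prime hp
      have hq : ∀ b : A, Ideal.Quotient.mkₐ k J b ^ p = algebraMap k (A ⧸ J) (ε b ^ p) := fun b => by
        have h1 : Ideal.Quotient.mkₐ k J ((b - algebraMap k A (ε b)) ^ p) = 0 :=
          Ideal.Quotient.eq_zero_iff_mem.mpr (Ideal.subset_span ⟨_, by simp [ε], rfl⟩)
        haveI : Nontrivial (A ⧸ J) :=
          Ideal.Quotient.nontrivial_iff.mpr fun hJ => RingHom.ker_ne_top ε.toRingHom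
            (top_le_iff.mp (hJ ▸ frobIdeal_le p A))
        haveI : CharP (A ⧸ J) p := charP_of_injective_algebraMap (algebraMap k _).injective p
        haveI : ExpChar (A ⧸ J) p := ExpChar.prime hp
        rw [map_pow, map_sub, sub_pow_expChar, sub_eq_zero] at h1
        rw [h1, ← map_pow, ← map_pow, AlgHom.commutes]
      have key : ∀ t : A ⊗[k] A, Algebra.TensorProduct.map (Ideal.Quotient.mkₐ k J) (Ideal.Quotient.mkₐ k J) t ^ p =
          algebraMap k _ (Algebra.TensorProduct.lift ε ε (fun _ _ => Commute.all _ _) t ^ p) := fun t => by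
        induction t using TensorProduct.induction_on with
        | zero => simp [hp.ne_zero]
        | tmul b c =>
          rw [Algebra.TensorProduct.map_tmul, Algebra.TensorProduct.tmul_pow, hq, hq,
            Algebra.TensorProduct.lift_tmul, mul_pow, Algebra.TensorProduct.algebraMap_apply]
          simp only [Algebra.algebraMap_eq_smul_one, TensorProduct.smul_tmul', TensorProduct.tmul_smul,
            smul_smul, mul_comm]
        | add x y hx hy => simp only [map_add, add_pow_expChar, hx, hy]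
      rw [key]
      have h2 : Algebra.TensorProduct.lift ε ε (fun _ _ => Commute.all _ _) (Coalgebra.comul (R := k) a) = ε a := by
        have h3 : ε (TensorProduct.lid k A (Coalgebra.counit.rTensor A (Coalgebra.comul (R := k) a))) = ε a := by
          rw [Coalgebra.rTensor_counit_comul]; simp
        rw [← h3]
        induction Coalgebra.comul (R := k) a using TensorProduct.induction_on with
        | zero => simp
        | tmul b c => simp [ε]
        | add x y hx hy => simp only [map_add, hx, hy]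
      rw [h2, show ε a = 0 from ha, zero_pow hp.ne_zero, map_zero]
    · exact (not_nontrivial_iff_subsingleton.mp h).elim _ _
  suffices h : (∀ x ∈ J, Φ x = 0) ∧ ∀ x ∈ J, HopfAlgebraStruct.antipode k x ∈ J from
    { counit_eq_zero := fun x hx => frobIdeal_le p A hx
      map_mkQ_comul_eq_zero := fun x hx => h.1 x hx
      antipode_mem := fun _ hx => h.2 _ hx }
  refine ⟨fun x hx => ?_, fun x hx => ?_⟩
  · exact (Ideal.span_le.mpr (fun y => by rintro ⟨a, ha, rfl⟩; exact hcase a ha) : J ≤ RingHom.ker Φ) hx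
  · refine (Ideal.span_le.mpr (fun y => ?_) : J ≤ J.comap (HopfAlgebra.antipodeAlgHom k A)) hx
    rintro ⟨a, ha, rfl⟩
    rw [SetLike.mem_coe, Ideal.mem_comap, map_pow]
    exact Ideal.subset_span ⟨_, (HopfAlgebra.counit_antipode a).trans ha, rfl⟩

end frobIdeal

end GrothLib.HopfAG
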