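import Groth.Agent.Lib.AugId.Infinitesimal
import Groth.Agent.Lib.HopfAG.Unip
import Groth.Agent.Lib.HopfAG.Trig
import Groth.Agent.Lib.HopfAG.Dense
import Groth.Agent.Lib.Comod.Module
import Mathlib.LinearAlgebra.Trace
import Mathlib.LinearAlgebra.Eigenspace.Triangularizable
import Mathlib.LinearAlgebra.Charpoly.Basic
import Mathlib.RingTheory.SimpleModule.Basic
import Mathlib.FieldTheory.IsAlgClosed.Basic

/-!
# Kolchin's theorem: a reduced group all of whose points are unipotent is unipotent
-/

universe u v w

open TensorProduct HopfRep GrothLib.Hopf GrothLib.Comodule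

namespace GrothLib.Kolchin

variable {k : Type u} [Field k] [IsAlgClosed k] {A : Type v} [CommRing A] [HopfAlgebra k A]

/-- Burnside: on a simple finite comodule every operator comes from the coalgebra. -/
theorem op_surjective {V : Type w} [AddCommGroup V] [Module k V] [HopfRep.Comod k A V] [Module.Finite k V]
    (hV : IsSimpleComod k A V) (F : V →ₗ[k] V) : ∃ f : Module.Dual k A, Comod.op f = F := by
  classical
  haveI := isSimpleComod_iff.1 hV
  let M := AsMod k A V
  haveI : Module.Finite k M := ‹Module.Finite k V›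
  have hscalar : ∀ φ : Module.End (OpAlg k A) M, ∃ c : k, ∀ m : M, φ m = c • m := by
    intro φ
    obtain ⟨hne, -⟩ := hV
    haveI : Nontrivial M := hne
    obtain ⟨c, hc⟩ := Module.End.exists_eigenvalue (φ.restrictScalars k : Module.End k M)
    obtain ⟨v, hv⟩ := hc.exists_hasEigenvector
    let ψ : Module.End (OpAlg k A) M := φ - c • (LinearMap.id : M →ₗ[OpAlg k A] M)
    refine ⟨c, fun m => ?_⟩
    rcases LinearMap.injective_or_eq_zero ψ with h | h
    · refine absurd (h (a₁ := v) (a₂ := 0) ?_) hv.2
      rw [map_zero]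
      show φ v - c • v = 0
      rw [show φ v = c • v from hv.apply_eq_smul, sub_self]
    · exact sub_eq_zero.mp (LinearMap.congr_fun h m)
  have hend : ∀ (φ : Module.End (OpAlg k A) M) (m : M), F (φ m) = φ (F m) := fun φ m => by
    obtain ⟨c, hc⟩ := hscalar φ
    rw [hc, hc]
    exact map_smul F c m
  let F' : Module.End (Module.End (OpAlg k A) M) M :=
    { toFun := fun m => F m
      map_add' := fun a b => map_add F a b
      map_smul' := hend }
  let b := Module.finBasis k V
  obtain ⟨r, hr⟩ := jacobson_density F' (Finset.univ.image fun i => (asMod k A (b i) : M))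
  have key : ∀ r : OpAlg k A, ∃ f : Module.Dual k A, ∀ m : V, Comod.op f m = (r • asMod k A m : M) := by
    intro r
    induction r using FreeAlgebra.induction with
    | grade0 c =>
      refine ⟨c • Coalgebra.counit, fun m => ?_⟩
      rw [algebraMap_smul']
      show TensorProduct.rid k V ((c • Coalgebra.counit (R := k) (A := A)).lTensor V _) = c • m
      rw [LinearMap.lTensor_smul, LinearMap.smul_apply, map_smul]
      exact congrArg (c • ·) (Comod.op_counit m)
    | grade1 f => exact ⟨f, fun m => (ι_smul f m).symm⟩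
    | mul a b ha hb =>
      obtain ⟨fa, hfa⟩ := ha
      obtain ⟨fb, hfb⟩ := hb
      refine ⟨LinearMap.mul' k k ∘ₗ TensorProduct.map fa fb ∘ₗ Coalgebra.comul, fun m => ?_⟩
      rw [← GrothLib.Trig.op_op, hfa, mul_smul]
      exact congrArg (fun y : M => a • y) (hfb m)
    | add a b ha hb =>
      obtain ⟨fa, hfa⟩ := ha
      obtain ⟨fb, hfb⟩ := hb
      refine ⟨fa + fb, fun m => ?_⟩
      rw [add_smul, ← hfa, ← hfb]
      show TensorProduct.rid k V ((fa + fb).lTensor V _) = _
      rw [LinearMap.lTensor_add, LinearMap.add_apply, map_add]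
      rfl
  obtain ⟨f, hf⟩ := key r
  refine ⟨f, b.ext fun i => ?_⟩
  rw [hf]
  exact (hr _ (Finset.mem_image_of_mem _ (Finset.mem_univ i))).symm

/-- A simple comodule on which all points act unipotently is trivial of rank one. -/
theorem fixed_of_simple [Algebra.FiniteType k A] [IsReduced A] {V : Type w} [AddCommGroup V] [Module k V]
    [HopfRep.Comod k A V] [Module.Finite k V] (hV : IsSimpleComod k A V)
    (hu : ∀ g : A →ₐ[k] k, IsNilpotent (HopfRep.Comod.act k A V g - LinearMap.id)) (v : V) :
    HopfRep.Comod.coact (k := k) (A := A) v = v ⊗ₜ[k] (1 : A) := by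
  classical
  let b := Module.finBasis k V
  set n := Module.finrank k V
  let χ : A := ∑ i, cfMap (C := A) (b.coord i) (b i)
  have htr : ∀ f : Module.Dual k A, LinearMap.trace k V (Comod.op f) = f χ := fun f => by
    rw [LinearMap.trace_eq_matrix_trace k b, Matrix.trace, map_sum]
    refine Finset.sum_congr rfl fun i _ => ?_
    rw [Matrix.diag_apply, LinearMap.toMatrix_apply, GrothLib.AugId.apply_cfMap]
    rfl
  have hχ : χ = algebraMap k A n := by
    refine sub_eq_zero.mp (GrothLib.Dense.eq_zero_of_forall_point (k := k) _ fun g => ?_)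
    rw [map_sub, AlgHom.commutes, Algebra.algebraMap_self, RingHom.id_apply]
    rw [show g χ = g.toLinearMap χ from rfl, ← htr, sub_eq_zero]
    have h1 := LinearMap.isNilpotent_trace_of_isNilpotent (hu g)
    have h2 := h1.eq_zero
    rw [map_sub, sub_eq_zero] at h2
    exact h2.trans (LinearMap.trace_id k V)
  have htr' : ∀ f : Module.Dual k A, LinearMap.trace k V (Comod.op f) = (n : k) * f 1 := fun f => by
    rw [htr, hχ, Algebra.algebraMap_eq_smul_one, map_smul, smul_eq_mul]
  have hn : n ≤ 1 := by
    by_contra hn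
    let i : Fin n := ⟨0, by omega⟩
    let j : Fin n := ⟨1, by omega⟩
    have hij : i ≠ j := by simp [i, j, Fin.ext_iff]
    let E : Fin n → Fin n → (V →ₗ[k] V) := fun p q => (b.coord q).smulRight (b p)
    have hE : ∀ p q, LinearMap.trace k V (E p q) = if p = q then 1 else 0 := fun p q => by
      rw [LinearMap.trace_smulRight, Module.Basis.coord_apply, b.repr_self, Finsupp.single_apply]
    obtain ⟨f, hf⟩ := op_surjective hV (E i j)
    obtain ⟨g, hg⟩ := op_surjective hV (E j i)
    have h1 : (n : k) * f 1 = 0 := by rw [← htr', hf, hE, if_neg hij]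
    have hcomp : Comod.op (LinearMap.mul' k k ∘ₗ TensorProduct.map f g ∘ₗ Coalgebra.comul) = E i i := by
      refine LinearMap.ext fun w => ?_
      rw [← GrothLib.Trig.op_op, hf, hg]
      simp [E]
    have h2 := htr' (LinearMap.mul' k k ∘ₗ TensorProduct.map f g ∘ₗ Coalgebra.comul)
    rw [hcomp, hE, if_pos rfl] at h2
    simp only [LinearMap.comp_apply, Bialgebra.comul_one, Algebra.TensorProduct.one_def, TensorProduct.map_tmul,
      LinearMap.mul'_apply] at h2
    rw [← mul_assoc, h1, zero_mul] at h2
    exact one_ne_zero h2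
  refine GrothLib.Comodule.ext_dual_left fun l => ?_
  rw [← cfMap_apply]
  refine sub_eq_zero.mp (GrothLib.Dense.eq_zero_of_forall_point (k := k) _ fun g => ?_)
  have hfix : HopfRep.Comod.act k A V g v = v := by
    obtain ⟨c, hc⟩ : ∃ c : k, HopfRep.Comod.act k A V g - LinearMap.id = c • LinearMap.id := by
      obtain ⟨hne, -⟩ := hV
      have hn1 : Module.finrank k V = 1 := by
        have := Module.finrank_pos (R := k) (M := V)
        omega
      obtain ⟨u, hu0, hu1⟩ := finrank_eq_one_iff'.mp hn1
      obtain ⟨c, hc⟩ := hu1 ((HopfRep.Comod.act k A V g - LinearMap.id : V →ₗ[k] V) u)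
      refine ⟨c, LinearMap.ext fun w => ?_⟩
      obtain ⟨d, rfl⟩ := hu1 w
      rw [map_smul, ← hc]
      simp [smul_comm c d]
    have hc0 : c = 0 := by
      obtain ⟨m, hm⟩ := hu g
      rw [hc, smul_pow, ← Module.End.one_eq_id, one_pow] at hm
      haveI : Nontrivial V := hV.1
      exact eq_zero_of_pow_eq_zero ((smul_eq_zero.mp hm).resolve_right one_ne_zero)
    have := LinearMap.congr_fun hc v
    rw [hc0, zero_smul, LinearMap.zero_apply, LinearMap.sub_apply, LinearMap.id_apply, sub_eq_zero] at this
    exact this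
  rw [map_sub, GrothLib.Dense.dual_act', hfix]
  simp

/-- A reduced group all of whose points act unipotently is unipotent. -/
theorem isUnipotent_of_forall_point [Algebra.FiniteType k A] [IsReduced A]
    (h : ∀ (g : A →ₐ[k] k) (V : Type v) [AddCommGroup V] [Module k V] [HopfRep.Comod k A V],
      Module.Finite k V → IsNilpotent (HopfRep.Comod.act k A V g - LinearMap.id)) :
    HopfRep.IsUnipotent k A := by
  intro V _ _ c hfin hnt
  obtain ⟨S, -, hS⟩ := exists_simpleSub_le (C := A) (V := V) (isSubcomod_top (k := k) (C := A) (V := V)) top_ne_bot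
  obtain ⟨w, hwS, hw⟩ := (Submodule.ne_bot_iff S).1 hS.2.1
  have hsimple := (isSimpleSub_iff_restr c S hS.1).1 hS
  letI := ComodSub.Comod.restr c S hS.1
  have h1 := fixed_of_simple hsimple (fun g => h g S inferInstance) (⟨w, hwS⟩ : S)
  refine (Submodule.ne_bot_iff _).2 ⟨w, ?_, hw⟩
  have h2 := IsComodHom.apply (ComodSub.isComodHom_subtype c S hS.1) (⟨w, hwS⟩ : S)
  rw [h1, LinearMap.rTensor_tmul] at h2
  exact h2

end GrothLib.Kolchin
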