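import Mathlib.LinearAlgebra.Eigenspace.Basic
import Mathlib.LinearAlgebra.Eigenspace.Minpoly
import Mathlib.RingTheory.Noetherian.Basic
import Mathlib.RingTheory.Finiteness.Basic

/-!
Simultaneous diagonalisation of a commuting family of diagonalisable module endomorphisms.
-/

universe u v w x

namespace GrothLib.SimDiag

variable {k : Type u} [Field k] {R : Type v} [CommRing R] [Algebra k R]
  {V : Type w} [AddCommGroup V] [Module R V] [Module k V] [IsScalarTower k R V]

/-- The eigenspace as a module over `R`. -/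
noncomputable def eig (f : Module.End R V) (μ : k) : Submodule R V :=
  LinearMap.ker (f - algebraMap k R μ • LinearMap.id)

theorem mem_eig {f : Module.End R V} {μ : k} {v : V} : v ∈ eig f μ ↔ f v = μ • v := by
  simp [eig, sub_eq_zero]

theorem eig_eq (f : Module.End R V) (μ : k) :
    (eig f μ).restrictScalars k = Module.End.eigenspace (f.restrictScalars k) μ := by
  ext v
  rw [Submodule.restrictScalars_mem, mem_eig, Module.End.mem_eigenspace_iff]
  rfl

/-- Components of a vector in a stable submodule lie in it. -/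
theorem component_mem (f : Module.End k V) (s : Finset k) (m : k → V)
    (hm : ∀ μ ∈ s, f (m μ) = μ • m μ) (p : Submodule k V) (hp : ∀ x ∈ p, f x ∈ p)
    (hsum : ∑ μ ∈ s, m μ ∈ p) : ∀ μ ∈ s, m μ ∈ p := by
  classical
  induction s using Finset.induction generalizing m with
  | empty => simp
  | insert ν t hν ih =>
    rw [Finset.sum_insert hν] at hsum
    have h2 : ∑ μ ∈ t, (μ - ν) • m μ ∈ p := by
      have e : ∑ μ ∈ t, (μ - ν) • m μ =
          f (m ν + ∑ μ ∈ t, m μ) - ν • (m ν + ∑ μ ∈ t, m μ) := by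
        rw [map_add, map_sum, hm ν (Finset.mem_insert_self _ _), smul_add, Finset.smul_sum,
          add_sub_add_left_eq_sub, ← Finset.sum_sub_distrib]
        exact Finset.sum_congr rfl fun μ hμ => by rw [hm μ (Finset.mem_insert_of_mem hμ), sub_smul]
      rw [e]
      exact p.sub_mem (hp _ hsum) (p.smul_mem ν hsum)
    have h3 := ih (fun μ => (μ - ν) • m μ) (fun μ hμ => by
      rw [map_smul, hm μ (Finset.mem_insert_of_mem hμ), smul_comm]) h2
    have h4 : ∀ μ ∈ t, m μ ∈ p := fun μ hμ => by
      have hne : μ - ν ≠ 0 := sub_ne_zero.2 fun h => hν (h ▸ hμ)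
      have := p.smul_mem (μ - ν)⁻¹ (h3 μ hμ)
      rwa [smul_smul, inv_mul_cancel₀ hne, one_smul] at this
    intro μ hμ
    rcases Finset.mem_insert.1 hμ with rfl | hμ
    · exact (p.add_mem_iff_left (Submodule.sum_mem p h4)).1 hsum
    · exact h4 μ hμ

theorem le_iSup_inf (f : Module.End R V) (hf : ⨆ μ : k, Module.End.eigenspace (f.restrictScalars k) μ = ⊤)
    (U : Submodule R V) (hU : ∀ x ∈ U, f x ∈ U) : U ≤ ⨆ μ : k, eig f μ ⊓ U := by
  classical
  intro x hx
  have hx' : x ∈ ⨆ μ : k, Module.End.eigenspace (f.restrictScalars k) μ := hf ▸ Submodule.mem_top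
  obtain ⟨m, hm, rfl⟩ := (Submodule.mem_iSup_iff_exists_finsupp _ _).1 hx'
  have h := component_mem (f.restrictScalars k) m.support m
    (fun μ _ => Module.End.mem_eigenspace_iff.1 (hm μ)) (U.restrictScalars k) hU hx
  refine Submodule.sum_mem _ fun μ hμ => Submodule.mem_iSup_of_mem μ ⟨?_, h μ hμ⟩
  exact mem_eig.2 (Module.End.mem_eigenspace_iff.1 (hm μ))

variable {ι : Type x} (f : ι → Module.End R V)

theorem le_common (hcomm : ∀ i j, Commute (f i) (f j))
    (hdiag : ∀ i, ⨆ μ : k, Module.End.eigenspace ((f i).restrictScalars k) μ = ⊤)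
    (W : Submodule R V) [IsNoetherian R W] (hW : ∀ i, ∀ w ∈ W, f i w ∈ W) :
    W.restrictScalars k ≤ ⨆ χ : ι → k, ⨅ i, Module.End.eigenspace ((f i).restrictScalars k) (χ i) := by
  classical
  suffices h : ∀ C : Submodule R W, ∀ U : Submodule R V, (∀ i, ∀ u ∈ U, f i u ∈ U) →
      (∀ i, ∀ c ∈ C.map W.subtype, f i c ∈ C.map W.subtype) → U ⊔ C.map W.subtype = W →
      Disjoint U (C.map W.subtype) →
      U.restrictScalars k ≤ ⨆ χ : ι → k, ⨅ i, Module.End.eigenspace ((f i).restrictScalars k) (χ i) by
    refine h ⊥ W hW ?_ (by simp) (by simp)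
    intro i c hc
    simp only [Submodule.map_bot, Submodule.mem_bot] at hc ⊢
    rw [hc, map_zero]
  intro C
  induction C using WellFoundedGT.induction with
  | _ C ih =>
  intro U hU hC hsup hdisj
  by_cases hall : ∀ i, ∃ μ : k, U ≤ eig (f i) μ
  · choose χ hχ using hall
    refine le_iSup_of_le χ (le_iInf fun i => ?_)
    rw [← eig_eq]
    exact fun x hx => hχ i hx
  push Not at hall
  obtain ⟨i, hi⟩ := hall
  have hdec : U = ⨆ μ : k, eig (f i) μ ⊓ U :=
    le_antisymm (le_iSup_inf (f i) (hdiag i) U (hU i)) (iSup_le fun μ => inf_le_right)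
  have hUW : U ≤ W := le_sup_left.trans hsup.le
  have hstabE : ∀ (μ : k) (j : ι), ∀ u ∈ eig (f i) μ ⊓ U, f j u ∈ eig (f i) μ ⊓ U := by
    intro μ j u hu
    refine ⟨mem_eig.2 ?_, hU j u hu.2⟩
    calc f i (f j u) = (f i * f j) u := rfl
      _ = (f j * f i) u := by rw [(hcomm i j).eq]
      _ = f j (μ • u) := by rw [Module.End.mul_apply, mem_eig.1 hu.1]
      _ = μ • f j u := LinearMap.map_smul_of_tower _ _ _
  -- each piece is covered
  have main : ∀ μ : k, (eig (f i) μ ⊓ U).restrictScalars k ≤
      ⨆ χ : ι → k, ⨅ i, Module.End.eigenspace ((f i).restrictScalars k) (χ i) := by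
    intro μ
    set E := eig (f i) μ ⊓ U
    set E' := ⨆ ν : {ν : k // ν ≠ μ}, eig (f i) (ν : k) ⊓ U
    have hE'U : E' ≤ U := iSup_le fun ν => inf_le_right
    have hEU : E ⊔ E' = U := by
      refine le_antisymm (sup_le inf_le_right hE'U) ?_
      rw [hdec]
      refine iSup_le fun ν => ?_
      by_cases hν : ν = μ
      · subst hν; exact le_sup_left
      · exact le_sup_of_le_right (le_iSup_of_le ⟨ν, hν⟩ le_rfl)
    have hEdisj : Disjoint E E' := by
      have hind := Module.End.eigenspaces_iSupIndep ((f i).restrictScalars k) μ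
      rw [Submodule.disjoint_def] at hind ⊢
      intro x hxE hxE'
      refine hind x (by rw [← eig_eq]; exact hxE.1) ?_
      have hle : E'.restrictScalars k ≤ ⨆ ν ≠ μ, Module.End.eigenspace ((f i).restrictScalars k) ν := by
        rw [show E'.restrictScalars k = ⨆ ν : {ν : k // ν ≠ μ}, (eig (f i) (ν : k) ⊓ U).restrictScalars k from
          Submodule.restrictScalars_iSup ..]
        refine iSup_le fun ν => le_iSup₂_of_le (ν : k) ν.2 ?_
        rw [← eig_eq]
        exact fun y hy => hy.1
      exact hle hxE'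
    have hE'ne : E' ≠ ⊥ := by
      intro e
      refine hi μ ?_
      rw [← hEU, e, sup_bot_eq]
      exact inf_le_left
    let C' : Submodule R W := C ⊔ E'.comap W.subtype
    have hC'map : C'.map W.subtype = C.map W.subtype ⊔ E' := by
      rw [Submodule.map_sup, Submodule.map_comap_subtype, inf_eq_right.2 (hE'U.trans hUW)]
    have hlt : C < C' := by
      refine lt_of_le_of_ne le_sup_left fun e => hE'ne ?_
      have h1 : E' ≤ C.map W.subtype := by
        conv_rhs => rw [e, hC'map]
        exact le_sup_right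
      exact (Submodule.eq_bot_iff _).2 fun x hx =>
        (Submodule.disjoint_def.1 hdisj) x (hE'U hx) (h1 hx)
    refine ih C' hlt E (hstabE μ) ?_ ?_ ?_
    · intro j c hc
      rw [hC'map] at hc ⊢
      obtain ⟨a, ha, b, hb, rfl⟩ := Submodule.mem_sup.1 hc
      rw [map_add]
      refine Submodule.add_mem_sup (hC j a ha) ?_
      have hle : E' ≤ E'.comap (f j) := iSup_le fun ν x hx =>
        (le_iSup (fun ν : {ν : k // ν ≠ μ} => eig (f i) (ν : k) ⊓ U) ν) (hstabE ν j x hx)
      exact hle hb
    · rw [hC'map, sup_comm (C.map W.subtype), ← sup_assoc, hEU, hsup]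
    · rw [hC'map, sup_comm (C.map W.subtype)]
      exact Disjoint.disjoint_sup_right_of_disjoint_sup_left hEdisj (hEU.symm ▸ hdisj)
  rw [hdec, Submodule.restrictScalars_iSup]
  exact iSup_le main

end GrothLib.SimDiag
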