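import Groth.Prelude.Def_AlphaP
import Groth.Prelude.Def_ConstGrp
import Groth.Agent.Lib.Dual.AlphaP
import Mathlib.RingTheory.Bialgebra.MonoidAlgebra
import Mathlib.RingTheory.RootsOfUnity.Basic
import Mathlib.RingTheory.RootsOfUnity.PrimitiveRoots
import Mathlib.RingTheory.Bialgebra.Equiv
import Mathlib.LinearAlgebra.LinearIndependent.Basic
import Mathlib.NumberTheory.LegendreSymbol.AddCharacter

/-!
# The small group schemes `ℤ/p`, `μ_p`, `α_p`
-/

universe u

set_option linter.style.haveILetI false

open TensorProduct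

namespace GrothLib.HopfAG

variable (p : ℕ) [hp : Fact p.Prime] (R : Type u) [CommRing R] [CharP R p]

theorem exists_residueField : ∃ (K : Type u) (_ : Field K) (_ : Algebra R K), CharP K p := by
  haveI : Nontrivial R := CharP.nontrivial_of_char_ne_one hp.out.ne_one
  obtain ⟨m, hm⟩ := Ideal.exists_maximal R
  refine ⟨R ⧸ m, Ideal.Quotient.field m, inferInstance, ?_⟩
  letI := Ideal.Quotient.field m
  exact (CharP.charP_iff_prime_eq_zero hp.out).mpr (by
    rw [← map_natCast (Ideal.Quotient.mk m), CharP.cast_eq_zero, map_zero])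

theorem alphaP_point_unique {K : Type*} [Field K] [Algebra R K] (f g : AlphaP.A p R →ₐ[R] K) : f = g := by
  have h : ∀ f : AlphaP.A p R →ₐ[R] K, f (AlphaP.x p R) = 0 := fun f =>
    pow_eq_zero_iff hp.out.ne_zero |>.mp (by rw [← map_pow, AlphaP.x_pow, map_zero])
  exact AlphaP.algHom_ext ((h f).trans (h g).symm)

theorem mu_point_unique {K : Type*} [Field K] [Algebra R K] [CharP K p]
    (f g : MonoidAlgebra R (Multiplicative (ZMod p)) →ₐ[R] K) : f = g := by
  haveI : ExpChar K p := ExpChar.prime hp.out
  have h : ∀ (f : MonoidAlgebra R (Multiplicative (ZMod p)) →ₐ[R] K) (z : Multiplicative (ZMod p)),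
      f (MonoidAlgebra.single z 1) = 1 := fun f z => by
    refine frobenius_inj K p ?_
    rw [frobenius_def, frobenius_def, one_pow, ← map_pow, MonoidAlgebra.single_pow, one_pow]
    have hz : z ^ p = 1 := Multiplicative.toAdd.injective (by simp)
    rw [hz, ← MonoidAlgebra.one_def, map_one]
  exact MonoidAlgebra.algHom_ext (fun z => (h f z).trans (h g z).symm) (Subsingleton.elim _ _)

theorem constGrp_points_ne {K : Type*} [Field K] [Algebra R K] {G : Type} [DecidableEq G] {a b : G}
    (h : a ≠ b) : (Algebra.ofId R K).comp (ConstGrp.ev R a) ≠ (Algebra.ofId R K).comp (ConstGrp.ev R b) := by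
  intro he
  have h1 := DFunLike.congr_fun he (ConstGrp.e R a)
  simp [ConstGrp.e_apply_of_ne h.symm] at h1

theorem alphaP_primitive (a : AlphaP.A p R)
    (ha : Coalgebra.comul (R := R) a = a ⊗ₜ[R] 1 + 1 ⊗ₜ[R] a) : ∃ c : R, a = c • AlphaP.x p R := by
  classical
  haveI : Nontrivial R := CharP.nontrivial_of_char_ne_one hp.out.ne_one
  have h2p := hp.out.two_le
  set b := AlphaP.basis p R
  let i1 : Fin p := ⟨1, by omega⟩
  let i0 : Fin p := ⟨0, by omega⟩
  set φ := b.coord i1
  have hφ : ∀ j : ℕ, φ (AlphaP.x p R ^ j) = if j = 1 then 1 else 0 := fun j => by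
    by_cases hj : j < p
    · rw [← AlphaP.basis_apply p R ⟨j, hj⟩, Module.Basis.coord_apply, Module.Basis.repr_self,
        Finsupp.single_apply]
      exact if_congr (by simp [i1, Fin.ext_iff]) rfl rfl
    · rw [AlphaP.x_pow_of_le p R (not_lt.mp hj), map_zero, if_neg (by omega)]
  let D : AlphaP.A p R →ₗ[R] AlphaP.A p R :=
    (TensorProduct.rid R _).toLinearMap ∘ₗ φ.lTensor _ ∘ₗ Coalgebra.comul
  have hD : ∀ i : ℕ, D (AlphaP.x p R ^ i) = (i : R) • AlphaP.x p R ^ (i - 1) := fun i => by
    simp only [D, LinearMap.comp_apply, GrothLib.Dual.alphaP_comul_pow p R i, map_sum, map_smul,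
      LinearMap.lTensor_tmul, LinearEquiv.coe_coe, TensorProduct.rid_tmul, hφ]
    rcases i with _ | i
    · simp
    · rw [Finset.sum_eq_single i (fun j hj hne => by
        rw [if_neg (by have := Finset.mem_range.mp hj; omega), zero_smul, smul_zero]) (fun h => by simp at h)]
      simp [Nat.choose_succ_self_right]
  have hconst : D a = φ a • (1 : AlphaP.A p R) := by
    have h1 : φ (1 : AlphaP.A p R) = 0 := by simpa using hφ 0
    simp [D, ha, h1]
  have hcoef : ∀ i : Fin p, (i : ℕ) ≠ 1 → (b.repr a i) * (i : R) = 0 := by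
    intro i hi
    rcases Nat.eq_zero_or_pos (i : ℕ) with h0 | h0
    · simp [h0]
    have hDa : D a = ∑ j, b.repr a j • ((j : ℕ) : R) • AlphaP.x p R ^ ((j : ℕ) - 1) := by
      conv_lhs => rw [← b.sum_repr a]
      simp only [map_sum, map_smul, b, AlphaP.basis_apply, hD]
    have h := congrArg (b.coord ⟨(i : ℕ) - 1, by omega⟩) (hDa.symm.trans hconst)
    simp only [map_sum, map_smul] at h
    rw [show (1 : AlphaP.A p R) = b i0 by simp [b, i0],
      Finset.sum_eq_single i (fun j _ hji => by
        rcases Nat.eq_zero_or_pos (j : ℕ) with hj0 | hj0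
        · simp [hj0]
        · rw [← AlphaP.basis_apply p R ⟨(j : ℕ) - 1, by omega⟩, Module.Basis.coord_apply, Module.Basis.repr_self,
            Finsupp.single_apply, if_neg (by simp [Fin.ext_iff]; omega)]
          simp) (by simp)] at h
    have hne : (⟨(i : ℕ) - 1, by omega⟩ : Fin p) ≠ i0 := by simp [i0, Fin.ext_iff]; omega
    have r1 : b.coord ⟨(i : ℕ) - 1, by omega⟩ (AlphaP.x p R ^ ((i : ℕ) - 1)) = 1 := by
      rw [← AlphaP.basis_apply p R ⟨(i : ℕ) - 1, by omega⟩, Module.Basis.coord_apply, Module.Basis.repr_self,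
        Finsupp.single_eq_same]
    have r2 : b.coord ⟨(i : ℕ) - 1, by omega⟩ (b i0) = 0 := by
      rw [Module.Basis.coord_apply, Module.Basis.repr_self, Finsupp.single_eq_of_ne hne]
    rw [r1, r2, smul_zero, smul_eq_mul, smul_eq_mul, mul_one] at h
    exact h
  have hzero : ∀ i : Fin p, i ≠ i1 → b.repr a i = 0 := by
    intro i hi
    rcases Nat.eq_zero_or_pos (i : ℕ) with h0 | h0
    · have hε : Coalgebra.counit (R := R) a = 0 := by
        have h := congrArg (TensorProduct.lid R (AlphaP.A p R)) (congrArg (Coalgebra.counit.rTensor _) ha)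
        rw [Coalgebra.rTensor_counit_comul] at h
        simp only [TensorProduct.lid_tmul, one_smul, map_add, LinearMap.rTensor_tmul, Bialgebra.counit_one] at h
        have h' := congrArg (Coalgebra.counit (R := R)) h
        simpa using h'
      rw [← b.sum_repr a, map_sum, Finset.sum_eq_single i (fun j _ hji => by
        rw [map_smul, AlphaP.basis_apply, Bialgebra.counit_pow, AlphaP.counit_x,
          zero_pow (by intro hj; exact hji (Fin.ext (hj.trans h0.symm))), smul_zero]) (by simp)] at hε
      simpa [b, h0] using hε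
    · have hne : (i : ℕ) ≠ 1 := fun h => hi (Fin.ext h)
      have hu : IsUnit ((i : ℕ) : R) := by
        have h := GrothLib.Dual.isUnit_factorial p R i.2
        rw [← Nat.sub_add_cancel h0, Nat.factorial_succ, Nat.cast_mul] at h
        rw [← Nat.sub_add_cancel h0]
        exact (IsUnit.mul_iff.mp h).1
      exact hu.mul_left_eq_zero.mp (hcoef i hne)
  refine ⟨b.repr a i1, ?_⟩
  conv_lhs => rw [← b.sum_repr a]
  rw [Finset.sum_eq_single i1 (fun j _ hj => by rw [hzero j hj, zero_smul]) (by simp)]
  simp [b, i1]

theorem exists_endo (c : R) :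
    ∃ f : AlphaP.A p R →ₐc[R] AlphaP.A p R, f (AlphaP.x p R) = c • AlphaP.x p R := by
  let f : AlphaP.A p R →ₐ[R] AlphaP.A p R :=
    AlphaP.lift p R (c • AlphaP.x p R) (by rw [smul_pow, AlphaP.x_pow, smul_zero])
  refine ⟨BialgHom.ofAlgHom f (AlphaP.algHom_ext ?_) (AlphaP.algHom_ext ?_), ?_⟩
  · simp [f]
  · simp [f, TensorProduct.smul_tmul']
  · simp [f]

/-- The group algebra of a monoid has no nonzero primitive element. -/
theorem monoidAlgebra_primitive {G : Type*} [Monoid G] (a : MonoidAlgebra R G)
    (ha : Coalgebra.comul (R := R) a = a ⊗ₜ[R] 1 + 1 ⊗ₜ[R] a) : a = 0 := by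
  classical
  set b := (MonoidAlgebra.basis G R).tensorProduct (MonoidAlgebra.basis G R)
  set c := (MonoidAlgebra.basis G R).repr a
  have ha' : a = c.sum fun g r => r • MonoidAlgebra.basis G R g :=
    ((MonoidAlgebra.basis G R).linearCombination_repr a).symm
  have hΔ : ∀ g h, b.repr (Coalgebra.comul (R := R) a) (g, h) = if g = h then c g else 0 := fun g h => by
    rw [ha', Finsupp.sum, map_sum, map_sum, Finsupp.finsetSum_apply]
    have : ∀ x, b.repr (Coalgebra.comul (R := R) (c x • MonoidAlgebra.basis G R x)) (g, h) =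
        if x = g ∧ x = h then c x else 0 := fun x => by
      rw [map_smul, MonoidAlgebra.basis_apply, MonoidAlgebra.comul_single, CommSemiring.comul_apply,
        map_smul]
      simp only [TensorProduct.map_tmul, MonoidAlgebra.lsingle_apply]
      rw [show MonoidAlgebra.single x (1 : R) = MonoidAlgebra.basis G R x by simp]
      simp only [b, Finsupp.smul_apply, Module.Basis.tensorProduct_repr_tmul_apply, Module.Basis.repr_self,
        Finsupp.single_apply, smul_eq_mul]
      split_ifs <;> grind
    simp only [this]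
    split_ifs with hgh
    · subst hgh
      rw [Finset.sum_eq_single g (fun x _ hx => if_neg fun h => hx h.1) (fun hg => by
        simpa using Finsupp.notMem_support_iff.mp hg)]
      simp
    · exact Finset.sum_eq_zero fun x _ => if_neg fun hx => hgh (hx.1.symm.trans hx.2)
  have h1 : ∀ g h, b.repr (Coalgebra.comul (R := R) a) (g, h) =
      c g * (if 1 = h then 1 else 0) + (if 1 = g then 1 else 0) * c h := fun g h => by
    rw [ha, map_add, Finsupp.add_apply, show (1 : MonoidAlgebra R G) = MonoidAlgebra.basis G R 1 by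
      simp [MonoidAlgebra.one_def]]
    simp only [b, Module.Basis.tensorProduct_repr_tmul_apply, Module.Basis.repr_self, Finsupp.single_apply,
      smul_eq_mul, c]
    split_ifs <;> ring
  have hc : c = 0 := Finsupp.ext fun g => by
    by_cases hg : g = 1
    · subst hg
      have := (hΔ 1 1).symm.trans (h1 1 1)
      simpa using this
    · have := (hΔ g 1).symm.trans (h1 g 1)
      simpa [hg, Ne.symm hg] using this.symm
  simpa [c] using hc

end GrothLib.HopfAG

namespace GrothLib.HopfAG

theorem isGroupLikeElem_constGrp {k : Type u} [CommRing k] {G : Type*} [Group G] [Fintype G] [DecidableEq G]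
    {f : ConstGrp.F k G} (h1 : f 1 = 1) (hm : ∀ a b, f (a * b) = f a * f b) : IsGroupLikeElem k f where
  counit_eq_one := h1
  comul_eq_tmul_self := by
    rw [ConstGrp.comul_eq_sum]
    conv_rhs => rw [ConstGrp.eq_sum_smul_e f, TensorProduct.sum_tmul]
    refine Finset.sum_congr rfl fun a _ => ?_
    rw [TensorProduct.tmul_sum]
    refine Finset.sum_congr rfl fun b _ => ?_
    rw [TensorProduct.smul_tmul_smul, hm]

theorem apply_mul_of_isGroupLikeElem {k : Type u} [CommRing k] {G : Type*} [Group G] [Fintype G]
    [DecidableEq G] {f : ConstGrp.F k G} (h : IsGroupLikeElem k f) (a b : G) : f (a * b) = f a * f b := by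
  have h2 := congrArg (Algebra.TensorProduct.lift (ConstGrp.ev k a) (ConstGrp.ev k b) fun _ _ => .all _ _)
    h.comul_eq_tmul_self
  rw [ConstGrp.comul_eq_sum] at h2
  simpa [ConstGrp.e_apply, Finset.sum_ite_eq, eq_comm] using h2

theorem nonempty_constGrp_equiv_iff (k : Type u) [Field k] (n : ℕ) [NeZero n] :
    Nonempty (ConstGrp.F k (Multiplicative (ZMod n)) ≃ₐc[k] MonoidAlgebra k (Multiplicative (ZMod n))) ↔
      ∃ ζ : k, IsPrimitiveRoot ζ n := by
  classical
  refine ⟨fun ⟨e⟩ => ?_, fun ⟨ζ, hζ⟩ => ?_⟩
  · set G := Multiplicative (ZMod n)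
    let f : G → ConstGrp.F k G := fun g => e.symm (MonoidAlgebra.single g 1)
    have hf : ∀ g, IsGroupLikeElem k (f g) := fun g =>
      (MonoidAlgebra.isGroupLikeElem_single_one g).map e.symm
    let t : G := Multiplicative.ofAdd 1
    have hpow : ∀ g (m : ℕ), f g (t ^ m) = f g t ^ m := fun g m => by
      induction m with
      | zero => rw [pow_zero, pow_zero]; exact (hf g).counit_eq_one
      | succ m ih => rw [pow_succ, pow_succ, apply_mul_of_isGroupLikeElem (hf g), ih]
    have htn : t ^ n = 1 := Multiplicative.toAdd.injective (by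
      rw [toAdd_pow, toAdd_one, toAdd_ofAdd, nsmul_one, ZMod.natCast_self])
    have hχ : ∀ g, f g t ^ n = 1 := fun g => by
      rw [← hpow, htn]
      exact (hf g).counit_eq_one
    let χ : G → rootsOfUnity n k := fun g => rootsOfUnity.mkOfPowEq (f g t) (hχ g)
    have hinj : Function.Injective χ := by
      intro g g' hgg
      have ht : f g t = f g' t := by simpa [χ] using congrArg (fun z : rootsOfUnity n k => ((z : kˣ) : k)) hgg
      have hff : f g = f g' := ConstGrp.ext fun z => by
        obtain ⟨m, rfl⟩ : ∃ m : ℕ, t ^ m = z := ⟨(Multiplicative.toAdd z).val,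
          Multiplicative.toAdd.injective (by
            rw [toAdd_pow, toAdd_ofAdd, nsmul_one, ZMod.natCast_rightInverse])⟩
        rw [hpow, hpow, ht]
      exact MonoidAlgebra.single_left_injective one_ne_zero (e.symm.toAlgEquiv.injective hff)
    have hcard : Nat.card (rootsOfUnity n k) = n := by
      refine le_antisymm (card_rootsOfUnity k n) ?_
      have h := Nat.card_le_card_of_injective χ hinj
      simpa [G, Nat.card_eq_fintype_card] using h
    obtain ⟨z, hz⟩ := IsCyclic.exists_ofOrder_eq_natCard (α := rootsOfUnity n k)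
    refine ⟨((z : kˣ) : k), ?_⟩
    rw [IsPrimitiveRoot.iff_orderOf, orderOf_units, orderOf_submonoid]
    rw [hz, hcard]
  · set G := Multiplicative (ZMod n)
    let ψ : AddChar (ZMod n) k := AddChar.zmodChar n hζ.pow_eq_one
    let χ : G →* ConstGrp.F k G :=
      { toFun := fun g h => ψ (g.toAdd * h.toAdd)
        map_one' := ConstGrp.ext fun h => by simp
        map_mul' := fun g g' => ConstGrp.ext fun h =>
          (congrArg ψ (add_mul (Multiplicative.toAdd g) (Multiplicative.toAdd g') _)).trans
            (ψ.map_add_eq_mul _ _) }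
    let L : MonoidAlgebra k G →ₐ[k] ConstGrp.F k G := MonoidAlgebra.lift k _ G χ
    have hgl : ∀ g, IsGroupLikeElem k (χ g) := fun g => isGroupLikeElem_constGrp (by simp [χ])
      fun a b => (congrArg ψ (mul_add (Multiplicative.toAdd g) (Multiplicative.toAdd a)
        (Multiplicative.toAdd b))).trans (ψ.map_add_eq_mul _ _)
    let φ : G → (G →* k) := fun g =>
      { toFun := fun h => χ g h
        map_one' := by simp [χ]
        map_mul' := fun a b => (congrArg ψ (mul_add (Multiplicative.toAdd g) (Multiplicative.toAdd a)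
          (Multiplicative.toAdd b))).trans (ψ.map_add_eq_mul _ _) }
    have hφ : Function.Injective φ := fun g g' h => by
      have h1 := DFunLike.congr_fun h (Multiplicative.ofAdd 1)
      simp only [φ, χ, MonoidHom.coe_mk, OneHom.coe_mk, toAdd_ofAdd, mul_one, ψ, AddChar.zmodChar_apply] at h1
      exact Multiplicative.toAdd.injective (ZMod.val_injective n
        (hζ.pow_inj (ZMod.val_lt _) (ZMod.val_lt _) h1))
    have hind : LinearIndependent k χ := (linearIndependent_monoidHom G k).comp φ hφ
    have hL : Function.Bijective L := by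
      have hi : Function.Injective L := by
        rw [injective_iff_map_eq_zero]
        intro z hz
        rw [← (MonoidAlgebra.basis G k).sum_repr z] at hz ⊢
        simp only [map_sum, map_smul, MonoidAlgebra.basis_apply, L, MonoidAlgebra.lift_single, one_smul] at hz
        simp [Fintype.linearIndependent_iff.mp hind _ hz]
      refine ⟨hi, (LinearMap.injective_iff_surjective_of_finrank_eq_finrank (f := L.toLinearMap) ?_).mp hi⟩
      rw [Module.finrank_eq_card_basis (MonoidAlgebra.basis G k),
        Module.finrank_eq_card_basis (ConstGrp.basis k G)]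
    refine ⟨(BialgEquiv.ofBijective (BialgHom.ofAlgHom L ?_ ?_) hL).symm⟩
    · refine MonoidAlgebra.algHom_ext (fun g => ?_) (Subsingleton.elim _ _)
      change Coalgebra.counit (R := k) (L (MonoidAlgebra.single g 1)) = _
      simp [L, χ]
    · refine MonoidAlgebra.algHom_ext (fun g => ?_) (Subsingleton.elim _ _)
      change Algebra.TensorProduct.map L L (Coalgebra.comul (R := k) (MonoidAlgebra.single g (1 : k))) =
        Coalgebra.comul (R := k) (L (MonoidAlgebra.single g 1))
      rw [show L (MonoidAlgebra.single g 1) = χ g by simp [L], (hgl g).comul_eq_tmul_self,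
        (MonoidAlgebra.isGroupLikeElem_single_one g).comul_eq_tmul_self]
      simp [L]

end GrothLib.HopfAG
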