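import Groth.Agent.Lib.HopfAG.Trig
import Groth.Agent.Lib.HopfAG.UnipFun
import Mathlib.RingTheory.Valuation.ValuationRing
import Mathlib.RingTheory.Bialgebra.TensorProduct
import Mathlib.RingTheory.Flat.Basic

/-!
# From the generic fibre to the special fibre

A subspace `F` of the regular representation of the generic fibre of a flat affine group scheme cuts
out a saturated lattice in the ring of functions, and the reduction of this lattice inherits
stability under the comultiplication from `F`.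
-/

universe u

set_option linter.style.haveILetI false

open TensorProduct HopfRep GrothLib.Unip

namespace GrothLib.SpecialFibre

variable {A : Type u} [CommRing A] (K : Type u) [Field K] [Algebra A K] (κ : Type u) [Field κ]
  [Algebra A κ] {H : Type u} [CommRing H] [Bialgebra A H]

/-- The map `H ⊗ H → (K ⊗ H) ⊗ (K ⊗ H)`. -/
noncomputable def pair : H ⊗[A] H →ₗ[A] (K ⊗[A] H) ⊗[K] (K ⊗[A] H) :=
  TensorProduct.lift (LinearMap.mk₂ A (fun x y => ((1 : K) ⊗ₜ[A] x) ⊗ₜ[K] ((1 : K) ⊗ₜ[A] y))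
    (fun x x' y => by rw [TensorProduct.tmul_add, TensorProduct.add_tmul])
    (fun a x y => by rw [TensorProduct.tmul_smul, ← TensorProduct.smul_tmul'])
    (fun x y y' => by rw [TensorProduct.tmul_add, TensorProduct.tmul_add])
    (fun a x y => by
      rw [TensorProduct.tmul_smul, ← algebraMap_smul K a ((1 : K) ⊗ₜ[A] y), TensorProduct.tmul_smul,
        algebraMap_smul]))

@[simp] lemma pair_tmul (x y : H) :
    pair K (x ⊗ₜ[A] y) = ((1 : K) ⊗ₜ[A] x) ⊗ₜ[K] ((1 : K) ⊗ₜ[A] y) := rfl

lemma comul_one_tmul (h : H) :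
    Coalgebra.comul (R := K) ((1 : K) ⊗ₜ[A] h) = pair K (Coalgebra.comul (R := A) h) := by
  rw [TensorProduct.comul_tmul, CommSemiring.comul_apply]
  induction Coalgebra.comul (R := A) h using TensorProduct.induction_on with
  | zero => simp
  | tmul x y => simp
  | add x y hx hy => simp only [TensorProduct.tmul_add, map_add, hx, hy]

lemma dev_one_tmul (h : H) :
    dev (K ⊗[A] H) ((1 : K) ⊗ₜ[A] h) = pair K (Coalgebra.comul (R := A) h - h ⊗ₜ[A] 1) := by
  rw [dev_apply, map_sub, pair_tmul, ← comul_one_tmul]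
  rfl

variable {K}

/-- The elements of `H` lying in `F` on the generic fibre. -/
noncomputable def pull (F : Submodule K (K ⊗[A] H)) : Submodule A H :=
  (F.restrictScalars A).comap (TensorProduct.mk A K H 1)

lemma mem_pull {F : Submodule K (K ⊗[A] H)} {h : H} : h ∈ pull F ↔ (1 : K) ⊗ₜ[A] h ∈ F := Iff.rfl

/-- The reduction of `F`. -/
noncomputable def red (F : Submodule K (K ⊗[A] H)) : Submodule κ (κ ⊗[A] H) :=
  Submodule.span κ ((fun h => (1 : κ) ⊗ₜ[A] h) '' (pull F : Set H))

lemma tmul_mem_red {F : Submodule K (K ⊗[A] H)} {h : H} (hh : h ∈ pull F) :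
    (1 : κ) ⊗ₜ[A] h ∈ red κ F :=
  Submodule.subset_span ⟨h, hh, rfl⟩

lemma red_mono {F F' : Submodule K (K ⊗[A] H)} (h : F ≤ F') : red κ F ≤ red κ F' :=
  Submodule.span_mono (Set.image_mono fun _ hx => h hx)

variable [Module.Flat A H]

/-- What lands in `F ⊗ (K ⊗ H)` on the generic fibre reduces into `red F ⊗ (κ ⊗ H)`. -/
theorem pair_mem_range (F : Submodule K (K ⊗[A] H)) (t : H ⊗[A] H)
    (ht : pair K t ∈ LinearMap.range (F.subtype.rTensor (K ⊗[A] H))) :
    pair κ t ∈ LinearMap.range ((red κ F).subtype.rTensor (κ ⊗[A] H)) := by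
  let f : H →ₗ[A] (K ⊗[A] H) ⧸ F := (F.mkQ.restrictScalars A) ∘ₗ TensorProduct.mk A K H 1
  have hf : pull F = LinearMap.ker f := by
    ext h
    rw [LinearMap.mem_ker, mem_pull]
    exact (Submodule.Quotient.mk_eq_zero F).symm
  let ι : H ⧸ pull F →ₗ[A] (K ⊗[A] H) ⧸ F := (pull F).liftQ f hf.le
  have hι : Function.Injective ι := LinearMap.ker_eq_bot.mp (Submodule.ker_liftQ_eq_bot _ _ _ hf.ge)
  let e := TensorProduct.AlgebraTensorModule.cancelBaseChange A K K ((K ⊗[A] H) ⧸ F) H
  have he : ∀ s : H ⊗[A] H,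
      e (F.mkQ.rTensor (K ⊗[A] H) (pair K s)) = ι.rTensor H ((pull F).mkQ.rTensor H s) := fun s => by
    induction s using TensorProduct.induction_on with
    | zero => simp
    | tmul x y => simp [e, ι, f]
    | add x y hx hy => simp only [map_add, hx, hy]
  have h0 : (pull F).mkQ.rTensor H t = 0 := by
    refine Module.Flat.rTensor_preserves_injective_linearMap ι hι ?_
    rw [map_zero, ← he]
    obtain ⟨w, hw⟩ := ht
    rw [← hw, ← LinearMap.comp_apply, ← LinearMap.rTensor_comp,
      show F.mkQ ∘ₗ F.subtype = 0 from LinearMap.ext fun x =>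
        (Submodule.Quotient.mk_eq_zero _).mpr x.2,
      LinearMap.rTensor_zero, LinearMap.zero_apply, map_zero]
  obtain ⟨w, rfl⟩ :=
    ((rTensor_exact H (LinearMap.exact_subtype_mkQ (pull F)) (Submodule.mkQ_surjective _)) t).mp h0
  induction w using TensorProduct.induction_on with
  | zero => simp
  | tmul m y =>
    rw [LinearMap.rTensor_tmul, pair_tmul]
    exact tmul_mem_range (tmul_mem_red κ m.2) _
  | add x y hx hy =>
    rw [map_add, map_add]
    have aux : ∀ z, pair K ((pull F).subtype.rTensor H z) ∈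
        LinearMap.range (F.subtype.rTensor (K ⊗[A] H)) := fun z => by
      induction z using TensorProduct.induction_on with
      | zero => simp
      | tmul m y => exact tmul_mem_range (V := K ⊗[A] H) m.2 _
      | add p q hp hq => rw [map_add, map_add]; exact add_mem hp hq
    have aux0 : ∀ z, (pull F).mkQ.rTensor H ((pull F).subtype.rTensor H z) = 0 := fun z => by
      rw [← LinearMap.comp_apply, ← LinearMap.rTensor_comp,
        show (pull F).mkQ ∘ₗ (pull F).subtype = 0 from LinearMap.ext fun x =>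
          (Submodule.Quotient.mk_eq_zero _).mpr x.2,
        LinearMap.rTensor_zero, LinearMap.zero_apply]
    exact add_mem (hx (aux x) (aux0 x)) (hy (aux y) (aux0 y))

theorem isSubcomod_red {F : Submodule K (K ⊗[A] H)} (hF : IsSubcomod (k := K) (A := K ⊗[A] H) F) :
    IsSubcomod (k := κ) (A := κ ⊗[A] H) (red κ F) := by
  intro z hz
  induction hz using Submodule.span_induction with
  | mem z hz =>
    obtain ⟨h, hh, rfl⟩ := hz
    change Coalgebra.comul (R := κ) ((1 : κ) ⊗ₜ[A] h) ∈ _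
    rw [comul_one_tmul]
    refine pair_mem_range κ F _ ?_
    rw [← comul_one_tmul]
    exact hF _ hh
  | zero => simp
  | add x y _ _ hx hy => rw [map_add]; exact add_mem hx hy
  | smul c x _ hx => rw [map_smul]; exact Submodule.smul_mem _ _ hx

theorem red_soc_le (hinj : Function.Injective (algebraMap A K)) :
    ∀ n, red κ (soc K (K ⊗[A] H) (K ⊗[A] H) n) ≤ soc κ (κ ⊗[A] H) (κ ⊗[A] H) n
  | 0 => by
    refine Submodule.span_le.mpr ?_
    rintro _ ⟨h, hh, rfl⟩
    have h1 : (1 : K) ⊗ₜ[A] h = 0 := hh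
    haveI : FaithfulSMul A K := (faithfulSMul_iff_algebraMap_injective A K).mpr hinj
    have h2 : h = 0 := Module.Flat.tensorProduct_mk_injective (R := A) (M := H) (S := K)
      (h1.trans (map_zero ((TensorProduct.mk A K H) 1)).symm)
    simp [h2]
  | n + 1 => by
    refine Submodule.span_le.mpr ?_
    rintro _ ⟨h, hh, rfl⟩
    have h1 : dev (K ⊗[A] H) ((1 : K) ⊗ₜ[A] h) ∈
        LinearMap.range ((soc K (K ⊗[A] H) (K ⊗[A] H) n).subtype.rTensor _) := hh
    rw [dev_one_tmul] at h1
    rw [SetLike.mem_coe, soc_succ, mem_next, ← dev_apply]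
    rw [dev_one_tmul]
    exact Comodule.range_subtype_rTensor_mono (C := κ ⊗[A] H) (red_soc_le hinj n)
      (pair_mem_range κ _ _ h1)

omit [Module.Flat A H] in
lemma exists_one_tmul (hκ : Function.Surjective (algebraMap A κ)) (z : κ ⊗[A] H) :
    ∃ h : H, (1 : κ) ⊗ₜ[A] h = z := by
  induction z using TensorProduct.induction_on with
  | zero => exact ⟨0, TensorProduct.tmul_zero _ _⟩
  | tmul c h =>
    obtain ⟨a, rfl⟩ := hκ c
    exact ⟨a • h, by rw [TensorProduct.tmul_smul, TensorProduct.smul_tmul', Algebra.algebraMap_eq_smul_one]⟩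
  | add x y hx hy =>
    obtain ⟨p, rfl⟩ := hx
    obtain ⟨q, rfl⟩ := hy
    exact ⟨p + q, TensorProduct.tmul_add _ _ _⟩

variable (K) in
/-- Unipotence passes from the generic fibre to the special fibre. -/
theorem isUnipotent_special (hinj : Function.Injective (algebraMap A K))
    (hκ : Function.Surjective (algebraMap A κ)) (hK : IsUnipotent K (K ⊗[A] H)) :
    IsUnipotent κ (κ ⊗[A] H) := by
  refine isUnipotent_of_forall_mem_soc fun z => ?_
  obtain ⟨h, rfl⟩ := exists_one_tmul κ hκ z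
  obtain ⟨n, hn⟩ := exists_mem_soc hK ((1 : K) ⊗ₜ[A] h)
  exact ⟨n, red_soc_le κ hinj n (tmul_mem_red κ hn)⟩

omit [Module.Flat A H] in
lemma exists_red_le_sup [IsDomain A] [ValuationRing A] [IsFractionRing A K]
    {F F' : Submodule K (K ⊗[A] H)} {w : K ⊗[A] H} (hle : F' ≤ F ⊔ Submodule.span K {w}) :
    ∃ v, red κ F' ≤ red κ F ⊔ Submodule.span κ {v} := by
  by_cases hall : ∀ y ∈ pull F', (1 : κ) ⊗ₜ[A] y ∈ red κ F
  · refine ⟨0, le_trans (Submodule.span_le.mpr ?_) le_sup_left⟩
    rintro _ ⟨y, hy, rfl⟩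
    exact hall y hy
  push Not at hall
  obtain ⟨x, hx, hxF⟩ := hall
  refine ⟨(1 : κ) ⊗ₜ[A] x, Submodule.span_le.mpr ?_⟩
  rintro _ ⟨y, hy, rfl⟩
  change (1 : κ) ⊗ₜ[A] y ∈ red κ F ⊔ Submodule.span κ {(1 : κ) ⊗ₜ[A] x}
  obtain ⟨a, ha, b, hb, hab⟩ := Submodule.mem_sup.mp (hle (mem_pull.mp hx))
  obtain ⟨a', ha', b', hb', hab'⟩ := Submodule.mem_sup.mp (hle (mem_pull.mp hy))
  obtain ⟨s, rfl⟩ := Submodule.mem_span_singleton.mp hb
  obtain ⟨s', rfl⟩ := Submodule.mem_span_singleton.mp hb'
  have key : ∀ (r : A) (p q : H) (c d : K) (a a' : K ⊗[A] H), a ∈ F → a' ∈ F →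
      a + c • w = (1 : K) ⊗ₜ[A] p → a' + d • w = (1 : K) ⊗ₜ[A] q → algebraMap A K r * c = d →
      (1 : κ) ⊗ₜ[A] q - algebraMap A κ r • ((1 : κ) ⊗ₜ[A] p) ∈ red κ F := by
    intro r p q c d a a' ha ha' hp hq hcd
    have : q - r • p ∈ pull F := by
      rw [mem_pull, TensorProduct.tmul_sub, TensorProduct.tmul_smul, ← hp, ← hq, ← hcd,
        ← algebraMap_smul K r (a + c • w), smul_add, smul_smul]
      simpa [add_sub_add_right_eq_sub] using sub_mem ha' (F.smul_mem (algebraMap A K r) ha)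
    have h := tmul_mem_red κ this
    rwa [TensorProduct.tmul_sub, TensorProduct.tmul_smul, ← algebraMap_smul κ r] at h
  have hs : s ≠ 0 := fun hs => hxF (tmul_mem_red κ (mem_pull.mpr (by
    rw [← hab, hs, zero_smul, add_zero]; exact ha)))
  rcases ValuationRing.isInteger_or_isInteger A (s' / s) with ⟨r, hr⟩ | ⟨r, hr⟩
  · have h := key r x y s s' a a' ha ha' hab hab' (by rw [hr, div_mul_cancel₀ _ hs])
    have h2 := add_mem (Submodule.mem_sup_left (T := Submodule.span κ {(1 : κ) ⊗ₜ[A] x}) h)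
      (Submodule.smul_mem _ (algebraMap A κ r) (Submodule.mem_sup_right (S := red κ F)
        (Submodule.mem_span_singleton_self ((1 : κ) ⊗ₜ[A] x))))
    rwa [sub_add_cancel] at h2
  · by_cases hs' : s' = 0
    · refine Submodule.mem_sup_left (tmul_mem_red κ (mem_pull.mpr ?_))
      rw [← hab', hs', zero_smul, add_zero]
      exact ha'
    have h := key r y x s' s a' a ha' ha hab' hab (by rw [hr, inv_div, div_mul_cancel₀ _ hs'])
    have hr0 : algebraMap A κ r ≠ 0 := fun e => hxF (by rw [e, zero_smul, sub_zero] at h; exact h)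
    rw [← inv_smul_smul₀ hr0 ((1 : κ) ⊗ₜ[A] y)]
    refine Submodule.smul_mem _ _ ?_
    have h2 := sub_mem (Submodule.mem_sup_right (S := red κ F)
      (Submodule.mem_span_singleton_self ((1 : κ) ⊗ₜ[A] x))) (Submodule.mem_sup_left h)
    rwa [sub_sub_cancel] at h2

variable (K) in
/-- Trigonalizability passes from the generic fibre to the special fibre. -/
theorem isTrigonalizable_special [IsDomain A] [ValuationRing A] [IsFractionRing A K]
    (hκ : Function.Surjective (algebraMap A κ)) (hK : IsTrigonalizable K (K ⊗[A] H)) :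
    IsTrigonalizable κ (κ ⊗[A] H) := by
  refine GrothLib.Trig.isTrigonalizable_of_chains fun z => ?_
  obtain ⟨h, rfl⟩ := exists_one_tmul κ hκ z
  obtain ⟨n, F, hFc, hF0, hn, hstep⟩ := GrothLib.Trig.exists_chain hK ((1 : K) ⊗ₜ[A] h)
  refine ⟨n, fun i => red κ (F i), fun i => isSubcomod_red κ (hFc i), ?_, tmul_mem_red κ hn,
    fun i => exists_red_le_sup κ (hstep i).choose_spec⟩
  rw [show red κ (F 0) = ⊥ ↔ red κ (F 0) ≤ soc κ (κ ⊗[A] H) (κ ⊗[A] H) 0 from le_bot_iff.symm, hF0]
  exact red_soc_le κ (IsFractionRing.injective A K) 0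

end GrothLib.SpecialFibre
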